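import Groth.Agent.LC.DepthFlatFibre
import Groth.Agent.Alg6.AssDepth
import Mathlib.RingTheory.Regular.Flat
import Mathlib.RingTheory.PowerSeries.Inverse

/-!
Depth of power series rings and flat ascent of depth.
-/

universe u

open IsLocalRing RingTheory.Sequence
open scoped Pointwise

set_option linter.style.haveILetI false

namespace Groth.Agent.ParaF2

/-- Depth does not drop along flat local homomorphisms. -/
theorem le_depth_of_flat (B B' : Type u) [CommRing B] [CommRing B'] [IsLocalRing B] [IsLocalRing B']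
    [IsNoetherianRing B] [IsNoetherianRing B'] [Algebra B B'] [Module.Flat B B'] [IsLocalHom (algebraMap B B')] {n : ℕ}
    (h : (n : ℕ∞) ≤ LocCoh.depth B B) : (n : ℕ∞) ≤ LocCoh.depth B' B' := by
  obtain ⟨rs, hrs, hmem, hlen⟩ := Alg6.exists_length_ge_of_le_idealDepth
    (LC.smul_top_ne_top_of_le_maximal (M := B) (le_refl (maximalIdeal B))) h
  refine le_trans ?_ (Alg6.length_le_idealDepth (hrs.of_flat (S := B')) fun r hr => ?_)
  · simpa using hlen
  · obtain ⟨s, hs, rfl⟩ := List.mem_map.1 hr
    exact map_nonunit (algebraMap B B') s (hmem s hs)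

/-- If `D⟦T⟧` has depth at least `n + 1` then `D` has depth at least `n`. -/
theorem le_depth_of_powerSeries (D : Type u) [CommRing D] [IsLocalRing D] [IsNoetherianRing D] {n : ℕ}
    (h : ((n + 1 : ℕ) : ℕ∞) ≤ LocCoh.depth (PowerSeries D) (PowerSeries D)) :
    (n : ℕ∞) ≤ LocCoh.depth D D := by
  let P := PowerSeries D
  have hX : (PowerSeries.X : P) ∈ maximalIdeal P := fun hu => not_isUnit_zero
    (PowerSeries.constantCoeff_X (R := D) ▸ hu.map (PowerSeries.constantCoeff (R := D)))
  have hreg : IsSMulRegular P (PowerSeries.X : P) := fun a b hab =>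
    mul_left_cancel₀' hab
  have h' := (LC.le_idealDepth_quotSMulTop_iff (M := P) (maximalIdeal P) hX hreg n).2 h
  haveI : Nontrivial (QuotSMulTop (PowerSeries.X : P) P) := Submodule.Quotient.nontrivial_iff.2 (by
    rw [← Submodule.ideal_span_singleton_smul]
    exact LC.smul_top_ne_top_of_le_maximal (M := P) ((Ideal.span_singleton_le_iff_mem _).2 hX))
  obtain ⟨rs, hrs, hmem, hlen⟩ := Alg6.exists_length_ge_of_le_idealDepth
    (LC.smul_top_ne_top_of_le_maximal (M := QuotSMulTop (PowerSeries.X : P) P) (le_refl (maximalIdeal P))) h'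
  let cc : P →+* D := PowerSeries.constantCoeff
  let φ : P →+ D := cc.toAddMonoidHom
  have hφs : Function.Surjective φ := fun d => ⟨PowerSeries.C d, PowerSeries.constantCoeff_C d⟩
  have hker : φ.ker = ((PowerSeries.X : P) • (⊤ : Submodule P P)).toAddSubgroup := by
    ext p
    rw [AddMonoidHom.mem_ker, Submodule.mem_toAddSubgroup, Submodule.mem_smul_pointwise_iff_exists]
    show cc p = 0 ↔ _
    constructor
    · intro hp
      obtain ⟨q, rfl⟩ := PowerSeries.X_dvd_iff.2 hp
      exact ⟨q, trivial, rfl⟩
    · rintro ⟨q, -, rfl⟩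
      show cc ((PowerSeries.X : P) * q) = 0
      rw [map_mul]
      exact mul_eq_zero_of_left (PowerSeries.constantCoeff_X (R := D)) _
  let e : QuotSMulTop (PowerSeries.X : P) P ≃+ D :=
    (QuotientAddGroup.quotientAddEquivOfEq hker.symm).trans
      (QuotientAddGroup.quotientKerEquivOfSurjective φ hφs)
  have hw : IsWeaklyRegular D (rs.map cc) := by
    refine ((AddEquiv.isWeaklyRegular_congr (e := e) ?_).1 hrs)
    refine List.forall₂_map_right_iff.mpr (List.forall₂_same.mpr fun r _ x => ?_)
    obtain ⟨x, rfl⟩ := Submodule.Quotient.mk_surjective _ x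
    show φ (r • x) = cc r * φ x
    exact map_mul cc r x
  refine le_trans ?_ (Alg6.length_le_idealDepth hw fun r hr => ?_)
  · simpa using hlen
  · obtain ⟨s, hs, rfl⟩ := List.mem_map.1 hr
    intro hu
    exact hmem s hs (PowerSeries.isUnit_iff_constantCoeff.2 hu)
where
  mul_left_cancel₀' {a b : PowerSeries D} (hab : PowerSeries.X • a = PowerSeries.X • b) : a = b :=
    PowerSeries.X_mul_cancel hab

end Groth.Agent.ParaF2
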