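import Groth.Agent.ParaF2.Local
import Groth.Agent.InvX.GenLocusPull

/-!
Flat descent of parafactorial pairs.
-/

universe u

open CategoryTheory CategoryTheory.Limits AlgebraicGeometry TopologicalSpace Opposite
open scoped TensorProduct

set_option linter.style.haveILetI false
set_option backward.isDefEq.respectTransparency false
set_option backward.isDefEq.respectTransparency.types false

namespace Groth.Agent.ParaF2

open Groth.Agent.AModX Groth.Agent.InvX Groth.Agent.ParaFX Groth.Agent.H23.TrivBasic

/-- A linear map which becomes bijective after flat base changes with jointly surjective spectra is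
bijective. -/
theorem bijective_of_flat_family {R M N : Type u} [CommRing R] [AddCommGroup M] [Module R M]
    [AddCommGroup N] [Module R N] (g : M →ₗ[R] N)
    (h : ∀ p : PrimeSpectrum R, ∃ (B : Type u) (_ : CommRing B) (_ : Algebra R B), Module.Flat R B ∧
      p ∈ Set.range (PrimeSpectrum.comap (algebraMap R B)) ∧ Function.Bijective (g.lTensor B)) :
    Function.Bijective g := by
  have hzero : ∀ (K : Type u) [AddCommGroup K] [Module R K],
      (∀ (B : Type u) [CommRing B] [Algebra R B], Module.Flat R B → Function.Bijective (g.lTensor B) →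
        ∀ z : B ⊗[R] K, z = 0) → ∀ x : K, x = 0 := by
    intro K _ _ hK x
    let I : Ideal R := LinearMap.ker (LinearMap.toSpanSingleton R K x)
    suffices hI : I = ⊤ by
      have : (1 : R) ∈ I := by rw [hI]; trivial
      simpa [I] using this
    by_contra hI
    obtain ⟨m, hm, hIm⟩ := Ideal.exists_le_maximal I hI
    obtain ⟨B, _, _, hflat, ⟨P, hP⟩, hbij⟩ := h ⟨m, hm.isPrime⟩
    have hinj : Function.Injective (((LinearMap.range (LinearMap.toSpanSingleton R K x)).subtype).lTensor B) :=
      Module.Flat.lTensor_preserves_injective_linearMap _ Subtype.val_injective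
    have hsurj := LinearMap.lTensor_surjective B (g := (LinearMap.toSpanSingleton R K x).rangeRestrict)
      (LinearMap.surjective_rangeRestrict _)
    have hex := lTensor_exact B (f := I.subtype) (g := (LinearMap.toSpanSingleton R K x).rangeRestrict)
      (fun r => by
        constructor
        · intro hr
          exact ⟨⟨r, by simpa [I, Subtype.ext_iff] using hr⟩, rfl⟩
        · rintro ⟨⟨r', hr'⟩, rfl⟩
          simpa [I, Subtype.ext_iff] using hr') (LinearMap.surjective_rangeRestrict _)
    obtain ⟨z, hz⟩ := (hex (1 ⊗ₜ[R] (1 : R))).1 (hinj (by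
      rw [map_zero]
      exact hK B hflat hbij _))
    have hmem : ∀ z : B ⊗[R] I, TensorProduct.rid R B (I.subtype.lTensor B z) ∈ I.map (algebraMap R B) := by
      intro z
      induction z using TensorProduct.induction_on with
      | zero => simp
      | tmul b r =>
        simp only [LinearMap.lTensor_tmul, TensorProduct.rid_tmul, Submodule.coe_subtype, Algebra.smul_def]
        exact Ideal.mul_mem_right _ _ (Ideal.mem_map_of_mem _ r.2)
      | add z w hz hw => simp only [map_add]; exact Ideal.add_mem _ hz hw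
    have h1 := hmem z
    rw [hz, TensorProduct.rid_tmul, one_smul] at h1
    refine P.2.ne_top ((Ideal.eq_top_iff_one _).2 (Ideal.map_le_iff_le_comap.2 ?_ h1))
    exact hIm.trans (congrArg PrimeSpectrum.asIdeal hP).ge
  constructor
  · refine LinearMap.ker_eq_bot.1 ((Submodule.eq_bot_iff _).2 fun x hx => ?_)
    have := hzero (LinearMap.ker g) (fun B _ _ hflat hbij z => by
      refine (Module.Flat.lTensor_preserves_injective_linearMap (M := B) (LinearMap.ker g).subtype
        Subtype.val_injective) (hbij.1 ?_)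
      rw [map_zero, map_zero, ← LinearMap.comp_apply, ← LinearMap.lTensor_comp,
        show g.comp (LinearMap.ker g).subtype = 0 from LinearMap.ext fun y => y.2,
        LinearMap.lTensor_zero]
      rfl) ⟨x, hx⟩
    exact congrArg Subtype.val this
  · intro y
    have := hzero (N ⧸ LinearMap.range g) (fun B _ _ hflat hbij z => by
      obtain ⟨w, rfl⟩ := LinearMap.lTensor_surjective B (g := (LinearMap.range g).mkQ)
        (Submodule.mkQ_surjective _) z
      obtain ⟨v, rfl⟩ := hbij.2 w
      rw [← LinearMap.comp_apply, ← LinearMap.lTensor_comp,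
        show (LinearMap.range g).mkQ.comp g = 0 from LinearMap.ext fun y =>
          (Submodule.Quotient.mk_eq_zero _).2 ⟨y, rfl⟩, LinearMap.lTensor_zero]
      rfl) ((LinearMap.range g).mkQ y)
    exact (Submodule.Quotient.mk_eq_zero _).1 this

section Affine

variable {R : Type u} [CommRing R] {W : Scheme.{u}} (i : W ⟶ Spec (CommRingCat.of R)) [IsOpenImmersion i]

/-- A flat chart around a point over which the pair is parafactorial. -/
def FlatChart (v : PrimeSpectrum R) : Prop :=
  ∃ (B : Type u) (_ : CommRing B) (_ : Algebra R B), Module.Flat R B ∧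
    v ∈ Set.range (PrimeSpectrum.comap (algebraMap R B)) ∧
    Good (pullback.snd i (Spec.map (CommRingCat.ofHom (algebraMap R B)))) ∧
    FnBij (pullback.snd i (Spec.map (CommRingCat.ofHom (algebraMap R B))))

variable [CompactSpace W] [W.IsSeparated]

omit [IsOpenImmersion i] in
theorem bijective_toGlobal_of_charts
    (h : ∀ v : PrimeSpectrum R, ∃ (B : Type u) (_ : CommRing B) (_ : Algebra R B), Module.Flat R B ∧
      v ∈ Set.range (PrimeSpectrum.comap (algebraMap R B)) ∧
      Function.Bijective (Coh.toGlobal (pullback.snd i (Spec.map (CommRingCat.ofHom (algebraMap R B)))))) :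
    Function.Bijective (Coh.toGlobal i) := by
  let O := Coh.structureModule W
  letI := QCoh.secModule (Coh.toGlobal i) O ⊤
  let one : Γ(O, ⊤) := (1 : Γ(W, ⊤))
  have hb : Function.Bijective (LinearMap.toSpanSingleton R Γ(O, ⊤) one) := by
    refine bijective_of_flat_family _ fun v => ?_
    obtain ⟨B, _, _, hflat, hv, hB⟩ := h v
    refine ⟨B, inferInstance, inferInstance, hflat, hv, ?_⟩
    let σ := Spec.map (CommRingCat.ofHom (algebraMap R B))
    let φ := pullback.fst i σ
    let pB := pullback.snd i σ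
    letI := QCoh.secModule (Coh.toGlobal pB) ((Scheme.Modules.pullback φ).obj O) (φ ⁻¹ᵁ ⊤)
    letI := QCoh.secModule ((Coh.toGlobal pB).comp (algebraMap R B)) ((Scheme.Modules.pullback φ).obj O) (φ ⁻¹ᵁ ⊤)
    haveI : IsScalarTower R B Γ((Scheme.Modules.pullback φ).obj O, φ ⁻¹ᵁ ⊤) := .of_algebraMap_smul fun _ _ => rfl
    haveI := hflat
    obtain ⟨e, he, het⟩ := BaseDescent.bijective_lift (IsPullback.of_hasPullback i σ)
      (InvX.isInvertible_structureModule (X := W))
    have hfr := (InvX.isFrame_pullElt φ (InvX.isFrame_one (X := W) ⊤) (φ ⁻¹ᵁ ⊤) le_rfl)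
    refine (Function.Bijective.of_comp_iff' he _).1 ?_
    refine (Function.Bijective.of_comp_iff _ (TensorProduct.rid R B).symm.bijective).1 ?_
    convert hfr.comp hB using 1
    funext b
    show e ((LinearMap.toSpanSingleton R Γ(O, ⊤) one).lTensor B ((TensorProduct.rid R B).symm b)) = _
    rw [TensorProduct.rid_symm_apply, LinearMap.lTensor_tmul,
      show LinearMap.toSpanSingleton R Γ(O, ⊤) one 1 = one from LinearMap.toSpanSingleton_apply_one ..,
      het]
    exact congrArg _ (AModX.res_self _).symm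
  refine (congrArg Function.Bijective (show ((LinearMap.toSpanSingleton R Γ(O, ⊤) one : R →ₗ[R] Γ(O, ⊤)) :
    R → Γ(O, ⊤)) = fun a => (show Γ(O, ⊤) from Coh.toGlobal i a) from funext fun a => ?_)).mp hb
  show AModX.resR (le_rfl : (⊤ : W.Opens) ≤ ⊤) (Coh.toGlobal i a) * (1 : Γ(W, ⊤)) = _
  rw [mul_one, AModX.resR_self]

theorem charts_framesNear (h : ∀ v, FlatChart i v) :
    Function.Bijective (Coh.toGlobal i) ∧ ∀ L : W.Modules, PicF.IsInvertible L → FramesNear i L := by
  have hA : Function.Bijective (Coh.toGlobal i) := bijective_toGlobal_of_charts i fun v => by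
    obtain ⟨B, _, _, hflat, hv, -, hfn⟩ := h v
    exact ⟨B, inferInstance, inferInstance, hflat, hv,
      (hfn.app ⊤).comp (ConcreteCategory.bijective_of_isIso (Scheme.ΓSpecIso (CommRingCat.of B)).inv)⟩
  refine ⟨hA, fun L hL v => ?_⟩
  obtain ⟨B, _, _, hflat, ⟨P, hP⟩, hgood, hfn⟩ := h v
  haveI := hflat
  let σ := Spec.map (CommRingCat.ofHom (algebraMap R B))
  let φ := pullback.fst i σ
  let pB := pullback.snd i σ
  let LB := (Scheme.Modules.pullback φ).obj L
  obtain ⟨O, hPO, e, he⟩ := InvX.exists_frame (hgood.push LB (PicLoc.isInvertible_pullback _ hL)) P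
  have he' := isFrame_of_push' pB hfn.app he
  obtain ⟨_, ⟨_, ⟨b, rfl⟩, rfl⟩, hPb, hbO⟩ := PrimeSpectrum.isBasis_basic_opens.exists_subset_of_mem_open
    (show P ∈ (SetLike.coe O : Set (PrimeSpectrum B)) from hPO) O.isOpen
  let B' := Localization.Away b
  haveI : Module.Flat R B' := Module.Flat.trans R B B'
  let σ' := Spec.map (CommRingCat.ofHom (algebraMap R B'))
  let τ : Spec (CommRingCat.of B') ⟶ Spec (CommRingCat.of B) := Spec.map (CommRingCat.ofHom (algebraMap B B'))
  have hσ : σ' = τ ≫ σ := by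
    rw [← Spec.map_comp, ← CommRingCat.ofHom_comp, ← IsScalarTower.algebraMap_eq]
  let φ' := pullback.fst i σ'
  let pB' := pullback.snd i σ'
  let ψ : pullback i σ' ⟶ pullback i σ := pullback.lift φ' (pB' ≫ τ) (by
    rw [Category.assoc, ← hσ, pullback.condition])
  have hle : (⊤ : (pullback i σ').Opens) ≤ ψ ⁻¹ᵁ pB ⁻¹ᵁ O := fun p _ => by
    show pB (ψ p) ∈ O
    rw [← Scheme.Hom.comp_apply, pullback.lift_snd, Scheme.Hom.comp_apply]
    refine hbO ?_
    show τ (pB' p) ∈ (PrimeSpectrum.basicOpen b : Set (PrimeSpectrum B))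
    rw [← PrimeSpectrum.localization_away_comap_range B' b]
    exact ⟨_, rfl⟩
  have htriv : Triv ((Scheme.Modules.pullback φ').obj L) := by
    refine (triv_congr (pullback.lift_fst _ _ _ : ψ ≫ φ = φ')).1 ?_
    exact (triv_comp_iff ψ φ).1 (triv_of_frame ((isFrame_pullElt ψ he').res hle))
  obtain ⟨Q, hQ⟩ : P ∈ Set.range (PrimeSpectrum.comap (algebraMap B B')) := by
    rw [PrimeSpectrum.localization_away_comap_range B' b]; exact hPb
  haveI := Q.2
  obtain ⟨a, ha, s, hs⟩ := BaseDescent.exists_locus (IsPullback.of_hasPullback i σ') hA hL htriv Q.asIdeal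
  refine ⟨PrimeSpectrum.basicOpen a, ?_, res L le_top s, AmpleX.isFrame_res_of_le s (le_trans ?_ hs)⟩
  · show a ∉ v.asIdeal
    rw [← hP, ← hQ]
    intro hav
    exact ha (by rw [IsScalarTower.algebraMap_apply R B B']; exact hav)
  · show i ⁻¹ᵁ PrimeSpectrum.basicOpen a ≤ W.basicOpen (i.appTop ((Scheme.ΓSpecIso (CommRingCat.of R)).inv a))
    rw [← Scheme.preimage_basicOpen_top, basicOpen_eq_of_affine]

end Affine

/-- Parafactorial pairs descend along flat surjective maps, for an open immersion onto the complement. -/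
theorem good_of_flat {U V V' : Scheme.{u}} (j : U ⟶ V) [IsOpenImmersion j] [QuasiCompact j] (f : V' ⟶ V)
    [Flat f] [Surjective f] (Y' : Closeds V') (hY' : Y'.compl = f ⁻¹ᵁ j.opensRange)
    (h : ParaF.IsParafactorialPair V' Y') : Good j := by
  have key : ∀ (A : V.Opens) (hA : IsAffineOpen A),
      Function.Bijective (Coh.toGlobal ((j ∣_ A) ≫ hA.isoSpec.hom)) ∧
      ∀ L, PicF.IsInvertible L → FramesNear ((j ∣_ A) ≫ hA.isoSpec.hom) L := by
    intro A hA
    let i := (j ∣_ A) ≫ hA.isoSpec.hom
    haveI : QuasiCompact (j ∣_ A) :=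
      MorphismProperty.of_isPullback (isPullback_morphismRestrict j A).flip inferInstance
    haveI : CompactSpace ↥(j ⁻¹ᵁ A).toScheme := QuasiCompact.compactSpace_of_compactSpace i
    haveI : IsSeparated (terminal.from (j ⁻¹ᵁ A).toScheme) := by
      rw [← terminal.comp_from i]; infer_instance
    haveI : (j ⁻¹ᵁ A).toScheme.IsSeparated := ⟨this⟩
    refine charts_framesNear i fun v => ?_
    obtain ⟨x', hx'⟩ := f.surjective (hA.fromSpec v)
    have hxA : x' ∈ f ⁻¹ᵁ A := by
      show f x' ∈ A
      rw [hx', ← SetLike.mem_coe, ← hA.range_fromSpec]; exact ⟨v, rfl⟩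
    obtain ⟨_, ⟨A', hA', rfl⟩, hx'A, hle⟩ :=
      V'.isBasis_affineOpens.exists_subset_of_mem_open hxA (f ⁻¹ᵁ A).isOpen
    replace hle : A' ≤ f ⁻¹ᵁ A := hle
    replace hA' : IsAffineOpen A' := hA'
    letI : Algebra Γ(V, A) Γ(V', A') := (f.appLE A A' hle).hom.toAlgebra
    let σ := Spec.map (CommRingCat.ofHom (algebraMap Γ(V, A) Γ(V', A')))
    have hσ : σ ≫ hA.fromSpec = hA'.fromSpec ≫ f := IsAffineOpen.SpecMap_appLE_fromSpec f hA hA' _
    refine ⟨Γ(V', A'), inferInstance, inferInstance, Flat.flat_appLE f hA hA' hle,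
      ⟨hA'.primeIdealOf ⟨x', hx'A⟩, hA.fromSpec.isOpenEmbedding.injective ?_⟩, ?_⟩
    · show (σ ≫ hA.fromSpec) _ = _
      rw [hσ]
      exact (congrArg f (hA'.fromSpec_primeIdealOf ⟨x', hx'A⟩)).trans hx'
    · have hr : (pullback.snd i σ).opensRange = hA'.fromSpec ⁻¹ᵁ Y'.compl := by
        refine Opens.ext ?_
        rw [Scheme.Hom.coe_opensRange, Scheme.Pullback.range_snd]
        ext p
        rw [hY', ← Scheme.Hom.comp_preimage, ← hσ]
        show σ p ∈ Set.range i ↔ hA.fromSpec (σ p) ∈ j.opensRange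
        generalize σ p = q
        constructor
        · rintro ⟨w, rfl⟩
          refine ⟨w.1, ?_⟩
          show j w.1 = (hA.isoSpec.hom ≫ hA.fromSpec) ((j ∣_ A) w)
          rw [hA.isoSpec_hom_fromSpec]
          exact (morphismRestrict_base_coe j A w).symm
        · rintro ⟨u, hu⟩
          have huA : j u ∈ A := by rw [hu, ← SetLike.mem_coe, ← hA.range_fromSpec]; exact ⟨q, rfl⟩
          refine ⟨⟨u, huA⟩, hA.fromSpec.isOpenEmbedding.injective ?_⟩
          rw [← Scheme.Hom.comp_apply, Category.assoc, hA.isoSpec_hom_fromSpec]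
          exact (morphismRestrict_base_coe j A ⟨u, huA⟩).trans hu
      haveI := hA'.isOpenImmersion_fromSpec
      have hg := good_of_openImmersion Y' h hA'.fromSpec (pullback.snd i σ) hr
      refine ⟨hg, fun O => ?_⟩
      have := hg.closed (Coh.structureModule _) InvX.isInvertible_structureModule O _ inf_le_left rfl
      rw [ConcreteCategory.isIso_iff_bijective] at this
      exact this
  have happ : ∀ O : V.Opens, Function.Bijective (j.app O) := by
    refine (fnBij_of_affine j fun A hA => ?_).app
    have h1 := (key A hA).1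
    have h2 : Function.Bijective ((j ∣_ A) ≫ hA.isoSpec.hom).appTop :=
      (Function.Bijective.of_comp_iff _ (ConcreteCategory.bijective_of_isIso
        (Scheme.ΓSpecIso (CommRingCat.of Γ(V, A))).inv)).1 h1
    rw [Scheme.Hom.comp_appTop] at h2
    exact (Function.Bijective.of_comp_iff _ (ConcreteCategory.bijective_of_isIso hA.isoSpec.hom.appTop)).1 h2
  exact good_of_frames j (fnBij_of_app j happ) fun L hL => framesNear_of_affine j L fun A hA =>
    (key A hA).2 _ (isInvertible_restrict _ hL)
where
  fnBij_of_affine {U V : Scheme.{u}} (j : U ⟶ V) [IsOpenImmersion j]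
      (h : ∀ A : V.Opens, IsAffineOpen A → Function.Bijective (j ∣_ A).appTop) : FnBij j := by
    refine bijective_of_affine j.opensRange fun A hA => ?_
    have h1 := h A hA
    rw [← ConcreteCategory.isIso_iff_bijective] at h1 ⊢
    have e1 : A.ι ''ᵁ ⊤ = A := A.ι_image_top
    rw [show (j ∣_ A).appTop = (j ∣_ A).app ⊤ from rfl, morphismRestrict_app] at h1
    haveI := h1
    haveI := IsIso.of_isIso_comp_right (j.app (A.ι ''ᵁ ⊤))
      (U.presheaf.map (eqToHom (image_morphismRestrict_preimage j A ⊤)).op)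
    haveI : IsIso (j.app A) := by rw [← e1]; infer_instance
    have hp : j ⁻¹ᵁ (A ⊓ j.opensRange) = j ⁻¹ᵁ A := by
      ext x
      exact ⟨fun hx => hx.1, fun hx => ⟨hx, x, rfl⟩⟩
    haveI : IsIso (j.app (A ⊓ j.opensRange)) := j.isIso_app _ inf_le_right
    haveI : IsIso (V.presheaf.map (homOfLE (inf_le_left : A ⊓ j.opensRange ≤ A)).op ≫
        j.app (A ⊓ j.opensRange)) := by
      rw [Scheme.Hom.naturality,
        Subsingleton.elim ((Opens.map j.base).map (homOfLE (inf_le_left : A ⊓ j.opensRange ≤ A)).op.unop)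
          (eqToHom hp)]
      infer_instance
    exact IsIso.of_isIso_comp_right _ (j.app (A ⊓ j.opensRange))

theorem isParafactorialPair_of_flat {X X' : Scheme.{u}} (f : X' ⟶ X) [Flat f] [Surjective f]
    (Y : Closeds X) (hU : QuasiCompact (X.homOfLE (le_top : Y.compl ≤ ⊤)))
    (h : ParaF.IsParafactorialPair X' (ParaF.closedsPreimage f Y)) : ParaF.IsParafactorialPair X Y := by
  refine isParafactorialPair_of_good _ fun T => ?_
  let j := X.homOfLE (inf_le_left : T ⊓ Y.compl ≤ T)
  let O : X.Opens := Y.compl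
  haveI : QuasiCompact O.ι := by
    haveI := hU
    rw [← X.homOfLE_ι (le_top : O ≤ ⊤)]
    haveI : IsIso (⊤ : X.Opens).ι := inferInstanceAs (IsIso X.topIso.hom)
    haveI : QuasiCompact (X.homOfLE (le_top : O ≤ ⊤)) := hU
    exact MorphismProperty.comp_mem _ _ _ inferInstance inferInstance
  haveI : QuasiCompact (O.ι ∣_ T) :=
    MorphismProperty.of_isPullback (isPullback_morphismRestrict O.ι T).flip inferInstance
  haveI : QuasiCompact j := by
    refine (quasiCompact_iff _).2 fun W hW hWc => ?_
    have hWi : IsCompact (T.ι '' W) := hWc.image T.ι.continuous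
    have hopen : IsOpen (T.ι '' W) := T.ι.isOpenEmbedding.isOpenMap W hW
    have h1 : IsCompact (O.ι ⁻¹' (T.ι '' W)) :=
      QuasiCompact.isCompact_preimage _ hopen hWi
    have h2 : IsCompact ((X.homOfLE (inf_le_right : T ⊓ Y.compl ≤ Y.compl)) ⁻¹' (O.ι ⁻¹' (T.ι '' W))) := by
      refine (X.homOfLE _).isOpenEmbedding.isEmbedding.isInducing.isCompact_preimage' h1 ?_
      rintro y ⟨t, ht, hty⟩
      have hyT : y.1 ∈ T := by rw [show y.1 = t.1 from (show T.ι t = O.ι y from hty).symm]; exact t.2
      refine ⟨⟨y.1, ⟨hyT, y.2⟩⟩, Subtype.ext ?_⟩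
      exact congrArg (fun g : ((T ⊓ Y.compl : X.Opens) : Scheme.{u}) ⟶ X => g _) (X.homOfLE_ι inf_le_right)
    convert h2 using 1
    ext z
    have e1 : T.ι (j z) = O.ι (X.homOfLE (inf_le_right : T ⊓ Y.compl ≤ Y.compl) z) := by
      rw [← Scheme.Hom.comp_apply, ← Scheme.Hom.comp_apply, X.homOfLE_ι, X.homOfLE_ι]
    constructor
    · intro hz
      exact ⟨j z, hz, e1⟩
    · rintro ⟨t, ht, htz⟩
      have := T.ι.isOpenEmbedding.injective (htz.trans e1.symm)
      show j z ∈ W
      rw [← this]; exact ht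
  haveI : Surjective (f ∣_ T) := MorphismProperty.of_isPullback (isPullback_morphismRestrict f T).flip inferInstance
  refine good_of_flat j (f ∣_ T) (ParaF.closedsIn (f ⁻¹ᵁ T) (ParaF.closedsPreimage f Y)) ?_
    (ParaFX.isParafactorialPair_restrict _ h _)
  rw [compl_closedsIn, opensRange_homOfLE_compl, ← Scheme.Hom.comp_preimage, morphismRestrict_ι,
    Scheme.Hom.comp_preimage]
  try rfl

end Groth.Agent.ParaF2
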