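import Groth.Agent.ParaF2.Triple
import Mathlib.RingTheory.AdicCompletion.LocalRing
import Mathlib.RingTheory.AdicCompletion.AsTensorProduct
import Mathlib.RingTheory.Flat.FaithfullyFlat.Algebra

/-!
Lifting a rank one factorisation of a matrix along an adic filtration with free graded pieces.
-/

set_option autoImplicit false
set_option linter.style.haveILetI false
set_option linter.unusedSectionVars false

universe u

open IsLocalRing
open scoped TensorProduct

namespace Groth.Agent.ParaF2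

section Linear

variable {A : Type u} [CommRing A] {x y z : A} {G P Q : Type u} [AddCommGroup G] [Module A G]
  [AddCommGroup P] [Module A P] [AddCommGroup Q] [Module A Q]

/-- An element which is a value of `D` after multiplication by powers of `x`, `y`, `z` is one. -/
theorem mem_range_of_pow (d : G →ₗ[A] P) (D : P →ₗ[A] Q) (hDd : ∀ g, D (d g) = 0)
    (hG : RegTriple x y z G) (hP : RegTriple x y z P) (hQ : RegTriple x y z Q)
    (hd : ∀ g, d g = 0 → g = 0)
    (hker : ∀ f ∈ ({x, y} : Set A), ∃ M : ℕ, ∀ p, D p = 0 → f ^ M • p ∈ LinearMap.range d) (e : Q)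
    (he : ∀ f ∈ ({x, y, z} : Set A), ∃ N : ℕ, f ^ N • e ∈ LinearMap.range D) :
    e ∈ LinearMap.range D := by
  have exact_ : ∀ p, D p = 0 → p ∈ LinearMap.range d := by
    intro p hp
    obtain ⟨M₁, hM₁⟩ := hker x (by simp)
    obtain ⟨M₂, hM₂⟩ := hker y (by simp)
    obtain ⟨w₁, hw₁⟩ := hM₁ p hp
    obtain ⟨w₂, hw₂⟩ := hM₂ p hp
    let M := max M₁ M₂
    have h1 : d (x ^ (M - M₁) • w₁) = x ^ M • p := by
      rw [map_smul, hw₁, ← mul_smul, ← pow_add]; congr 2; omega
    have h2 : d (y ^ (M - M₂) • w₂) = y ^ M • p := by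
      rw [map_smul, hw₂, ← mul_smul, ← pow_add]; congr 2; omega
    obtain ⟨w, hw⟩ := hG.h2 M (x ^ (M - M₁) • w₁) (y ^ (M - M₂) • w₂) (sub_eq_zero.1 (hd _ (by
      rw [map_sub, d.map_smul, h1, d.map_smul, h2, smul_comm, sub_self])))
    refine ⟨w, sub_eq_zero.1 (hP.h1 M _ ?_)⟩
    rw [smul_sub, ← map_smul, ← hw, h1, sub_self]
  obtain ⟨N₁, hN₁⟩ := he x (by simp)
  obtain ⟨N₂, hN₂⟩ := he y (by simp)
  obtain ⟨N₃, hN₃⟩ := he z (by simp)
  let N := max N₁ (max N₂ N₃)
  have up : ∀ (f : A) (K : ℕ), K ≤ N → f ^ K • e ∈ LinearMap.range D → f ^ N • e ∈ LinearMap.range D := by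
    intro f K hK hf
    rw [show N = (N - K) + K by omega, pow_add, mul_smul]
    exact Submodule.smul_mem _ _ hf
  obtain ⟨px, hpx⟩ := up x N₁ (le_max_left _ _) hN₁
  obtain ⟨py, hpy⟩ := up y N₂ ((le_max_left _ _).trans (le_max_right _ _)) hN₂
  obtain ⟨pz, hpz⟩ := up z N₃ ((le_max_right _ _).trans (le_max_right _ _)) hN₃
  obtain ⟨wxy, hxy⟩ := exact_ (y ^ N • px - x ^ N • py) (by
    rw [map_sub, map_smul, map_smul, hpx, hpy, smul_comm, sub_self])
  obtain ⟨wxz, hxz⟩ := exact_ (z ^ N • px - x ^ N • pz) (by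
    rw [map_sub, map_smul, map_smul, hpx, hpz, smul_comm, sub_self])
  obtain ⟨wyz, hyz⟩ := exact_ (z ^ N • py - y ^ N • pz) (by
    rw [map_sub, map_smul, map_smul, hpy, hpz, smul_comm, sub_self])
  obtain ⟨p, q, hpq⟩ := hG.h3 N wxy (-wyz) wxz (sub_eq_zero.1 (hd _ (by
    simp only [map_sub, map_add, map_smul, map_neg, hxy, hxz, hyz]
    module)))
  rw [hpq, map_add, map_smul, map_smul] at hxy
  obtain ⟨r, hr⟩ := hP.h2 N (px - d q) (py + d p) (by
    rw [smul_sub, smul_add, sub_eq_iff_eq_add, add_assoc, hxy]; module)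
  refine ⟨r, sub_eq_zero.1 (hQ.h1 N _ ?_)⟩
  rw [smul_sub, ← map_smul, ← hr, map_sub, hDd, sub_zero, hpx, sub_self]

end Linear

variable {A : Type u} [CommRing A] {α β : Type u} [Fintype α] [Fintype β]

/-- The ideal of the entries. -/
def entryIdeal (a : α → β → A) : Ideal A := Ideal.span (Set.range fun i : α × β => a i.1 i.2)

theorem exists_coeff {a : α → β → A} {f : A} (hf : f ∈ (entryIdeal a).radical) :
    ∃ (N : ℕ) (c : α × β → A), ∑ i, c i * a i.1 i.2 = f ^ N := by
  obtain ⟨N, hN⟩ := hf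
  obtain ⟨c, hc⟩ := (Ideal.mem_span_range_iff_exists_fun).1 hN
  exact ⟨N, c, hc⟩

/-- One step: a factorisation modulo `J ^ n` lifts modulo `J ^ (n + 1)`. -/
theorem exists_step (J : Ideal A) {n : ℕ} (hn : 1 ≤ n) (a : α → β → A)
    (hmin : ∀ k l p q, a k l * a p q = a k q * a p l) (γ : α → A) (β' : β → A)
    (hγ : ∀ k l, a k l - γ k * β' l ∈ J ^ n) {x y z : A} (hx : x ∈ (entryIdeal a).radical)
    (hy : y ∈ (entryIdeal a).radical) (hz : z ∈ (entryIdeal a).radical)
    (hG : RegTriple x y z (Gr J n)) :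
    ∃ (δ : α → A) (ε : β → A), (∀ k, δ k ∈ J ^ n) ∧ (∀ l, ε l ∈ J ^ n) ∧
      ∀ k l, a k l - (γ k + δ k) * (β' l + ε l) ∈ J ^ (n + 1) := by
  let d : Gr J n →ₗ[A] (α → Gr J n) × (β → Gr J n) :=
    LinearMap.prod (LinearMap.pi fun k => (-γ k) • LinearMap.id) (LinearMap.pi fun l => β' l • LinearMap.id)
  let D : ((α → Gr J n) × (β → Gr J n)) →ₗ[A] (α → β → Gr J n) :=
    LinearMap.pi fun k => LinearMap.pi fun l => β' l • (LinearMap.proj k ∘ₗ LinearMap.fst A _ _) +
      γ k • (LinearMap.proj l ∘ₗ LinearMap.snd A _ _)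
  have hDapp : ∀ p k l, D p k l = β' l • p.1 k + γ k • p.2 l := fun p k l => rfl
  have hJG : ∀ c ∈ J, ∀ g : Gr J n, c • g = 0 := fun c hc g => by
    obtain ⟨g, rfl⟩ := Submodule.Quotient.mk_surjective _ g
    rw [← Submodule.Quotient.mk_smul, Submodule.Quotient.mk_eq_zero]
    exact Submodule.smul_mem_smul hc trivial
  have hS : ∀ {f : A} {N : ℕ} {c : α × β → A}, ∑ i, c i * a i.1 i.2 = f ^ N →
      ∀ g : Gr J n, f ^ N • g = ∑ i, (c i * (γ i.1 * β' i.2)) • g := fun {f N c} hc g => by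
    rw [← hc, Finset.sum_smul]
    refine Finset.sum_congr rfl fun i _ => ?_
    rw [← sub_eq_zero, ← sub_smul, ← mul_sub]
    exact hJG _ (Ideal.mul_mem_left _ _ (Ideal.pow_le_self (by omega) (hγ _ _))) g
  have hDd : ∀ g, D (d g) = 0 := fun g => by
    ext k l
    rw [hDapp]
    show β' l • (-γ k) • g + γ k • β' l • g = 0
    module
  have hker : ∀ f ∈ (entryIdeal a).radical, ∃ M : ℕ, ∀ p, D p = 0 → f ^ M • p ∈ LinearMap.range d := by
    intro f hf
    obtain ⟨N, c, hc⟩ := exists_coeff hf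
    refine ⟨N, fun p hp => ?_⟩
    have h0 : ∀ k l, γ k • p.2 l = -(β' l • p.1 k) := fun k l =>
      eq_neg_of_add_eq_zero_right (by rw [← hDapp, hp]; rfl)
    refine ⟨∑ i, (c i * γ i.1) • p.2 i.2, Prod.ext (funext fun k => ?_) (funext fun l => ?_)⟩
    · show (-γ k) • _ = f ^ N • p.1 k
      rw [LinearMap.id_apply, hS hc, Finset.smul_sum]
      refine Finset.sum_congr rfl fun i _ => ?_
      calc (-γ k) • (c i * γ i.1) • p.2 i.2 = -((c i * γ i.1) • γ k • p.2 i.2) := by module
        _ = _ := by rw [h0]; module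
    · show β' l • _ = f ^ N • p.2 l
      rw [LinearMap.id_apply, hS hc, Finset.smul_sum]
      refine Finset.sum_congr rfl fun i _ => ?_
      calc β' l • (c i * γ i.1) • p.2 i.2 = (c i * β' l) • γ i.1 • p.2 i.2 := by module
        _ = (c i * β' i.2) • (-(β' l • p.1 i.1)) := by rw [h0]; module
        _ = _ := by rw [← h0]; module
  let e : α → β → Gr J n := fun k l => Submodule.Quotient.mk ⟨a k l - γ k * β' l, hγ k l⟩
  have hsolv : ∀ f ∈ (entryIdeal a).radical, ∃ N : ℕ, f ^ N • e ∈ LinearMap.range D := by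
    intro f hf
    obtain ⟨N, c, hc⟩ := exists_coeff hf
    refine ⟨N, (fun k => ∑ i, ((c i * γ i.1) • e k i.2 - (c i * γ k) • e i.1 i.2),
      fun l => ∑ i, (c i * β' i.2) • e i.1 l), ?_⟩
    ext k l
    rw [hDapp]
    show β' l • ∑ i, ((c i * γ i.1) • e k i.2 - (c i * γ k) • e i.1 i.2) +
      γ k • ∑ i, (c i * β' i.2) • e i.1 l = f ^ N • e k l
    rw [Finset.smul_sum, Finset.smul_sum, ← Finset.sum_add_distrib, hS hc]
    refine Finset.sum_congr rfl fun i _ => ?_
    rw [← sub_eq_zero]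
    simp only [e, ← Submodule.Quotient.mk_smul, ← Submodule.Quotient.mk_sub, ← Submodule.Quotient.mk_add]
    rw [mkGr_eq_zero]
    have h2 : (a k i.2 - γ k * β' i.2) * (a i.1 l - γ i.1 * β' l) -
        (a k l - γ k * β' l) * (a i.1 i.2 - γ i.1 * β' i.2) ∈ J ^ (n + 1) := by
      refine Ideal.pow_le_pow_right (show n + 1 ≤ n + n by omega) ?_
      rw [pow_add]
      exact Submodule.sub_mem _ (Ideal.mul_mem_mul (hγ _ _) (hγ _ _)) (Ideal.mul_mem_mul (hγ _ _) (hγ _ _))
    convert Ideal.mul_mem_left _ (-c i) h2 using 1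
    show β' l * (c i * γ i.1 * (a k i.2 - γ k * β' i.2) - c i * γ k * (a i.1 i.2 - γ i.1 * β' i.2)) +
      γ k * (c i * β' i.2 * (a i.1 l - γ i.1 * β' l)) - c i * (γ i.1 * β' i.2) * (a k l - γ k * β' l) = _
    linear_combination (-c i) * hmin k l i.1 i.2
  have hd : ∀ g, d g = 0 → g = 0 := fun g hg => by
    obtain ⟨N, c, hc⟩ := exists_coeff hx
    refine hG.h1 N g ?_
    rw [hS hc]
    refine Finset.sum_eq_zero fun i _ => ?_
    rw [← mul_assoc, mul_smul, show β' i.2 • g = 0 from congrFun (congrArg Prod.snd hg) i.2, smul_zero]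
  obtain ⟨p, hp⟩ := mem_range_of_pow d D hDd hG (hG.pi.prod hG.pi) hG.pi.pi hd
    (fun f hf => by rcases hf with rfl | rfl <;> exact hker _ ‹_›) e
    (fun f hf => by rcases hf with rfl | rfl | rfl <;> exact hsolv _ ‹_›)
  choose δ hδ using fun k => Submodule.Quotient.mk_surjective _ (p.1 k)
  choose ε hε using fun l => Submodule.Quotient.mk_surjective _ (p.2 l)
  refine ⟨fun k => δ k, fun l => ε l, fun k => (δ k).2, fun l => (ε l).2, fun k l => ?_⟩
  have h1 := congrFun (congrFun hp k) l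
  rw [hDapp, ← hδ, ← hε, ← Submodule.Quotient.mk_smul, ← Submodule.Quotient.mk_smul,
    ← Submodule.Quotient.mk_add, eq_comm, ← sub_eq_zero, ← Submodule.Quotient.mk_sub, mkGr_eq_zero] at h1
  have h2 : ((δ k : A) * ε l) ∈ J ^ (n + 1) := Ideal.pow_le_pow_right (show n + 1 ≤ n + n by omega)
    (by rw [pow_add]; exact Ideal.mul_mem_mul (δ k).2 (ε l).2)
  convert Submodule.sub_mem _ h1 h2 using 1
  show _ = (a k l - γ k * β' l) - (β' l * (δ k : A) + γ k * (ε l : A)) - (δ k : A) * ε l
  ring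

variable [IsNoetherianRing A] [IsLocalRing A]

/-- A matrix of rank one with a factorisation modulo `J` has one. -/
theorem exists_factor {J : Ideal A} (hJ : J ≠ ⊤) (a : α → β → A)
    (hmin : ∀ k l p q, a k l * a p q = a k q * a p l) (γ₀ : α → A) (β₀ : β → A)
    (hγ : ∀ k l, a k l - γ₀ k * β₀ l ∈ J) {x y z : A} (hx : x ∈ (entryIdeal a).radical)
    (hy : y ∈ (entryIdeal a).radical) (hz : z ∈ (entryIdeal a).radical) (hG : ∀ n, RegTriple x y z (Gr J n)) :
    ∃ (γ : α → A) (β' : β → A), ∀ k l, a k l = γ k * β' l := by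
  have hA := regTriple_of_gr hJ hG
  let S : ℕ → Type u := fun n =>
    {p : (α → A) × (β → A) // ∀ k l, a k l - p.1 k * p.2 l ∈ J ^ (n + 1)}
  have hstep : ∀ n (p : S n), ∃ q : S (n + 1), (∀ k, q.1.1 k - p.1.1 k ∈ J ^ (n + 1)) ∧
      ∀ l, q.1.2 l - p.1.2 l ∈ J ^ (n + 1) := fun n p => by
    obtain ⟨δ, ε, hδ, hε, h⟩ := exists_step J n.succ_pos a hmin p.1.1 p.1.2 p.2 hx hy hz (hG _)
    exact ⟨⟨(fun k => p.1.1 k + δ k, fun l => p.1.2 l + ε l), h⟩, fun k => by simpa using hδ k,
      fun l => by simpa using hε l⟩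
  choose nx hnx using hstep
  let seq : ∀ n, S n := Nat.rec ⟨(γ₀, β₀), by simpa using hγ⟩ nx
  let B := AdicCompletion J A
  have hcau : ∀ (f : ℕ → A), (∀ n, f (n + 1) - f n ∈ J ^ (n + 1)) →
      ∀ n, f n ≡ f (n + 1) [SMOD (J ^ n • ⊤ : Submodule A A)] := fun f hf n => by
    rw [SModEq.sub_mem, smul_eq_mul, Ideal.mul_top]
    exact Ideal.pow_le_pow_right n.le_succ (by rw [← neg_sub]; exact Submodule.neg_mem _ (hf n))
  let cγ : α → B := fun k => AdicCompletion.mkₐ J (AdicCompletion.AdicCauchySequence.mk J A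
    (fun n => (seq n).1.1 k) (hcau _ fun n => (hnx n (seq n)).1 k))
  let cβ : β → B := fun l => AdicCompletion.mkₐ J (AdicCompletion.AdicCauchySequence.mk J A
    (fun n => (seq n).1.2 l) (hcau _ fun n => (hnx n (seq n)).2 l))
  have haB : ∀ k l, algebraMap A B (a k l) = cγ k * cβ l := fun k l => by
    refine AdicCompletion.ext_evalₐ fun n => ?_
    rw [map_mul, AlgHom.commutes, AdicCompletion.evalₐ_mkₐ, AdicCompletion.evalₐ_mkₐ, ← map_mul,
      Ideal.Quotient.algebraMap_eq, Ideal.Quotient.eq]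
    exact Ideal.pow_le_pow_right n.le_succ ((seq n).2 k l)
  have hflat : Module.Flat A B := inferInstance
  have hjac : J.map (algebraMap A B) ≤ (⊥ : Ideal B).jacobson :=
    haveI := AdicCompletion.isAdicComplete_self J (IsNoetherian.noetherian J)
    IsAdicComplete.le_jacobson_bot _
  have hunit : ∀ r : B, IsUnit (AdicCompletion.evalOneₐ J r) → IsUnit r := fun r hr => by
    obtain ⟨s, hs⟩ := AdicCompletion.evalOneₐ_surjective J (hr.unit⁻¹ : (A ⧸ J)ˣ)
    refine isUnit_of_mul_isUnit_left (y := s) ?_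
    have hk : r * s - 1 ∈ RingHom.ker (AdicCompletion.evalOneₐ J).toRingHom := by
      rw [RingHom.mem_ker]
      show AdicCompletion.evalOneₐ J (r * s - 1) = 0
      rw [map_sub, map_one, map_mul, hs, IsUnit.mul_val_inv, sub_self]
    rw [AdicCompletion.ker_evalOneₐ_eq_map J (IsNoetherian.noetherian J)] at hk
    have hu1 := Ideal.mem_jacobson_bot.1 (hjac hk) 1
    rwa [mul_one, sub_add_cancel] at hu1
  haveI : IsLocalRing (A ⧸ J) :=
    haveI := Ideal.Quotient.nontrivial_iff.2 hJ
    IsLocalRing.of_surjective' (Ideal.Quotient.mk J) Ideal.Quotient.mk_surjective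
  haveI : Module.FaithfullyFlat A B := by
    refine Module.FaithfullyFlat.iff_flat_and_proper_ideal A _ |>.mpr ⟨hflat, fun m hm h => ?_⟩
    rw [Ideal.smul_top_eq_map, Submodule.restrictScalars_eq_top_iff] at h
    have h1 := congrArg (Ideal.map (AdicCompletion.evalOneₐ J).toRingHom) h
    rw [Ideal.map_map, AdicCompletion.evalOneₐ_comp_algebraMap_eq_mk, Ideal.map_top] at h1
    refine hm (top_le_iff.1 ?_)
    have h2 := congrArg (Ideal.comap (Ideal.Quotient.mk J)) h1
    rw [Ideal.comap_map_of_surjective _ Ideal.Quotient.mk_surjective, Ideal.comap_top, ← RingHom.ker_eq_comap_bot,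
      Ideal.mk_ker] at h2
    by_contra hne
    have hm' : m ≠ ⊤ := hm
    have := h2 ▸ sup_le (le_maximalIdeal hm') (le_maximalIdeal hJ)
    exact (maximalIdeal.isMaximal A).ne_top (top_le_iff.1 this)
  have hX : ∀ n : ℕ, Function.Injective fun b : B => x ^ n • b := fun n =>
    (IsSMulRegular.lTensor B (isSMulRegular_iff_right_eq_zero_of_smul.2 fun m => hA.h1 n m)).of_injective
      (TensorProduct.rid A B).symm.toLinearMap (TensorProduct.rid A B).symm.injective
  have hβ : ∀ b : B, (∀ l, b * cβ l = 0) → b = 0 := fun b hb => by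
    obtain ⟨M, c, hc⟩ := exists_coeff hx
    refine hX M ?_
    show x ^ M • b = x ^ M • 0
    rw [smul_zero, ← hc, Finset.sum_smul]
    refine Finset.sum_eq_zero fun i _ => ?_
    rw [Algebra.smul_def, map_mul, haB]
    linear_combination (algebraMap A B (c i) * cγ i.1) * hb i.2
  have hkerB : ∀ v : β → B, (∀ p l q, algebraMap A B (a p q) * v l = algebraMap A B (a p l) * v q) →
      ∃ r : B, ∀ l, v l = r * cβ l := by
    intro v hv
    have hloc : ∀ f ∈ (entryIdeal a).radical, ∃ (N : ℕ) (w : B), ∀ l, algebraMap A B f ^ N * v l = w * cβ l := by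
      intro f hf
      obtain ⟨N, c, hc⟩ := exists_coeff hf
      refine ⟨N, ∑ i, algebraMap A B (c i) * cγ i.1 * v i.2, fun l => ?_⟩
      rw [← map_pow, ← hc, map_sum, Finset.sum_mul, Finset.sum_mul]
      refine Finset.sum_congr rfl fun i _ => ?_
      rw [map_mul, mul_assoc, hv i.1 l i.2, haB]
      ring
    obtain ⟨N₁, w₁, hw₁⟩ := hloc x hx
    obtain ⟨N₂, w₂, hw₂⟩ := hloc y hy
    let N := max N₁ N₂
    let X := algebraMap A B x
    let Y := algebraMap A B y
    have h1 : ∀ l, X ^ N * v l = (X ^ (N - N₁) * w₁) * cβ l := fun l => by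
      rw [mul_assoc, ← hw₁, ← mul_assoc, ← pow_add]; congr 2; omega
    have h2 : ∀ l, Y ^ N * v l = (Y ^ (N - N₂) * w₂) * cβ l := fun l => by
      rw [mul_assoc, ← hw₂, ← mul_assoc, ← pow_add]; congr 2; omega
    have hY : ∀ b b' : B, y ^ N • b = x ^ N • b' → ∃ p, b = x ^ N • p := by
      intro b b' hb
      let K : A →ₗ[A] A ⧸ Ideal.span {x ^ N} := (Ideal.span {x ^ N}).mkQ
      have hreg : IsSMulRegular (A ⧸ Ideal.span {x ^ N}) (y ^ N) := by
        refine isSMulRegular_iff_right_eq_zero_of_smul.2 fun m hm => ?_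
        obtain ⟨m, rfl⟩ := Submodule.Quotient.mk_surjective _ m
        rw [← Submodule.Quotient.mk_smul, Submodule.Quotient.mk_eq_zero, Ideal.mem_span_singleton'] at hm
        obtain ⟨m', hm'⟩ := hm
        obtain ⟨p, hp⟩ := hA.h2 N m m' (by rw [← hm', smul_eq_mul, mul_comm])
        rw [Submodule.Quotient.mk_eq_zero, Ideal.mem_span_singleton']
        exact ⟨p, by rw [hp, smul_eq_mul, mul_comm]⟩
      have hex : Function.Exact (LinearMap.lsmul A A (x ^ N)) K := by
        intro m
        rw [show K m = Submodule.Quotient.mk m from rfl, Submodule.Quotient.mk_eq_zero,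
          Ideal.mem_span_singleton']
        exact ⟨fun ⟨c, hc⟩ => ⟨c, by rw [← hc]; exact mul_comm _ _⟩, fun ⟨c, hc⟩ => ⟨c, by rw [← hc]; exact mul_comm _ _⟩⟩
      have hex' := Module.Flat.lTensor_exact B hex
      have h0 : K.lTensor B (b ⊗ₜ[A] (1 : A)) = 0 := by
        refine (IsSMulRegular.lTensor B hreg).right_eq_zero_of_smul ?_
        rw [← map_smul, TensorProduct.smul_tmul', hb, ← TensorProduct.smul_tmul',
          show x ^ N • (b' ⊗ₜ[A] (1 : A)) = (LinearMap.lsmul A A (x ^ N)).lTensor B (b' ⊗ₜ[A] (1 : A)) by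
            rw [LinearMap.lTensor_tmul, LinearMap.lsmul_apply, TensorProduct.tmul_smul]]
        exact hex'.apply_apply_eq_zero _
      obtain ⟨t, ht⟩ := (hex' _).1 h0
      refine ⟨TensorProduct.rid A B t, ?_⟩
      have h3 : ∀ t : B ⊗[A] A, TensorProduct.rid A B ((LinearMap.lsmul A A (x ^ N)).lTensor B t) =
          x ^ N • TensorProduct.rid A B t := fun t => by
        rw [← map_smul]
        congr 1
        induction t using TensorProduct.induction_on with
        | zero => simp
        | tmul b c => rw [LinearMap.lTensor_tmul, LinearMap.lsmul_apply, TensorProduct.tmul_smul]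
        | add u u' hu hu' => rw [map_add, hu, hu', smul_add]
      rw [← h3, ht, TensorProduct.rid_tmul, one_smul]
    obtain ⟨r, hr⟩ := hY (X ^ (N - N₁) * w₁) (Y ^ (N - N₂) * w₂) (by
      simp only [Algebra.smul_def, map_pow]
      exact sub_eq_zero.1 (hβ _ fun l => by
        linear_combination (X ^ N) * h2 l - (Y ^ N) * h1 l))
    refine ⟨r, fun l => hX N ?_⟩
    show x ^ N • v l = x ^ N • (r * cβ l)
    rw [← smul_mul_assoc, ← hr, Algebra.smul_def, map_pow]
    exact h1 l
  obtain ⟨m, b, u, hu, hcβ⟩ : ∃ (m : ℕ) (b : Fin m → B) (u : Fin m → β → A),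
      (∀ i p l q, a p q * u i l = a p l * u i q) ∧ ∀ l, cβ l = ∑ i, u i l • b i := by
    classical
    let f : (α × β × β → A) →ₗ[A] (β → A) := Fintype.linearCombination A fun i : α × β × β =>
      Pi.single i.2.1 (a i.1 i.2.2) - Pi.single i.2.2 (a i.1 i.2.1)
    let X : (β → A) →ₗ[A] B := Fintype.linearCombination A cβ
    have hXf : X ∘ₗ f = 0 := by
      refine LinearMap.pi_ext' fun i => LinearMap.ext_ring ?_
      simp [f, X, Fintype.linearCombination_apply_single, map_sub, Algebra.smul_def, haB]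
      ring
    obtain ⟨m, w, Y, hXY, hwf⟩ := Module.Flat.exists_factorization_of_comp_eq_zero_of_free hXf
    refine ⟨m, fun i => Y (Finsupp.single i 1), fun i l => w (Pi.single l 1) i, fun i p l q => ?_, fun l => ?_⟩
    · have h := congrFun (congrArg DFunLike.coe (LinearMap.congr_fun hwf (Pi.single (p, l, q) 1))) i
      rw [LinearMap.comp_apply, show f (Pi.single (p, l, q) 1) = a p q • Pi.single l 1 - a p l • Pi.single q 1
        by simp [f, Fintype.linearCombination_apply_single, ← Pi.single_smul]] at h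
      simpa [sub_eq_zero] using h
    · have h := LinearMap.congr_fun hXY (Pi.single l 1)
      rw [show X (Pi.single l 1) = cβ l by simp [X, Fintype.linearCombination_apply_single],
        LinearMap.comp_apply] at h
      rw [h, ← Finsupp.univ_sum_single (w (Pi.single l 1)), map_sum]
      refine Finset.sum_congr rfl fun i _ => ?_
      rw [← map_smul, Finsupp.smul_single_one]
  choose r hr using fun i => hkerB (fun l => algebraMap A B (u i l)) fun p l q => by
    rw [← map_mul, ← map_mul, hu]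
  have hone : ∑ i, r i * b i = 1 := by
    refine sub_eq_zero.1 (hβ _ fun l => ?_)
    rw [sub_mul, one_mul, Finset.sum_mul, sub_eq_zero]
    conv_rhs => rw [hcβ l]
    refine Finset.sum_congr rfl fun i _ => ?_
    rw [Algebra.smul_def, hr]
    ring
  obtain ⟨i, hi⟩ : ∃ i, IsUnit (r i) := by
    by_contra hno
    push Not at hno
    have h := congrArg (AdicCompletion.evalOneₐ J) hone
    rw [map_sum, map_one] at h
    have : (1 : A ⧸ J) ∈ maximalIdeal (A ⧸ J) := h ▸ Submodule.sum_mem _ fun i _ => by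
      rw [map_mul]
      exact Ideal.mul_mem_right _ _ fun hu' => hno i (hunit _ hu')
    exact this isUnit_one
  have hrow : ∀ k, a k ∈ Submodule.span A {u i} := fun k => by
    classical
    rw [← Submodule.Quotient.mk_eq_zero]
    apply Module.FaithfullyFlat.tensorProduct_mk_injective (A := A) (B := B) ((β → A) ⧸ Submodule.span A {u i})
    rw [map_zero, TensorProduct.mk_apply]
    let q := (Submodule.span A {u i}).mkQ
    have hsum : ∀ v : β → A, q v = ∑ l, v l • q (Pi.single l 1) := fun v => by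
      conv_lhs => rw [← Finset.univ_sum_single v]
      rw [map_sum]
      exact Finset.sum_congr rfl fun l _ => by rw [← map_smul, ← Pi.single_smul, smul_eq_mul, mul_one]
    have hq : ∀ c : B, c ⊗ₜ[A] q (u i) = 0 := fun c => by
      rw [show q (u i) = 0 from (Submodule.Quotient.mk_eq_zero _).2 (Submodule.mem_span_singleton_self _),
        TensorProduct.tmul_zero]
    let g : B := cγ k * ↑(hi.unit⁻¹)
    calc (1 : B) ⊗ₜ[A] q (a k) = ∑ l, (1 : B) ⊗ₜ[A] (a k l • q (Pi.single l 1)) := by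
          rw [hsum, TensorProduct.tmul_sum]
      _ = ∑ l, g ⊗ₜ[A] (u i l • q (Pi.single l 1)) := by
          refine Finset.sum_congr rfl fun l _ => ?_
          rw [← TensorProduct.smul_tmul, ← TensorProduct.smul_tmul, Algebra.smul_def, mul_one,
            Algebra.smul_def, haB, hr i l]
          congr 1
          linear_combination (-(cγ k * cβ l)) * hi.val_inv_mul
      _ = 0 := by rw [← TensorProduct.tmul_sum, ← hsum, hq]
  choose γ hγ' using fun k => Submodule.mem_span_singleton.1 (hrow k)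
  exact ⟨γ, u i, fun k l => (congrFun (hγ' k) l).symm⟩

end Groth.Agent.ParaF2
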