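import Groth.Agent.ParaF2.Local
import Groth.Agent.ParaF2.RankOne
import Groth.Agent.ParaFX.Ufd

/-!
Invertible modules on a punctured spectrum, trivial on the punctured spectrum of a quotient whose adic
filtration has free graded pieces, are trivial.
-/

universe u

open CategoryTheory CategoryTheory.Limits AlgebraicGeometry TopologicalSpace Opposite

set_option linter.style.haveILetI false
set_option linter.unusedSectionVars false

namespace Groth.Agent.ParaF2

open Groth.Agent.AModX Groth.Agent.InvX Groth.Agent.ParaFX Groth.Agent.H23 Groth.Agent.H23.TrivBasic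

/-- The pairing matrix of generating sections. -/
theorem exists_matrix {A : Type u} [CommRing A] {W : Scheme.{u}} (i : W ⟶ Spec (CommRingCat.of A))
    [IsOpenImmersion i] [CompactSpace W] (hi : Function.Bijective (Coh.toGlobal i)) {L : W.Modules}
    (hL : PicF.IsInvertible L) :
    ∃ (α β : Type u) (_ : Fintype α) (_ : Fintype β) (s : α → Γ(L, ⊤)) (a : α → β → A),
      (∀ k l p q, a k l * a p q = a k q * a p l) ∧
      (∀ k p q, (show Γ(W, ⊤) from Coh.toGlobal i (a p q)) • s k =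
        (show Γ(W, ⊤) from Coh.toGlobal i (a k q)) • s p) ∧
      (∀ k l, W.basicOpen (Coh.toGlobal i (a k l)) ≤ locus (s k)) ∧
      (∀ x : W, ∃ k l, x ∈ W.basicOpen (Coh.toGlobal i (a k l))) ∧
      ∀ x : W, ∃ k, x ∈ locus (s k) := by
  classical
  obtain ⟨D, hD, ⟨π⟩⟩ := PicInv.exists_inverse hL
  obtain ⟨S, hS⟩ := exists_finset_locus i hL
  obtain ⟨T, hT⟩ := exists_finset_locus i hD
  let ρ : A →+* Γ(W, ⊤) := Coh.toGlobal i
  have hpair : ∀ (k : S) (l : T), ∃ b : A,
      ρ b = (show Γ(W, ⊤) from π.hom.app ⊤ (InvX.tmul k.1 l.1)) := fun k l => hi.2 _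
  choose a ha using hpair
  have hrel : ∀ (k p : S) (q : T), ρ (a p q) • k.1 = ρ (a k q) • p.1 :=
    fun k p q => by rw [ha, ha]; exact smul_pair hL hD π.hom k.1 p.1 q.1
  have hmin : ∀ (k : S) (l : T) (p : S) (q : T), a k l * a p q = a k q * a p l := by
    intro k l p q
    refine (show Function.Injective ρ from hi.1) ?_
    rw [map_mul, map_mul]
    have h := congrArg (fun x : Γ(L, ⊤) => (show Γ(W, ⊤) from π.hom.app ⊤ (InvX.tmul x l.1))) (hrel k p q)
    simp only [InvX.tmul_smul_left, Scheme.Modules.Hom.app_smul] at h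
    rw [mul_comm (ρ (a k l)), ha k l, ha p l]
    exact h
  have hone : ∀ w : Γ(W, ⊤), AmpleX.locus (M := Coh.structureModule W) (U := ⊤) w = W.basicOpen w := fun w => by
    refine (inf_eq_left.2 (AmpleX.locus_le _)).symm.trans
      (AmpleX.locus_inf (M := Coh.structureModule W) w le_rfl (InvX.isFrame_one ⊤) (g := w) ?_)
    exact (AModX.res_self (M := Coh.structureModule W) _).trans (mul_one w).symm
  have hlocus : ∀ {M : W.Modules} (m : Γ(M, ⊤)), AmpleX.locus m = locus m := fun {M} m =>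
    le_antisymm (le_locus (AmpleX.isFrame_res_of_le m le_rfl))
      (AmpleX.le_locus m le_top (isFrame_res_of_le_locus le_rfl))
  have hfr : ∀ k l, W.basicOpen (ρ (a k l)) = locus k.1 ⊓ locus l.1 := fun k l => by
    rw [ha, ← hone, AmpleX.locus_iso, AmpleX.locus_tmul hL hD, hlocus, hlocus]
  refine ⟨S, T, inferInstance, inferInstance, fun k => k.1, a, hmin, hrel, fun k l => (hfr k l).le.trans inf_le_left,
    fun x => ?_, fun x => ?_⟩
  · obtain ⟨s, hsS, hs⟩ := hS x
    obtain ⟨t, htT, ht⟩ := hT x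
    exact ⟨⟨s, hsS⟩, ⟨t, htT⟩, (hfr ⟨s, hsS⟩ ⟨t, htT⟩).ge ⟨hs, ht⟩⟩
  · obtain ⟨s, hsS, hs⟩ := hS x
    exact ⟨⟨s, hsS⟩, hs⟩

variable {W : Scheme.{u}} {L : W.Modules} {α β : Type u} (s : α → Γ(L, ⊤)) (a : α → β → Γ(W, ⊤))

/-- A factorisation of the matrix gives a frame. -/
theorem triv_of_factor (hrel : ∀ k p q, a p q • s k = a k q • s p)
    (hfr : ∀ k l, W.basicOpen (a k l) ≤ locus (s k)) (hcov : ∀ x : W, ∃ k l, x ∈ W.basicOpen (a k l))
    (γ : α → Γ(W, ⊤)) (β' : β → Γ(W, ⊤)) (hfac : ∀ k l, a k l = γ k * β' l) : Triv L := by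
  let V : α × β → W.Opens := fun i => W.basicOpen (a i.1 i.2)
  have hu : ∀ (i : α × β) {O : W.Opens} (_ : O ≤ V i),
      IsUnit (resR (le_top : O ≤ ⊤) (γ i.1)) ∧ IsUnit (resR (le_top : O ≤ ⊤) (β' i.2)) := fun i O hO => by
    rw [← IsUnit.mul_iff, ← map_mul, ← hfac]
    exact isUnit_resR _ _ hO
  let c : ∀ i, Γ(W, V i) := fun i => ↑((hu i le_rfl).1.unit⁻¹)
  have hc : ∀ i, c i * resR le_top (γ i.1) = 1 := fun i => IsUnit.val_inv_mul _
  let sec : ∀ i, Γ(L, V i) := fun i => c i • res L le_top (s i.1)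
  have hsec : ∀ i, IsFrame (sec i) := fun i =>
    (isFrame_res_of_le_locus (hfr i.1 i.2)).isUnit_smul (Units.isUnit _)
  obtain ⟨m, hm, -⟩ := existsUnique_glue (M := L) (V := ⊤) V (fun _ => le_top)
    (fun x _ => let ⟨k, l, h⟩ := hcov x; ⟨(k, l), h⟩) sec fun i j => by
      let O := V i ⊓ V j
      show res L _ (c i • _) = res L _ (c j • _)
      rw [res_smul, res_smul, res_res, res_res]
      refine ((hu i (inf_le_left : O ≤ V i)).1.mul ((hu j (inf_le_right : O ≤ V j)).1.mul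
        (hu j (inf_le_right : O ≤ V j)).2)).smul_left_cancel.1 ?_
      have hci : resR (inf_le_left : O ≤ V i) (c i) * resR (le_top : O ≤ ⊤) (γ i.1) = 1 := by
        have := congrArg (resR (inf_le_left : O ≤ V i)) (hc i)
        rwa [map_mul, resR_resR, map_one] at this
      have hcj : resR (inf_le_right : O ≤ V j) (c j) * resR (le_top : O ≤ ⊤) (γ j.1) = 1 := by
        have := congrArg (resR (inf_le_right : O ≤ V j)) (hc j)
        rwa [map_mul, resR_resR, map_one] at this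
      have hr := congrArg (res L (le_top : O ≤ ⊤)) (hrel i.1 j.1 j.2)
      rw [res_smul, res_smul, hfac, hfac, map_mul, map_mul] at hr
      set gi := resR (le_top : O ≤ ⊤) (γ i.1)
      set gj := resR (le_top : O ≤ ⊤) (γ j.1)
      set bj := resR (le_top : O ≤ ⊤) (β' j.2)
      set ci := resR (inf_le_left : O ≤ V i) (c i)
      set cj := resR (inf_le_right : O ≤ V j) (c j)
      calc (gi * (gj * bj)) • ci • res L (le_top : O ≤ ⊤) (s i.1)
          = (ci * gi) • (gj * bj) • res L (le_top : O ≤ ⊤) (s i.1) := by module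
        _ = (cj * gj) • (gi * bj) • res L (le_top : O ≤ ⊤) (s j.1) := by rw [hci, hcj, hr]
        _ = (gi * (gj * bj)) • cj • res L (le_top : O ≤ ⊤) (s j.1) := by module
  exact triv_of_frame (InvUfdLib.isFrame_of_cover V (fun _ => le_top)
    (fun x _ => let ⟨k, l, h⟩ := hcov x; ⟨(k, l), h⟩) m fun i => (hm i).symm ▸ hsec i)

/-- A frame of a pull back gives a factorisation. -/
theorem factor_of_triv (hrel : ∀ k p q, a p q • s k = a k q • s p) (hgen : ∀ x : W, ∃ k, x ∈ locus (s k))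
    {W₀ : Scheme.{u}} (g : W₀ ⟶ W) (h : Triv ((Scheme.Modules.pullback g).obj L)) :
    ∃ (γ : α → Γ(W₀, ⊤)) (β' : β → Γ(W₀, ⊤)), ∀ k l, g.appTop (a k l) = γ k * β' l := by
  obtain ⟨e, he⟩ := h.exists_frame
  let P := (Scheme.Modules.pullback g).obj L
  let pe : α → Γ(P, ⊤) := fun k => pullElt g (s k)
  have hco : ∀ k, ∃ c : Γ(W₀, ⊤), pe k = c • e := fun k => by
    simpa only [res_self] using he.exists_coord le_rfl (pe k)
  choose γ hγ using hco
  have hrel0 : ∀ k p q, g.appTop (a p q) * γ k = g.appTop (a k q) * γ p := fun k p q => by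
    refine he.coord_unique le_rfl ?_
    rw [res_self, mul_smul, mul_smul, ← hγ, ← hγ]
    have h1 := congrArg (fun t => pullElt g t) (hrel k p q)
    simp only [pullElt_smul] at h1
    exact h1
  let V : α → W₀.Opens := fun k => g ⁻¹ᵁ locus (s k)
  have hu : ∀ (k : α) {O : W₀.Opens} (_ : O ≤ V k), IsUnit (resR (le_top : O ≤ ⊤) (γ k)) := fun k O hO => by
    have h1 : IsFrame (res P (le_top : O ≤ ⊤) (pe k)) := by
      have h2 := (isFrame_pullElt g (isFrame_res_of_le_locus (le_refl (locus (s k))))).res hO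
      rw [← res_pullElt g (le_top : locus (s k) ≤ ⊤), res_res] at h2
      exact h2
    obtain ⟨r, hr, hre⟩ := InvUfdLib.exists_unit_of_frames h1 (he.res (le_top : O ≤ ⊤))
    rw [hγ, res_smul] at hre
    have h3 : resR (le_top : O ≤ ⊤) (γ k) = r := (he.res (le_top : O ≤ ⊤)).coord_unique le_rfl (by
      rw [res_self]; exact hre)
    rwa [h3]
  let c : ∀ k, Γ(W₀, V k) := fun k => ↑((hu k le_rfl).unit⁻¹)
  have hc : ∀ (k : α) {O : W₀.Opens} (hO : O ≤ V k), resR hO (c k) * resR le_top (γ k) = 1 := fun k O hO => by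
    have := congrArg (resR hO) (IsUnit.val_inv_mul (hu k (le_refl (V k))))
    rwa [map_mul, resR_resR, map_one] at this
  have hcov : ∀ x ∈ (⊤ : W₀.Opens), ∃ k, x ∈ V k := fun x _ => hgen (g x)
  have hglue : ∀ l : β, ∃ b : Γ(W₀, ⊤), ∀ k, resR le_top b = c k * resR le_top (g.appTop (a k l)) := fun l => by
    obtain ⟨b, hb, -⟩ := existsUnique_glue (M := Coh.structureModule W₀) (V := ⊤) V (fun _ => le_top) hcov
      (fun k => c k * resR le_top (g.appTop (a k l))) fun i j => by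
        let O := V i ⊓ V j
        show resR (inf_le_left : O ≤ V i) (_ * _) = resR (inf_le_right : O ≤ V j) (_ * _)
        rw [map_mul, map_mul, resR_resR, resR_resR]
        have h1 := congrArg (resR (le_top : O ≤ ⊤)) (hrel0 i j l)
        rw [map_mul, map_mul] at h1
        linear_combination (-(resR (inf_le_left : O ≤ V i) (c i) * resR (le_top : O ≤ ⊤) (g.appTop (a i l)))) *
            hc j (inf_le_right : O ≤ V j) +
          (resR (inf_le_right : O ≤ V j) (c j) * resR (le_top : O ≤ ⊤) (g.appTop (a j l))) *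
            hc i (inf_le_left : O ≤ V i) -
          (resR (inf_le_left : O ≤ V i) (c i) * resR (inf_le_right : O ≤ V j) (c j)) * h1
    exact ⟨b, hb⟩
  choose β' hβ' using hglue
  refine ⟨γ, β', fun k l => ?_⟩
  refine eq_of_locally (M := Coh.structureModule W₀) _ _ fun x hx => ?_
  obtain ⟨p, hp⟩ := hcov x hx
  refine ⟨V p, le_top, hp, ?_⟩
  show resR _ _ = resR (le_top : V p ≤ ⊤) (γ k * β' l)
  rw [map_mul, hβ' l p]
  have h1 := congrArg (resR (le_top : V p ≤ ⊤)) (hrel0 k p l)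
  rw [map_mul, map_mul] at h1
  have h2 := hc p (le_refl (V p))
  rw [resR_self] at h2
  linear_combination (-(resR (le_top : V p ≤ ⊤) (g.appTop (a k l)))) * h2 - (c p) * h1

/-- The entries of a generating matrix on the punctured spectrum generate an ideal with radical the maximal
ideal. -/
theorem notMem_of_cover {A : Type u} [CommRing A] [IsLocalRing A] {α β : Type u} {a : α → β → A}
    (hcov : ∀ x : (FEt.puncturedSpec A : Scheme.{u}), ∃ k l,
      x ∈ (FEt.puncturedSpec A : Scheme.{u}).basicOpen (Coh.toGlobal (FEt.puncturedSpec A).ι (a k l)))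
    (P : Ideal A) [P.IsPrime] (hP : P ≠ IsLocalRing.maximalIdeal A) : ∃ k l, a k l ∉ P := by
  let q : PrimeSpectrum A := ⟨P, inferInstance⟩
  have hq : q ∈ FEt.puncturedSpec A := fun hq => hP (congrArg PrimeSpectrum.asIdeal
    (show q = IsLocalRing.closedPoint A from hq))
  obtain ⟨k, l, hkl⟩ := hcov ⟨q, hq⟩
  have hbo : (FEt.puncturedSpec A).ι ⁻¹ᵁ (Spec (CommRingCat.of A)).basicOpen
      ((Scheme.ΓSpecIso (CommRingCat.of A)).inv (a k l)) =
      (FEt.puncturedSpec A : Scheme.{u}).basicOpen (Coh.toGlobal (FEt.puncturedSpec A).ι (a k l)) :=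
    Scheme.preimage_basicOpen_top _ _
  rw [← hbo] at hkl
  have hkl' : q ∈ (Spec (CommRingCat.of A)).basicOpen
    ((Scheme.ΓSpecIso (CommRingCat.of A)).inv (a k l)) := hkl
  rw [basicOpen_eq_of_affine] at hkl'
  exact ⟨k, l, hkl'⟩

section Punctured

variable (A : Type u) [CommRing A] [IsLocalRing A] [IsNoetherianRing A]

theorem bijective_toGlobal_punctured (h : (2 : ℕ∞) ≤ LocCoh.depth A A) :
    Function.Bijective (Coh.toGlobal (FEt.puncturedSpec A).ι) := by
  have hB := punctured_bijective A h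
  let pB := (FEt.puncturedSpec A).ι
  have h1 : Function.Bijective pB.appTop := by
    rw [← ConcreteCategory.isIso_iff_bijective] at hB ⊢
    haveI := hB
    rw [show pB.appTop = (FEt.puncturedSpec A).ι.appTop from rfl, Scheme.Opens.ι_appTop,
      show (homOfLE (le_top : (FEt.puncturedSpec A).ι ''ᵁ ⊤ ≤ ⊤)).op =
        (homOfLE (le_top : FEt.puncturedSpec A ≤ ⊤)).op ≫
          (eqToHom (FEt.puncturedSpec A).ι_image_top).op from rfl, Functor.map_comp]
    haveI : IsIso (eqToHom (FEt.puncturedSpec A).ι_image_top).op := inferInstance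
    exact IsIso.comp_isIso' hB (Functor.map_isIso _ _)
  exact h1.comp (ConcreteCategory.bijective_of_isIso (Scheme.ΓSpecIso (CommRingCat.of A)).inv)

variable {A} {J : Ideal A} [IsLocalRing (A ⧸ J)]

open IsLocalRing in
theorem exists_triple_gr (hd : (3 : ℕ∞) ≤ LocCoh.depth (A ⧸ J) (A ⧸ J))
    (hgr : ∀ n : ℕ, Module.Free (A ⧸ J) (Gr J n)) :
    ∃ x ∈ maximalIdeal A, ∃ y ∈ maximalIdeal A, ∃ z ∈ maximalIdeal A, ∀ n, RegTriple x y z (Gr J n) := by
  obtain ⟨x', hx, y', hy, z', hz, h⟩ := exists_regTriple hd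
  obtain ⟨x, rfl⟩ := Ideal.Quotient.mk_surjective x'
  obtain ⟨y, rfl⟩ := Ideal.Quotient.mk_surjective y'
  obtain ⟨z, rfl⟩ := Ideal.Quotient.mk_surjective z'
  refine ⟨x, fun h' => hx (h'.map _), y, fun h' => hy (h'.map _), z, fun h' => hz (h'.map _), fun n => ?_⟩
  have hQ : RegTriple x y z (A ⧸ J) := by
    refine ⟨fun n m hm => h.h1 n m ?_, fun n m m' hm => ?_, fun n m m' m'' hm => ?_⟩
    · rw [← hm, Algebra.smul_def, map_pow]; rfl
    · obtain ⟨p, hp⟩ := h.h2 n m m' (by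
        simp only [Algebra.smul_def, map_pow] at hm ⊢; exact hm)
      exact ⟨p, by rw [hp, Algebra.smul_def, map_pow]; rfl⟩
    · obtain ⟨p, q, hp⟩ := h.h3 n m m' m'' (by
        simp only [Algebra.smul_def, map_pow] at hm ⊢; exact hm)
      exact ⟨p, q, by rw [hp, Algebra.smul_def, Algebra.smul_def, map_pow, map_pow]; rfl⟩
  haveI := hgr n
  exact RegTriple.free hQ

theorem three_le_depth_of_gr (hJ : J ≠ ⊤) (hd : (3 : ℕ∞) ≤ LocCoh.depth (A ⧸ J) (A ⧸ J))
    (hgr : ∀ n : ℕ, Module.Free (A ⧸ J) (Gr J n)) : (3 : ℕ∞) ≤ LocCoh.depth A A := by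
  obtain ⟨x, hx, y, hy, z, hz, h⟩ := exists_triple_gr hd hgr
  exact (regTriple_of_gr hJ h).le_depth hx hy hz

/-- Triviality spreads from the punctured spectrum of the quotient. -/
theorem triv_of_triv_quotient (hJ : J ≠ ⊤) (hd : (3 : ℕ∞) ≤ LocCoh.depth (A ⧸ J) (A ⧸ J))
    (hgr : ∀ n : ℕ, Module.Free (A ⧸ J) (Gr J n)) {W₀ : Scheme.{u}}
    (g : W₀ ⟶ (FEt.puncturedSpec A : Scheme.{u})) (ρ₀ : A ⧸ J →+* Γ(W₀, ⊤)) (hρ₀ : Function.Bijective ρ₀)
    (hcomp : ∀ c : A, g.appTop (Coh.toGlobal (FEt.puncturedSpec A).ι c) = ρ₀ (Ideal.Quotient.mk J c))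
    {L : (FEt.puncturedSpec A : Scheme.{u}).Modules} (hL : PicF.IsInvertible L)
    (h : Triv ((Scheme.Modules.pullback g).obj L)) : Triv L := by
  obtain ⟨x, hx, y, hy, z, hz, hT⟩ := exists_triple_gr hd hgr
  let i := (FEt.puncturedSpec A).ι
  haveI : NoetherianSpace (FEt.puncturedSpec A : Scheme.{u}) := i.isOpenEmbedding.isInducing.noetherianSpace
  have hbij := bijective_toGlobal_punctured A
    (le_trans (by decide) ((regTriple_of_gr hJ hT).le_depth hx hy hz))
  obtain ⟨α, β, _, _, s, a, hmin, hrel, hfr, hcov, hgen⟩ := exists_matrix i hbij hL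
  obtain ⟨γ₀, β₀, h0⟩ := factor_of_triv s (fun k l => Coh.toGlobal i (a k l)) hrel hgen g h
  choose γ₁ hγ₁ using fun k => (hρ₀.2.comp Ideal.Quotient.mk_surjective) (γ₀ k)
  choose β₁ hβ₁ using fun l => hρ₀.2 (β₀ l)
  choose β₂ hβ₂ using fun l => Ideal.Quotient.mk_surjective (β₁ l)
  have hmem : ∀ k l, a k l - γ₁ k * β₂ l ∈ J := fun k l => by
    rw [← Ideal.Quotient.mk_eq_mk_iff_sub_mem]
    refine hρ₀.1 ?_
    rw [← hcomp, h0, map_mul, map_mul, hβ₂, hβ₁, ← hγ₁]
    rfl
  have hrad : ∀ f ∈ IsLocalRing.maximalIdeal A, f ∈ (entryIdeal a).radical := fun f hf => by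
    rw [Ideal.radical_eq_sInf, Ideal.mem_sInf]
    rintro P ⟨hP, hPp⟩
    haveI := hPp
    by_contra hfP
    let q : PrimeSpectrum A := ⟨P, hPp⟩
    have hq : q ∈ FEt.puncturedSpec A := fun hq => hfP (by
      rw [show P = IsLocalRing.maximalIdeal A from congrArg PrimeSpectrum.asIdeal
        (show q = IsLocalRing.closedPoint A from hq)]
      exact hf)
    obtain ⟨k, l, hkl⟩ := hcov ⟨q, hq⟩
    have hbo : i ⁻¹ᵁ (Spec (CommRingCat.of A)).basicOpen ((Scheme.ΓSpecIso (CommRingCat.of A)).inv (a k l)) =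
        (FEt.puncturedSpec A : Scheme.{u}).basicOpen (Coh.toGlobal i (a k l)) :=
      Scheme.preimage_basicOpen_top i _
    rw [← hbo] at hkl
    have hkl' : q ∈ (Spec (CommRingCat.of A)).basicOpen ((Scheme.ΓSpecIso (CommRingCat.of A)).inv (a k l)) := hkl
    rw [basicOpen_eq_of_affine] at hkl'
    exact hkl' (hP (Ideal.subset_span ⟨(k, l), rfl⟩))
  obtain ⟨γ, β', hfac⟩ := exists_factor hJ a hmin γ₁ β₂ hmem (hrad x hx) (hrad y hy) (hrad z hz) hT
  exact triv_of_factor s (fun k l => Coh.toGlobal i (a k l)) hrel hfr hcov (fun k => Coh.toGlobal i (γ k))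
    (fun l => Coh.toGlobal i (β' l)) fun k l => (congrArg (Coh.toGlobal i) (hfac k l)).trans (map_mul _ _ _)

/-- The punctured spectrum of the quotient inside the punctured spectrum. -/
theorem exists_puncturedMap :
    ∃ g : (FEt.puncturedSpec (A ⧸ J) : Scheme.{u}) ⟶ (FEt.puncturedSpec A : Scheme.{u}),
      g ≫ (FEt.puncturedSpec A).ι =
        (FEt.puncturedSpec (A ⧸ J)).ι ≫ Spec.map (CommRingCat.ofHom (Ideal.Quotient.mk J)) := by
  refine ⟨IsOpenImmersion.lift (FEt.puncturedSpec A).ι _ ?_, IsOpenImmersion.lift_fac _ _ _⟩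
  rw [Scheme.Opens.range_ι]
  rintro _ ⟨x, rfl⟩ hx
  refine x.2 (PrimeSpectrum.ext ?_)
  have h1 : ((FEt.puncturedSpec (A ⧸ J)).ι x : PrimeSpectrum (A ⧸ J)).asIdeal.comap (Ideal.Quotient.mk J) =
      IsLocalRing.maximalIdeal A := congrArg PrimeSpectrum.asIdeal hx
  refine le_antisymm (IsLocalRing.le_maximalIdeal x.1.isPrime.ne_top) fun r hr => ?_
  obtain ⟨r, rfl⟩ := Ideal.Quotient.mk_surjective r
  exact h1.ge (fun hu : IsUnit r => hr (hu.map (Ideal.Quotient.mk J)))

theorem picTrivial_of_quotient (hJ : J ≠ ⊤) (hd : (3 : ℕ∞) ≤ LocCoh.depth (A ⧸ J) (A ⧸ J))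
    (hgr : ∀ n : ℕ, Module.Free (A ⧸ J) (Gr J n))
    (h0 : ∀ L : (FEt.puncturedSpec (A ⧸ J) : Scheme.{u}).Modules, PicF.IsInvertible L →
      Nonempty (L ≅ Coh.structureModule _)) :
    ParaF.PicTrivial (FEt.puncturedSpec A : Scheme.{u}) := by
  intro L hL
  obtain ⟨g, hg⟩ := exists_puncturedMap (A := A) (J := J)
  exact triv_of_triv_quotient hJ hd hgr g (Coh.toGlobal (FEt.puncturedSpec (A ⧸ J)).ι)
    (bijective_toGlobal_punctured (A ⧸ J) (le_trans (by decide) hd))
    (fun c => (QCoh.toGlobal_comm (A := A) (B := A ⧸ J) (FEt.puncturedSpec A).ι (FEt.puncturedSpec (A ⧸ J)).ι g hg c).symm) hL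
    (h0 _ (PicLoc.isInvertible_pullback g hL))

end Punctured

end Groth.Agent.ParaF2
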