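import Groth.Agent.ParaFX.Functions
import Groth.Agent.InvUfdLib.Pushforward
import Groth.Agent.Lib.BaseDescent

/-!
Parafactoriality from frames near the points of the ambient scheme.
-/

universe u

open CategoryTheory CategoryTheory.Limits AlgebraicGeometry TopologicalSpace Opposite

set_option linter.style.haveILetI false

namespace Groth.Agent.ParaF2

open Groth.Agent.AModX Groth.Agent.InvX Groth.Agent.ParaFX

variable {U V : Scheme.{u}} (j : U ⟶ V)

/-- Every point of the target has a neighbourhood over whose preimage `L` has a frame. -/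
def FramesNear (L : U.Modules) : Prop :=
  ∀ v : V, ∃ (N : V.Opens) (_ : v ∈ N) (e : Γ(L, j ⁻¹ᵁ N)), IsFrame e

variable [IsOpenImmersion j]

theorem isFrame_push (hj : ∀ O : V.Opens, Function.Bijective (j.app O)) (L : U.Modules) {N : V.Opens}
    {e : Γ(L, j ⁻¹ᵁ N)} (he : IsFrame e) :
    IsFrame (M := (Scheme.Modules.pushforward j).obj L) (U := N) e := fun W hW =>
  (he (j ⁻¹ᵁ W) (j.preimage_mono hW)).comp (hj W)

theorem isInvertible_push (hj : ∀ O : V.Opens, Function.Bijective (j.app O)) (L : U.Modules)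
    (h : FramesNear j L) : PicF.IsInvertible ((Scheme.Modules.pushforward j).obj L) := fun v => by
  obtain ⟨N, hv, e, he⟩ := h v
  exact ⟨N, hv, InvUfdLib.nonempty_iso_restrict_of_frame (isFrame_push j hj L he)⟩

/-- `FnBij` from the maps on sections. -/
theorem fnBij_of_app (hj : ∀ O : V.Opens, Function.Bijective (j.app O)) : FnBij j := fun O => by
  have he : j ⁻¹ᵁ (O ⊓ j.opensRange) = j ⁻¹ᵁ O := by
    ext x
    exact ⟨fun h => h.1, fun h => ⟨h, x, rfl⟩⟩
  rw [← ConcreteCategory.isIso_iff_bijective]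
  haveI : IsIso (j.app O) := (ConcreteCategory.isIso_iff_bijective _).2 (hj O)
  haveI : IsIso (j.app (O ⊓ j.opensRange)) := (ConcreteCategory.isIso_iff_bijective _).2 (hj _)
  haveI : IsIso (V.presheaf.map (homOfLE (inf_le_left : O ⊓ j.opensRange ≤ O)).op ≫
      j.app (O ⊓ j.opensRange)) := by
    rw [Scheme.Hom.naturality,
      Subsingleton.elim ((Opens.map j.base).map (homOfLE (inf_le_left : O ⊓ j.opensRange ≤ O)).op.unop)
        (eqToHom he)]
    infer_instance
  exact IsIso.of_isIso_comp_right _ (j.app (O ⊓ j.opensRange))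

theorem good_of_frames (hj : FnBij j) (h : ∀ L : U.Modules, PicF.IsInvertible L → FramesNear j L) :
    Good j :=
  ⟨fun _ hL => sectBij_of_isFinLocFree hj (H23.PullPush.isFinLocFree_of_isInvertible hL),
    fun L hL => isInvertible_push j hj.app L (h L hL)⟩

omit [IsOpenImmersion j] in
theorem exists_frame_restrict {A : V.Opens} {S : Scheme.{u}} (g : (A : Scheme.{u}) ≅ S) (L : U.Modules)
    (a : A) {N : S.Opens} (ha : g.hom a ∈ N)
    {e : Γ(L.restrict (j ⁻¹ᵁ A).ι, ((j ∣_ A) ≫ g.hom) ⁻¹ᵁ N)} (he : IsFrame e) :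
    ∃ (N' : V.Opens) (_ : a.1 ∈ N') (e' : Γ(L, j ⁻¹ᵁ N')), IsFrame e' := by
  have h1 := InvUfdLib.isFrame_of_restrict (j ⁻¹ᵁ A).ι he
  let N' : V.Opens := A.ι ''ᵁ g.hom ⁻¹ᵁ N
  have hle : j ⁻¹ᵁ N' ≤ (j ⁻¹ᵁ A).ι ''ᵁ (((j ∣_ A) ≫ g.hom) ⁻¹ᵁ N) := by
    rintro u ⟨w, hw, hwu⟩
    have huA : j u ∈ A := (show A.ι w = j u from hwu) ▸ w.2
    refine ⟨⟨u, huA⟩, ?_, rfl⟩
    have hw' : (j ∣_ A) ⟨u, huA⟩ = w := Subtype.ext ((morphismRestrict_base_coe j A _).trans hwu.symm)
    show g.hom ((j ∣_ A) ⟨u, huA⟩) ∈ N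
    rw [hw']
    exact hw
  exact ⟨N', ⟨a, ha, rfl⟩, _, h1.res hle⟩

/-- It suffices to find frames over affine opens. -/
theorem framesNear_of_affine (L : U.Modules)
    (h : ∀ (A : V.Opens) (hA : IsAffineOpen A),
      FramesNear ((j ∣_ A) ≫ hA.isoSpec.hom) (L.restrict (j ⁻¹ᵁ A).ι)) : FramesNear j L := fun v => by
  obtain ⟨_, ⟨A, hA, rfl⟩, hvA, -⟩ :=
    V.isBasis_affineOpens.exists_subset_of_mem_open (Set.mem_univ v) isOpen_univ
  obtain ⟨N, hN, e, he⟩ := h A hA (hA.isoSpec.hom ⟨v, hvA⟩)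
  exact exists_frame_restrict j hA.isoSpec L ⟨v, hvA⟩ hN he

/-- Restriction of functions to `W ⊓ O` is bijective for every open `W` if it is for affine `W`. -/
theorem bijective_of_affine {X : Scheme.{u}} (O : X.Opens)
    (h : ∀ A : X.Opens, IsAffineOpen A →
      Function.Bijective (X.presheaf.map (homOfLE (inf_le_left : A ⊓ O ≤ A)).op)) (W : X.Opens) :
    Function.Bijective (X.presheaf.map (homOfLE (inf_le_left : W ⊓ O ≤ W)).op) := by
  let M := Coh.structureModule X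
  have sep : ∀ (W : X.Opens) (s t : Γ(M, W)),
      res M (inf_le_left : W ⊓ O ≤ W) s = res M inf_le_left t → s = t := by
    intro W s t hst
    refine eq_of_locally _ _ fun p hp => ?_
    obtain ⟨A, hA, hpA, hAW⟩ := exists_isAffineOpen_mem_and_subset hp
    replace hAW : A ≤ W := hAW
    refine ⟨A, hAW, hpA, (h A hA).1 ?_⟩
    show res M (inf_le_left : A ⊓ O ≤ A) (res M hAW s) = res M inf_le_left (res M hAW t)
    rw [res_res, res_res, ← res_res (inf_le_left : W ⊓ O ≤ W) (inf_le_inf_right O hAW) s,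
      ← res_res (inf_le_left : W ⊓ O ≤ W) (inf_le_inf_right O hAW) t, hst]
  refine ⟨fun s t hst => sep W s t hst, fun (s : Γ(M, W ⊓ O)) => ?_⟩
  let ι := {A : X.affineOpens // (A : X.Opens) ≤ W}
  have hex : ∀ A : ι, ∃ t : Γ(M, A.1.1), res M (inf_le_left : (A.1 : X.Opens) ⊓ O ≤ A.1) t =
      res M (inf_le_inf_right O A.2) s := fun A => (h A.1 A.1.2).2 _
  choose g hg using hex
  obtain ⟨t, ht, -⟩ := existsUnique_glue (M := M) (V := W) (fun A : ι => (A.1 : X.Opens)) (fun A => A.2)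
    (fun p hp => by
      obtain ⟨A, hA, hpA, hAW⟩ := exists_isAffineOpen_mem_and_subset hp
      exact ⟨⟨⟨A, hA⟩, hAW⟩, hpA⟩)
    g fun A B => by
      refine sep _ _ _ ?_
      have key : ∀ (A : ι) (P : X.Opens) (hP : P ≤ A.1) (hPO : P ≤ O),
          res M hP (g A) = res M (le_inf (hP.trans A.2) hPO) s := by
        intro A P hP hPO
        have h1 := hg A
        rw [← res_res (inf_le_left : (A.1 : X.Opens) ⊓ O ≤ A.1) (le_inf hP hPO), h1, res_res]
      rw [res_res, res_res, key A _ _ inf_le_right, key B _ _ inf_le_right]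
  refine ⟨t, eq_of_locally (M := M) _ _ fun p hp => ?_⟩
  obtain ⟨A, hA, hpA, hAW⟩ := exists_isAffineOpen_mem_and_subset hp.1
  replace hAW : A ≤ W := hAW
  let a : ι := ⟨⟨A, hA⟩, hAW⟩
  refine ⟨A ⊓ O, inf_le_inf_right O hAW, ⟨hpA, hp.2⟩, ?_⟩
  show res M (inf_le_inf_right O hAW) (res M (inf_le_left : W ⊓ O ≤ W) t) = res M _ s
  rw [res_res]
  refine (res_res hAW (inf_le_left : A ⊓ O ≤ A) t).symm.trans ?_
  rw [show res M hAW t = g a from ht a]
  exact hg a

end Groth.Agent.ParaF2
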