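import Groth.Agent.ParaF2.Triple
import Mathlib.RingTheory.Flat.EquationalCriterion

/-!
The adic filtration of a flat algebra along the maximal ideal of the base has free graded pieces.
-/

set_option autoImplicit false
set_option linter.style.haveILetI false

universe u

open IsLocalRing

namespace Groth.Agent.ParaF2

theorem free_gr_of_flat (A B : Type u) [CommRing A] [CommRing B] [IsLocalRing A] [IsNoetherianRing A]
    [Algebra A B] [Module.Flat A B] (n : ℕ) :
    Module.Free (B ⧸ (maximalIdeal A).map (algebraMap A B)) (Gr ((maximalIdeal A).map (algebraMap A B)) n) := by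
  classical
  let m := maximalIdeal A
  let φ := algebraMap A B
  let J := m.map φ
  letI := Ideal.Quotient.field m
  haveI : Module.Free (A ⧸ m) (Gr m n) := Module.Free.of_divisionRing _ _
  haveI : Module.Finite (A ⧸ m) (Gr m n) := Module.Finite.of_restrictScalars_finite A _ _
  let bas := Module.Free.chooseBasis (A ⧸ m) (Gr m n)
  let ι := Module.Free.ChooseBasisIndex (A ⧸ m) (Gr m n)
  choose b hb using fun i : ι => Submodule.Quotient.mk_surjective _ (bas i)
  have hJpow : ∀ k, J ^ k = (m ^ k).map φ := fun k => (Ideal.map_pow φ m k).symm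
  have hv : ∀ i, φ (b i) ∈ J ^ n := fun i => by
    rw [hJpow]; exact Ideal.mem_map_of_mem _ (b i).2
  let v : ι → Gr J n := fun i => Submodule.Quotient.mk ⟨φ (b i), hv i⟩
  have hcomb : ∀ c : ι → A, (∑ i, (Ideal.Quotient.mk m (c i)) • bas i) =
      Submodule.Quotient.mk (∑ i, c i • b i) := fun c => by
    rw [← Submodule.mkQ_apply, map_sum]
    refine Finset.sum_congr rfl fun i _ => ?_
    rw [map_smul, Submodule.mkQ_apply, hb, ← Ideal.Quotient.algebraMap_eq, algebraMap_smul]
  have hval : ∀ c : ι → A, ((∑ i, c i • b i : ↥(m ^ n)) : A) = ∑ i, c i * (b i : A) := fun c => by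
    simp [Submodule.coe_sum]
  refine Module.Free.of_basis (Module.Basis.mk (v := v) ?_ ?_)
  · rw [Fintype.linearIndependent_iff]
    intro g hg i
    choose c hc using fun i => Ideal.Quotient.mk_surjective (g i)
    have hsum : ∑ i, c i * φ (b i) ∈ J ^ (n + 1) := by
      have h1 : (Submodule.Quotient.mk (∑ i, c i • (⟨φ (b i), hv i⟩ : ↥(J ^ n))) : Gr J n) = 0 := by
        rw [← Submodule.mkQ_apply, map_sum, ← hg]
        refine Finset.sum_congr rfl fun i _ => ?_
        rw [map_smul, ← hc, ← Ideal.Quotient.algebraMap_eq, algebraMap_smul]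
        rfl
      rw [mkGr_eq_zero] at h1
      simpa [Submodule.coe_sum] using h1
    rw [hJpow] at hsum
    obtain ⟨s, hs⟩ : (m ^ (n + 1)).FG := IsNoetherian.noetherian _
    rw [← hs, Ideal.map_span,
      show (φ '' (s : Set A)) = Set.range (fun e : s => φ e) by ext; simp] at hsum
    obtain ⟨d, hd⟩ := Ideal.mem_span_range_iff_exists_fun.1 hsum
    let f : ι ⊕ s → A := Sum.elim (fun i => (b i : A)) (fun e => -(e : A))
    let x : ι ⊕ s → B := Sum.elim c d
    have hrel : ∑ t, f t • x t = 0 := by
      rw [Fintype.sum_sum_type]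
      simp only [f, x, Sum.elim_inl, Sum.elim_inr, Algebra.smul_def, map_neg, neg_mul, Finset.sum_neg_distrib]
      rw [← sub_eq_add_neg, sub_eq_zero]
      calc ∑ i, φ (b i : A) * c i = ∑ i, c i * φ (b i) := Finset.sum_congr rfl fun i _ => mul_comm _ _
        _ = _ := by rw [← hd]; exact Finset.sum_congr rfl fun i _ => mul_comm _ _
    obtain ⟨k, M, y, hy, hM⟩ := Module.Flat.isTrivialRelation_of_sum_smul_eq_zero (R := A) (M := B) (f := f) (x := x) hrel
    have hmem : ∀ j i, M (Sum.inl i) j ∈ m := fun j i => by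
      have h := hM j
      rw [Fintype.sum_sum_type] at h
      simp only [f, Sum.elim_inl, Sum.elim_inr, neg_mul, Finset.sum_neg_distrib] at h
      have h1 : ((∑ i, M (Sum.inl i) j • b i : ↥(m ^ n)) : A) ∈ m ^ (n + 1) := by
        rw [hval, show ∑ i, M (Sum.inl i) j * (b i : A) = ∑ e : s, (e : A) * M (Sum.inr e) j by
          rw [← sub_eq_zero, sub_eq_add_neg, ← h]
          congr 1
          exact Finset.sum_congr rfl fun i _ => mul_comm _ _]
        exact Submodule.sum_mem _ fun e _ => Ideal.mul_mem_right _ _ (hs ▸ Submodule.subset_span e.2)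
      rw [← mkGr_eq_zero, ← hcomb] at h1
      have := Fintype.linearIndependent_iff.1 bas.linearIndependent _ h1 i
      exact Ideal.Quotient.eq_zero_iff_mem.1 this
    rw [← hc, Ideal.Quotient.eq_zero_iff_mem, show c i = x (Sum.inl i) from rfl, hy]
    refine Submodule.sum_mem _ fun j _ => ?_
    rw [Algebra.smul_def]
    exact Ideal.mul_mem_right _ _ (Ideal.mem_map_of_mem _ (hmem j i))
  · intro g _
    obtain ⟨⟨w, hw⟩, rfl⟩ := Submodule.Quotient.mk_surjective _ g
    let P := Submodule.span (B ⧸ J) (Set.range v)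
    have key : ∀ a ∈ m ^ n, ∀ ha : φ a ∈ J ^ n, (Submodule.Quotient.mk ⟨φ a, ha⟩ : Gr J n) ∈ P := by
      intro a ha hφa
      obtain ⟨c', hc'⟩ : ∃ c' : ι → A, (Submodule.Quotient.mk ⟨a, ha⟩ : Gr m n) =
          Submodule.Quotient.mk (∑ i, c' i • b i) := by
        choose c' hc' using fun i => Ideal.Quotient.mk_surjective (bas.repr (Submodule.Quotient.mk ⟨a, ha⟩) i)
        exact ⟨c', by rw [← hcomb]; simp only [hc']; exact (bas.sum_repr _).symm⟩
      rw [← sub_eq_zero, ← Submodule.Quotient.mk_sub, mkGr_eq_zero] at hc'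
      have h1 : φ (a - ∑ i, c' i * (b i : A)) ∈ J ^ (n + 1) := by
        rw [hJpow]
        refine Ideal.mem_map_of_mem _ ?_
        rw [← hval]; exact hc'
      have h2 : (Submodule.Quotient.mk ⟨φ a, hφa⟩ : Gr J n) =
          ∑ i, (Ideal.Quotient.mk J (φ (c' i))) • v i := by
        rw [show ∑ i, (Ideal.Quotient.mk J (φ (c' i))) • v i =
          Submodule.Quotient.mk (∑ i, φ (c' i) • (⟨φ (b i), hv i⟩ : ↥(J ^ n))) by
            rw [← Submodule.mkQ_apply, map_sum]
            refine Finset.sum_congr rfl fun i _ => ?_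
            rw [map_smul, ← Ideal.Quotient.algebraMap_eq, algebraMap_smul]
            rfl]
        rw [← sub_eq_zero, ← Submodule.Quotient.mk_sub, mkGr_eq_zero]
        simpa [Submodule.coe_sum, map_sum, map_sub] using h1
      rw [h2]
      exact Submodule.sum_mem _ fun i _ => Submodule.smul_mem _ _ (Submodule.subset_span ⟨i, rfl⟩)
    have hall : ∀ w ∈ (m ^ n).map φ, ∀ hw : w ∈ J ^ n, (Submodule.Quotient.mk ⟨w, hw⟩ : Gr J n) ∈ P := by
      intro w hw
      induction hw using Submodule.span_induction with
      | mem x hx => obtain ⟨a, ha, rfl⟩ := hx; exact key a ha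
      | zero => intro h; exact (Submodule.zero_mem P)
      | add x y hx hy ihx ihy =>
        intro h
        have hx' : x ∈ J ^ n := by rw [hJpow]; exact hx
        have hy' : y ∈ J ^ n := by rw [hJpow]; exact hy
        exact Submodule.add_mem P (ihx hx') (ihy hy')
      | smul r x hx ih =>
        intro h
        have hx' : x ∈ J ^ n := by rw [hJpow]; exact hx
        have := Submodule.smul_mem P (Ideal.Quotient.mk J r) (ih hx')
        rw [← Ideal.Quotient.algebraMap_eq, algebraMap_smul] at this
        exact this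
    exact hall w (by rw [← hJpow]; exact hw) hw

end Groth.Agent.ParaF2
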