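import Groth.Agent.ParaF2.Matrix
import Groth.Agent.AmpleX.Locus
import Groth.Agent.H23.PicInv

/-!
The local punctured spectra of a parafactorial pair have trivial Picard groups.
-/

universe u

open CategoryTheory CategoryTheory.Limits AlgebraicGeometry TopologicalSpace Opposite

set_option linter.style.haveILetI false

namespace Groth.Agent.ParaF2

open Groth.Agent.AModX Groth.Agent.InvX Groth.Agent.ParaFX Groth.Agent.H23 Groth.Agent.H23.TrivBasic

/-- Sections of an invertible module on a quasi-compact open of an affine scheme generate it. -/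
theorem exists_locus_mem {B : Type u} [CommRing B] {W : Scheme.{u}} (i : W ⟶ Spec (CommRingCat.of B))
    [IsOpenImmersion i] [CompactSpace W] {L : W.Modules} (hL : PicF.IsInvertible L) (x : W) :
    ∃ s : Γ(L, ⊤), x ∈ locus s := by
  haveI : IsSeparated (terminal.from W) := by
    rw [← terminal.comp_from i]; infer_instance
  haveI : W.IsSeparated := ⟨this⟩
  obtain ⟨U, hxU, e, he⟩ := InvX.exists_frame hL x
  obtain ⟨_, ⟨_, ⟨f, rfl⟩, rfl⟩, hxf, hfU⟩ := PrimeSpectrum.isBasis_basic_opens.exists_subset_of_mem_open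
    (show i x ∈ (SetLike.coe (i ''ᵁ U) : Set (PrimeSpectrum B)) from ⟨x, hxU, rfl⟩) (i ''ᵁ U).isOpen
  let σ : Spec (CommRingCat.of (Localization.Away f)) ⟶ Spec (CommRingCat.of B) :=
    Spec.map (CommRingCat.ofHom (algebraMap B (Localization.Away f)))
  let φ := pullback.fst i σ
  have hσ : Set.range σ = (PrimeSpectrum.basicOpen f : Set (PrimeSpectrum B)) :=
    PrimeSpectrum.localization_away_comap_range (Localization.Away f) f
  have hle : (⊤ : (pullback i σ).Opens) ≤ φ ⁻¹ᵁ U := fun p _ => by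
    have h1 : σ (pullback.snd i σ p) ∈ (PrimeSpectrum.basicOpen f : Set (PrimeSpectrum B)) := hσ ▸ ⟨_, rfl⟩
    have h2 : i (φ p) ∈ i ''ᵁ U := by
      rw [← Scheme.Hom.comp_apply, pullback.condition, Scheme.Hom.comp_apply]
      exact hfU h1
    obtain ⟨y, hy, hyp⟩ := h2
    show φ p ∈ U; rw [← i.isOpenEmbedding.injective hyp]; exact hy
  obtain ⟨m, hm⟩ := exists_locus_localization (Submonoid.powers f) (IsPullback.of_hasPullback i σ) hL
    (triv_of_frame ((isFrame_pullElt φ he).res hle))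
  obtain ⟨w, hw⟩ : i x ∈ Set.range σ := hσ ▸ hxf
  obtain ⟨p, hp, -⟩ := Scheme.Pullback.exists_preimage_pullback x w hw.symm
  exact ⟨m, hp ▸ hm p⟩

/-- Finitely many sections generate. -/
theorem exists_finset_locus {B : Type u} [CommRing B] {W : Scheme.{u}} (i : W ⟶ Spec (CommRingCat.of B))
    [IsOpenImmersion i] [CompactSpace W] {L : W.Modules} (hL : PicF.IsInvertible L) :
    ∃ S : Finset Γ(L, ⊤), ∀ x : W, ∃ s ∈ S, x ∈ locus s := by
  choose s hs using exists_locus_mem i hL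
  obtain ⟨T, hT⟩ := isCompact_univ.elim_finite_subcover (fun x : W => SetLike.coe (locus (s x)))
    (fun x => (locus (s x)).isOpen) fun x _ => Set.mem_iUnion.2 ⟨x, hs x⟩
  classical
  refine ⟨T.image s, fun x => ?_⟩
  obtain ⟨y, hy, hxy⟩ := Set.mem_iUnion₂.1 (hT (Set.mem_univ x))
  exact ⟨s y, Finset.mem_image_of_mem _ hy, hxy⟩

/-- The pairings of sections form a matrix of rank one. -/
theorem smul_pair {W : Scheme.{u}} {L D : W.Modules} (hL : PicF.IsInvertible L) (hD : PicF.IsInvertible D)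
    (π : CohB1.tensorMod L D ⟶ Coh.structureModule W) (s s' : Γ(L, ⊤)) (t : Γ(D, ⊤)) :
    (show Γ(W, ⊤) from π.app ⊤ (InvX.tmul s' t)) • s = (show Γ(W, ⊤) from π.app ⊤ (InvX.tmul s t)) • s' := by
  refine eq_of_locally _ _ fun p _ => ?_
  obtain ⟨U, hpU, ε, δ, hε, hδ⟩ := InvX.exists_frame₂ hL hD p
  refine ⟨U, le_top, hpU, ?_⟩
  obtain ⟨g, hg⟩ := hε.exists_coord le_rfl (res L (le_top : U ≤ ⊤) s)
  obtain ⟨g', hg'⟩ := hε.exists_coord le_rfl (res L (le_top : U ≤ ⊤) s')
  obtain ⟨h, hh⟩ := hδ.exists_coord le_rfl (res D (le_top : U ≤ ⊤) t)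
  rw [res_self] at hg hg' hh
  have key : ∀ (x : Γ(L, ⊤)) (c : Γ(W, U)), res L (le_top : U ≤ ⊤) x = c • ε →
      resR (le_top : U ≤ ⊤) (show Γ(W, ⊤) from π.app ⊤ (InvX.tmul x t)) =
        c * h * (show Γ(W, U) from π.app U (InvX.tmul ε δ)) := by
    intro x c hx
    refine (app_res π (le_top : U ≤ ⊤) (InvX.tmul x t)).symm.trans ?_
    rw [InvX.res_tmul, hx, hh, InvX.tmul_smul_left, InvX.tmul_smul_right, ← mul_smul,
      Scheme.Modules.Hom.app_smul]
    rfl
  rw [res_smul, res_smul, key s' g' hg', key s g hg, hg, hg', smul_smul, smul_smul]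
  congr 1
  ring

/-- A frame of a direct image is a frame of the module. -/
theorem isFrame_of_push' {W X : Scheme.{u}} (i : W ⟶ X) [IsOpenImmersion i]
    (hi : ∀ O, Function.Bijective (i.app O)) {L : W.Modules} {N : X.Opens}
    {e : Γ(L, i ⁻¹ᵁ N)} (he : IsFrame (M := (Scheme.Modules.pushforward i).obj L) (U := N) e) :
    IsFrame e := fun V hV => by
  have hO : i ''ᵁ V ≤ N := by
    rintro _ ⟨x, hx, rfl⟩
    exact hV hx
  obtain ⟨V', rfl, hO'⟩ : ∃ V', i ⁻¹ᵁ V' = V ∧ V' ≤ N := ⟨i ''ᵁ V, i.preimage_image_eq V, hO⟩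
  exact (Function.Bijective.of_comp_iff _ (hi V')).1 (he V' hO')

variable {R : Type u} [CommRing R] [IsNoetherianRing R]

theorem picTrivial_local_of_pair (Y : Closeds (Spec (CommRingCat.of R)))
    (hY : ParaF.IsParafactorialPair (Spec (CommRingCat.of R)) Y) (v : PrimeSpectrum R)
    (hv : v ∈ (SetLike.coe Y : Set (PrimeSpectrum R))) (B : Type u) [CommRing B] [IsLocalRing B] [Algebra R B]
    [IsLocalization.AtPrime B v.asIdeal]
    (hB : Function.Bijective ((Spec (CommRingCat.of B)).presheaf.map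
      (homOfLE (le_top : FEt.puncturedSpec B ≤ ⊤)).op)) :
    ParaF.PicTrivial (FEt.puncturedSpec B : Scheme.{u}) := by
  classical
  intro L₀ hL₀
  show Triv L₀
  haveI : IsNoetherianRing B := IsLocalization.isNoetherianRing v.asIdeal.primeCompl B inferInstance
  let X := Spec (CommRingCat.of R)
  let W₀ : Scheme.{u} := FEt.puncturedSpec B
  let pB : W₀ ⟶ Spec (CommRingCat.of B) := (FEt.puncturedSpec B).ι
  let σ : Spec (CommRingCat.of B) ⟶ X := Spec.map (CommRingCat.ofHom (algebraMap R B))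
  let φ : W₀ ⟶ X := pB ≫ σ
  haveI : NoetherianSpace W₀ := pB.isOpenEmbedding.isInducing.noetherianSpace
  have hσc : σ (IsLocalRing.closedPoint B) = v :=
    PrimeSpectrum.ext (IsLocalization.AtPrime.under_maximalIdeal B v.asIdeal)
  have hφv : ∀ x, φ x ⤳ v := fun x =>
    hσc ▸ (IsLocalRing.specializes_closedPoint (pB x)).map σ.continuous
  let ρ : B →+* Γ(W₀, ⊤) := Coh.toGlobal pB
  have hρ : Function.Bijective ρ := by
    have h1 : Function.Bijective pB.appTop := by
      rw [← ConcreteCategory.isIso_iff_bijective] at hB ⊢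
      haveI := hB
      rw [show pB.appTop = (FEt.puncturedSpec B).ι.appTop from rfl, Scheme.Opens.ι_appTop,
        show (homOfLE (le_top : (FEt.puncturedSpec B).ι ''ᵁ ⊤ ≤ ⊤)).op =
          (homOfLE (le_top : FEt.puncturedSpec B ≤ ⊤)).op ≫
            (eqToHom (FEt.puncturedSpec B).ι_image_top).op from rfl, Functor.map_comp]
      haveI : IsIso (eqToHom (FEt.puncturedSpec B).ι_image_top).op := inferInstance
      exact IsIso.comp_isIso' hB (Functor.map_isIso _ _)
    exact h1.comp (ConcreteCategory.bijective_of_isIso (Scheme.ΓSpecIso (CommRingCat.of B)).inv)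
  obtain ⟨D, hD, ⟨π⟩⟩ := PicInv.exists_inverse hL₀
  obtain ⟨S, hS⟩ := exists_finset_locus pB hL₀
  obtain ⟨T, hT⟩ := exists_finset_locus pB hD
  have hpair : ∀ (k : S) (l : T), ∃ b : B,
      ρ b = (show Γ(W₀, ⊤) from π.hom.app ⊤ (InvX.tmul k.1 l.1)) := fun k l => hρ.2 _
  choose b hb using hpair
  obtain ⟨c, hc⟩ := IsLocalization.exist_integer_multiples v.asIdeal.primeCompl (Finset.univ : Finset (S × T))
    (fun i => b i.1 i.2)
  have hc' : ∀ (k : S) (l : T), ∃ r : R, algebraMap R B r = algebraMap R B c * b k l := fun k l => by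
    obtain ⟨r, hr⟩ := hc (k, l) (Finset.mem_univ _)
    exact ⟨r, hr.trans (Algebra.smul_def _ _)⟩
  choose r hr using hc'
  have hrelB : ∀ (k p : S) (q : T), ρ (b p q) • k.1 = ρ (b k q) • p.1 :=
    fun k p q => by rw [hb, hb]; exact smul_pair hL₀ hD π.hom k.1 p.1 q.1
  have hminB : ∀ (k : S) (l : T) (p : S) (q : T), b k l * b p q = b k q * b p l := by
    intro k l p q
    refine hρ.1 ?_
    rw [map_mul, map_mul]
    have h := congrArg (fun x : Γ(L₀, ⊤) => (show Γ(W₀, ⊤) from π.hom.app ⊤ (InvX.tmul x l.1))) (hrelB k p q)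
    simp only [InvX.tmul_smul_left, Scheme.Modules.Hom.app_smul] at h
    rw [mul_comm (ρ (b k l)), hb k l, hb p l]
    exact h
  have hh : ∀ i : (S × T) × (S × T), ∃ h : v.asIdeal.primeCompl,
      (h : R) * (r i.1.1 i.1.2 * r i.2.1 i.2.2) = h * (r i.1.1 i.2.2 * r i.2.1 i.1.2) := fun i =>
    (IsLocalization.eq_iff_exists v.asIdeal.primeCompl B).1 (by
      rw [map_mul, map_mul, hr, hr, hr, hr, mul_mul_mul_comm, hminB, mul_mul_mul_comm])
  choose h hh using hh
  let H : v.asIdeal.primeCompl := ∏ i, h i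
  let u : B := algebraMap R B (H * c)
  have hu : IsUnit u := IsLocalization.map_units B (H * c)
  let ΓR : R →+* Γ(X, ⊤) := (Scheme.ΓSpecIso (CommRingCat.of R)).inv.hom
  let a : S → T → Γ(X, ⊤) := fun k l => ΓR (H * r k l)
  have hφa : ∀ k l, φ.appTop (a k l) = ρ u * ρ (b k l) := fun k l => by
    rw [← map_mul, show u * b k l = algebraMap R B (H * r k l) by simp only [u, map_mul, hr, mul_assoc]]
    exact (QCoh.toGlobal_comm φ pB (𝟙 W₀) (Category.id_comp φ) _).symm
  have hminor : ∀ k l p q, a k l * a p q = a k q * a p l := fun k l p q => by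
    simp only [a, ← map_mul]
    congr 1
    obtain ⟨w, hw⟩ : (h ((k, l), (p, q)) : R) ∣ (H : R) := by
      simp only [H, Submonoid.coe_finsetProd]
      exact Finset.dvd_prod_of_mem _ (Finset.mem_univ _)
    have h2 := hh ((k, l), (p, q))
    simp only at h2
    rw [mul_mul_mul_comm, mul_mul_mul_comm (H : R) (r k q), hw]
    linear_combination ((h ((k, l), (p, q)) : R) * w ^ 2) * h2
  have hbasic : ∀ k l, φ ⁻¹ᵁ X.basicOpen (a k l) =
      W₀.basicOpen (show Γ(W₀, ⊤) from π.hom.app ⊤ (InvX.tmul k.1 l.1)) := fun k l => by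
    rw [Scheme.preimage_basicOpen_top, hφa, Scheme.basicOpen_mul,
      Scheme.basicOpen_of_isUnit _ (hu.map _), top_inf_eq, hb]
  have hone : ∀ w : Γ(W₀, ⊤), AmpleX.locus (M := Coh.structureModule W₀) (U := ⊤) w = W₀.basicOpen w := fun w => by
    refine (inf_eq_left.2 (AmpleX.locus_le _)).symm.trans
      (AmpleX.locus_inf (M := Coh.structureModule W₀) w le_rfl (InvX.isFrame_one ⊤) (g := w) ?_)
    exact (AModX.res_self (M := Coh.structureModule W₀) _).trans (mul_one w).symm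
  have hlocus : ∀ {M : W₀.Modules} (m : Γ(M, ⊤)), AmpleX.locus m = locus m := fun {M} m =>
    le_antisymm (le_locus (AmpleX.isFrame_res_of_le m le_rfl))
      (AmpleX.le_locus m le_top (isFrame_res_of_le_locus le_rfl))
  have hfr : ∀ k l, φ ⁻¹ᵁ X.basicOpen (a k l) = locus k.1 ⊓ locus l.1 := fun k l => by
    rw [hbasic, ← hone, AmpleX.locus_iso, AmpleX.locus_tmul hL₀ hD, hlocus, hlocus]
  have hcov : ∀ x : W₀, ∃ k l, φ x ∈ X.basicOpen (a k l) := fun x => by
    obtain ⟨s, hsS, hs⟩ := hS x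
    obtain ⟨t, htT, ht⟩ := hT x
    exact ⟨⟨s, hsS⟩, ⟨t, htT⟩, (hfr ⟨s, hsS⟩ ⟨t, htT⟩).ge ⟨hs, ht⟩⟩
  by_cases hout : ∃ k l, v ∈ X.basicOpen (a k l)
  · obtain ⟨k, l, hkl⟩ := hout
    refine triv_of_frame (locus_eq_top_iff.1 (top_le_iff.1 fun x _ => ?_) : IsFrame k.1)
    exact ((hfr k l).le ((hφv x).mem_open (X.basicOpen (a k l)).isOpen hkl)).1
  push Not at hout
  let Yv : Closeds X := ⟨closure {v}, isClosed_closure⟩
  have hpairv : ParaF.IsParafactorialPair X Yv := isParafactorialPair_mono Y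
    (fun x hx => Y.isClosed.closure_subset_iff.2 (Set.singleton_subset_iff.2 hv) hx) hY
  let W₁ : X.Opens := ⨆ i : S × T, X.basicOpen (a i.1 i.2)
  have hgen : ∀ q : X, q ⤳ v → q ≠ v → q ∈ W₁ := by
    intro q hq hqv
    have hle : q.asIdeal ≤ v.asIdeal := (PrimeSpectrum.le_iff_specializes q v).2 hq
    obtain ⟨w, rfl⟩ : q ∈ Set.range σ := by
      rw [show Set.range σ = Set.range (PrimeSpectrum.comap (algebraMap R B)) from rfl,
        PrimeSpectrum.localization_comap_range B v.asIdeal.primeCompl]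
      exact Set.disjoint_left.2 fun a ha haz => ha (hle haz)
    obtain ⟨k, l, hkl⟩ := hcov ⟨w, fun hw => hqv (by rw [show w = IsLocalRing.closedPoint B from hw, hσc])⟩
    exact Opens.mem_iSup.2 ⟨(k, l), hkl⟩
  let N : X.Opens := ⟨(closure (SetLike.coe Yv.compl ∩ (SetLike.coe W₁)ᶜ))ᶜ, isClosed_closure.isOpen_compl⟩
  have hvN : v ∈ N := by
    intro hcl
    obtain ⟨z, ⟨hz1, hz2⟩, hzv⟩ := exists_specializes Yv.compl.isOpen W₁.isOpen.isClosed_compl hcl
    exact hz2 (hgen z hzv fun h => hz1 (h ▸ subset_closure rfl))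
  have hNW : N ⊓ Yv.compl ≤ W₁ := fun x hx => by_contra fun hxW => hx.1 (subset_closure ⟨hx.2, hxW⟩)
  have hWY : W₁ ≤ Yv.compl := fun x hx hxv => by
    obtain ⟨i, hi⟩ := Opens.mem_iSup.1 ((specializes_iff_mem_closure.2 hxv).mem_open W₁.isOpen hx)
    exact hout _ _ hi
  obtain ⟨N', hN', e, he⟩ := exists_frame_of_matrix φ L₀ a (fun k : S => k.1) hminor
    (fun k p q => by rw [hφa, hφa, mul_smul, mul_smul, hrelB]) (fun k l => (hfr k l).le.trans inf_le_left)
    hcov v fun M hM => by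
    let j := X.homOfLE (inf_le_left : N ⊓ Yv.compl ≤ N)
    have hgood := good_of_pair Yv hpairv N
    have hinv : PicF.IsInvertible (M.restrict (N ⊓ Yv.compl).ι) := fun x => by
      obtain ⟨i, hi⟩ := Opens.mem_iSup.1 (hNW x.2)
      obtain ⟨f, hf⟩ := hM i.1 i.2
      exact ⟨(N ⊓ Yv.compl).ι ⁻¹ᵁ X.basicOpen (a i.1 i.2), hi, InvUfdLib.nonempty_iso_restrict_of_frame
        (InvUfdLib.isFrame_restrict _ (hf.res (Scheme.Hom.image_preimage_le _ _)))⟩
    obtain ⟨O, hvO, f, hf⟩ := InvX.exists_frame (hgood.push _ hinv) ⟨v, hvN⟩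
    have hj : ∀ O, Function.Bijective (j.app O) :=
      (fnBij_homOfLE Yv (bijective_of_pair Yv hpairv) N).app
    have h1 := InvUfdLib.isFrame_of_restrict (N ⊓ Yv.compl).ι (isFrame_of_push' j hj hf)
    refine ⟨N.ι ''ᵁ O, ⟨⟨v, hvN⟩, hvO, rfl⟩, _, h1.res ?_⟩
    intro x hx
    obtain ⟨⟨y, hy, rfl⟩, hxW⟩ := hx
    refine ⟨⟨y.1, y.2, hWY hxW⟩, ?_, rfl⟩
    show j ⟨y.1, _⟩ ∈ O
    rw [show j ⟨y.1, ⟨y.2, hWY hxW⟩⟩ = y from Subtype.ext (by simp [j])]
    exact hy
  exact triv_of_frame (he.res (fun x _ => (hφv x).mem_open N'.isOpen hN'))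

end Groth.Agent.ParaF2
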