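import Groth.Agent.ParaF2.Descent
import Mathlib.RingTheory.Flat.FaithfullyFlat.Basic
import Mathlib.RingTheory.Spectrum.Prime.Noetherian

/-!
Flat descent of parafactorial local rings.
-/

universe u

open CategoryTheory AlgebraicGeometry TopologicalSpace IsLocalRing

set_option linter.style.haveILetI false

namespace Groth.Agent.ParaF2

/-- Parafactoriality of local rings descends along flat local homomorphisms whose closed fibre is a
point. -/
theorem isParafactorialLocalRing_of_flat (B B' : Type u) [CommRing B] [CommRing B'] [IsLocalRing B]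
    [IsLocalRing B'] [IsNoetherianRing B] [Algebra B B'] [Module.Flat B B']
    [IsLocalHom (algebraMap B B')]
    (hrad : ∀ P : Ideal B', P.IsPrime → (maximalIdeal B).map (algebraMap B B') ≤ P → P = maximalIdeal B')
    (h : ParaF.IsParafactorialLocalRing B') : ParaF.IsParafactorialLocalRing B := by
  haveI : Module.FaithfullyFlat B B' := Module.FaithfullyFlat.of_flat_of_isLocalHom
  let f : Spec (CommRingCat.of B') ⟶ Spec (CommRingCat.of B) :=
    Spec.map (CommRingCat.ofHom (algebraMap B B'))
  haveI : Flat f := (HasRingHomProperty.Spec_iff (P := @Flat)).mpr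
    (RingHom.flat_algebraMap_iff.mpr inferInstance)
  haveI : Surjective f := ⟨PrimeSpectrum.comap_surjective_of_faithfullyFlat⟩
  let O : (Spec (CommRingCat.of B)).Opens :=
    (⟨{closedPoint B}, IsLocalRing.isClosed_singleton_closedPoint B⟩ : Closeds (Spec (CommRingCat.of B))).compl
  haveI : NoetherianSpace (Spec (CommRingCat.of B) : Scheme.{u}) :=
    inferInstanceAs (NoetherianSpace (PrimeSpectrum B))
  haveI : NoetherianSpace (O : Scheme.{u}) := O.ι.isOpenEmbedding.isInducing.noetherianSpace
  refine isParafactorialPair_of_flat f _ ((quasiCompact_iff _).2 fun W _ _ => NoetherianSpace.isCompact _) ?_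
  unfold ParaF.IsParafactorialLocalRing at h
  convert h using 1
  refine Closeds.ext ?_
  ext p
  show f p = closedPoint B ↔ p = closedPoint B'
  constructor
  · intro hp
    refine PrimeSpectrum.ext (hrad _ p.2 ?_)
    rw [Ideal.map_le_iff_le_comap]
    exact (congrArg PrimeSpectrum.asIdeal hp).ge
  · rintro rfl
    exact IsLocalRing.comap_closedPoint (algebraMap B B')

end Groth.Agent.ParaF2
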