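import Groth.Agent.ParaF2.Spread
import Groth.Agent.H23.CocycleMod

/-!
An invertible module on a localized punctured spectrum spreads out through the matrix of pairings of
sections.
-/

universe u

open CategoryTheory CategoryTheory.Limits AlgebraicGeometry TopologicalSpace Opposite

set_option linter.style.haveILetI false

namespace Groth.Agent.ParaF2

open Groth.Agent.AModX Groth.Agent.InvX Groth.Agent.H23 Groth.Agent.H23.TrivBasic

variable {X W₀ : Scheme.{u}}

theorem app_resR (φ : W₀ ⟶ X) {V W : X.Opens} (h : W ≤ V) (x : Γ(X, V)) :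
    φ.app W (resR h x) = resR (φ.preimage_mono h) (φ.app V x) :=
  ConcreteCategory.congr_hom (φ.naturality (homOfLE h).op) x

/-- If the sections `s` have a rank one matrix of ambient functions, and the modules it defines have a
frame near `v`, then `L₀` has a frame over the preimage of a neighbourhood of `v`. -/
theorem exists_frame_of_matrix (φ : W₀ ⟶ X) (L₀ : W₀.Modules) {α β : Type u} (a : α → β → Γ(X, ⊤))
    (s : α → Γ(L₀, ⊤)) (hminor : ∀ k l p q, a k l * a p q = a k q * a p l)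
    (hrel : ∀ k p q, φ.appTop (a p q) • s k = φ.appTop (a k q) • s p)
    (hfr : ∀ k l, φ ⁻¹ᵁ X.basicOpen (a k l) ≤ locus (s k))
    (hcov : ∀ x : W₀, ∃ k l, φ x ∈ X.basicOpen (a k l)) (v : X)
    (hN : ∀ M : X.Modules,
      (∀ k l, ∃ f : Γ(M, X.basicOpen (a k l)), IsFrame f) →
        ∃ (N' : X.Opens) (_ : v ∈ N') (e : Γ(M, N' ⊓ ⨆ i : α × β, X.basicOpen (a i.1 i.2))), IsFrame e) :
    ∃ (N' : X.Opens) (_ : v ∈ N') (e : Γ(L₀, φ ⁻¹ᵁ N')), IsFrame e := by
  classical
  let U : α × β → X.Opens := fun i => X.basicOpen (a i.1 i.2)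
  have hu : ∀ (k : α) (l : β) {W : X.Opens} (_ : W ≤ X.basicOpen (a k l)),
      IsUnit (resR (le_top : W ≤ ⊤) (a k l)) := fun k l W hW => isUnit_resR _ _ hW
  have hu' : ∀ (i j : α × β) {W : X.Opens} (_ : W ≤ U i) (_ : W ≤ U j),
      IsUnit (resR (le_top : W ≤ ⊤) (a i.1 j.2)) := by
    intro i j W hi hj
    refine isUnit_of_mul_isUnit_left (y := resR (le_top : W ≤ ⊤) (a j.1 i.2)) ?_
    rw [← map_mul, ← hminor, map_mul]
    exact (hu _ _ hi).mul (hu _ _ hj)
  let g : ∀ i j : α × β, (Γ(X, U i ⊓ U j))ˣ := fun i j =>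
    (hu' i j inf_le_left inf_le_right).unit * (hu j.1 j.2 (inf_le_right : U i ⊓ U j ≤ U j)).unit⁻¹
  have hg : ∀ (i j : α × β) {W : X.Opens} (h : W ≤ U i ⊓ U j),
      resR h (g i j : Γ(X, U i ⊓ U j)) * resR (le_top : W ≤ ⊤) (a j.1 j.2) =
        resR (le_top : W ≤ ⊤) (a i.1 j.2) := by
    intro i j W h
    have h1 : (g i j : Γ(X, U i ⊓ U j)) * resR le_top (a j.1 j.2) = resR le_top (a i.1 j.2) := by
      simp only [g, Units.val_mul, IsUnit.unit_spec, mul_assoc, IsUnit.val_inv_mul, mul_one]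
    have h2 := congrArg (resR h) h1
    rwa [map_mul, resR_resR, resR_resR] at h2
  let t : CocycleMod.Cocycle U := ⟨g, fun i j k W hi hj hk => by
    refine (hu' j j hj hj).mul_left_cancel ((hu' k k hk hk).mul_left_cancel ?_)
    have e1 := hg i k (le_inf hi hk)
    have e2 := hg j k (le_inf hj hk)
    have e3 := hg i j (le_inf hi hj)
    have e4 := congrArg (resR (le_top : W ≤ ⊤)) (hminor i.1 k.2 j.1 j.2)
    simp only [map_mul] at e4
    calc resR (le_top : W ≤ ⊤) (a k.1 k.2) * (resR le_top (a j.1 j.2) * resR (le_inf hi hk) (g i k : Γ(X, U i ⊓ U k)))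
        = resR le_top (a i.1 k.2) * resR le_top (a j.1 j.2) := by rw [← e1]; ring
      _ = resR le_top (a i.1 j.2) * resR le_top (a j.1 k.2) := e4
      _ = _ := by rw [← e2, ← e3]; ring⟩
  let M := CocycleMod.mod t
  obtain ⟨N', hvN, e, he⟩ := hN M fun k l => ⟨_, CocycleMod.isFrame_frame t (k, l)⟩
  let O : α × β → X.Opens := fun i => N' ⊓ U i
  have hO : ∀ i, O i ≤ N' ⊓ ⨆ i : α × β, X.basicOpen (a i.1 i.2) := fun i =>
    inf_le_inf_left _ (le_iSup (fun i : α × β => X.basicOpen (a i.1 i.2)) i)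
  have hc : ∀ i, ∃ r : Γ(X, O i), IsUnit r ∧
      res M (hO i) e = r • res M (inf_le_right : O i ≤ U i) (CocycleMod.frame t i) := fun i =>
    InvUfdLib.exists_unit_of_frames (he.res _) ((CocycleMod.isFrame_frame t i).res _)
  choose c hcu hce using hc
  have hcc : ∀ (i j : α × β) (W : X.Opens) (hi : W ≤ O i) (hj : W ≤ O j),
      resR hj (c j) * resR (le_top : W ≤ ⊤) (a j.1 j.2) = resR hi (c i) * resR (le_top : W ≤ ⊤) (a i.1 j.2) := by
    intro i j W hi hj
    have hWi : W ≤ U i := hi.trans inf_le_right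
    have hWj : W ≤ U j := hj.trans inf_le_right
    have h1 := congrArg (res M hi) (hce i)
    have h2 := congrArg (res M hj) (hce j)
    rw [res_smul, res_res, res_res] at h1 h2
    have h3 := congrArg (res M (le_inf hWi hWj)) (CocycleMod.res_frame t i j)
    rw [res_smul, res_res, res_res] at h3
    rw [h3, ← mul_smul] at h1
    have h4 : resR hj (c j) = resR hi (c i) * resR (le_inf hWi hWj) (g i j : Γ(X, U i ⊓ U j)) :=
      (CocycleMod.isFrame_frame t j).coord_unique hWj (h2.symm.trans h1)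
    rw [h4, mul_assoc, hg i j (le_inf hWi hWj)]
  let V : α × β → W₀.Opens := fun i => φ ⁻¹ᵁ O i
  let sec : ∀ i, Γ(L₀, V i) := fun i => φ.app (O i) (c i) • res L₀ le_top (s i.1)
  have hVle : ∀ i, V i ≤ φ ⁻¹ᵁ N' := fun i => φ.preimage_mono inf_le_left
  have hsec : ∀ i, IsFrame (sec i) := fun i =>
    (isFrame_res_of_le_locus ((φ.preimage_mono (inf_le_right : O i ≤ U i)).trans (hfr i.1 i.2))).isUnit_smul
      ((hcu i).map _)
  have hcov' : ∀ x ∈ φ ⁻¹ᵁ N', ∃ i, x ∈ V i := fun x hx => by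
    obtain ⟨k, l, h⟩ := hcov x
    exact ⟨(k, l), hx, h⟩
  have hglue : ∀ i j, res L₀ inf_le_left (sec i) = res L₀ (inf_le_right : V i ⊓ V j ≤ V j) (sec j) := by
    intro i j
    let W := O i ⊓ O j
    let P := V i ⊓ V j
    have key : (resR (inf_le_right : P ≤ V j) (φ.app (O j) (c j)) * resR (le_top : P ≤ ⊤) (φ.appTop (a j.1 j.2)) :
        Γ(W₀, P)) = resR (inf_le_left : P ≤ V i) (φ.app (O i) (c i)) * resR (le_top : P ≤ ⊤) (φ.appTop (a i.1 j.2)) := by
      have := congrArg (φ.app W) (hcc i j W inf_le_left inf_le_right)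
      rw [map_mul, map_mul, app_resR φ inf_le_left, app_resR φ inf_le_right, app_resR φ le_top,
        app_resR φ le_top] at this
      exact this
    have hu1 : IsUnit (resR (le_top : P ≤ ⊤) (φ.appTop (a j.1 j.2))) := by
      have := (hu j.1 j.2 (inf_le_right.trans inf_le_right : W ≤ _)).map (φ.app W).hom
      rwa [show (φ.app W).hom (resR le_top (a j.1 j.2)) = resR _ (φ.app ⊤ (a j.1 j.2)) from
        app_resR φ (le_top : W ≤ ⊤) _] at this
    show res L₀ _ (φ.app (O i) (c i) • _) = res L₀ _ (φ.app (O j) (c j) • _)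
    rw [res_smul, res_smul, res_res, res_res]
    refine hu1.smul_left_cancel.1 ?_
    have hrel' := congrArg (res L₀ (le_top : P ≤ ⊤)) (hrel i.1 j.1 j.2)
    rw [res_smul, res_smul] at hrel'
    calc (resR (le_top : P ≤ ⊤) (φ.appTop (a j.1 j.2))) •
          (resR (inf_le_left : P ≤ V i) (φ.app (O i) (c i)) • res L₀ (le_top : P ≤ ⊤) (s i.1))
        = (resR (inf_le_left : P ≤ V i) (φ.app (O i) (c i)) * resR (le_top : P ≤ ⊤) (φ.appTop (a i.1 j.2))) •
            res L₀ (le_top : P ≤ ⊤) (s j.1) := by rw [smul_comm, hrel', mul_smul]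
      _ = _ := by rw [← key, mul_comm, mul_smul]
  obtain ⟨m, hm, -⟩ := existsUnique_glue (M := L₀) (V := φ ⁻¹ᵁ N') V hVle hcov' sec hglue
  exact ⟨N', hvN, m, InvUfdLib.isFrame_of_cover _ hVle hcov' m fun i => hm i ▸ hsec i⟩

end Groth.Agent.ParaF2
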