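import Groth.Agent.EGA41Lib.RegSeqPow
import Groth.Agent.LC.PuncturedConn
import Mathlib.RingTheory.Polynomial.Quotient
import Mathlib.RingTheory.Localization.AtPrime.Basic
import Mathlib.RingTheory.IntegralClosure.IsIntegralClosure.Basic
import Mathlib.RingTheory.LocalRing.ResidueField.Basic
import Mathlib.FieldTheory.Minpoly.Field

/-!
An ideal of `A[T]` containing a monic polynomial which is locally principal outside the closed point of
`Spec A` has a monic generator there, if `A` has depth at least two.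
-/

set_option autoImplicit false
set_option linter.style.haveILetI false

universe u

open Polynomial IsLocalRing
open scoped Pointwise

namespace Groth.Agent.ParaF2

theorem exists_regPair {A : Type u} [CommRing A] [IsLocalRing A] [IsNoetherianRing A]
    (h : (2 : ℕ∞) ≤ LocCoh.depth A A) :
    ∃ x ∈ maximalIdeal A, ∃ y ∈ maximalIdeal A, (∀ (n : ℕ) (m : A), x ^ n * m = 0 → m = 0) ∧
      ∀ (n : ℕ) (m m' : A), y ^ n * m = x ^ n * m' → ∃ p, m = x ^ n * p := by
  obtain ⟨rs, hrs, hmem, hlen⟩ := Alg6.exists_length_ge_of_le_idealDepth (n := 2)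
    (LC.smul_top_ne_top_of_le_maximal (R := A) (M := A) (J := maximalIdeal A) le_rfl) h
  obtain ⟨x, rs, rfl⟩ := List.exists_cons_of_ne_nil (show rs ≠ [] by rintro rfl; simp at hlen)
  obtain ⟨y, rs, rfl⟩ := List.exists_cons_of_ne_nil (show rs ≠ [] by rintro rfl; simp at hlen)
  refine ⟨x, hmem x (by simp), y, hmem y (by simp), ?_, ?_⟩
  all_goals
    have h2 : RingTheory.Sequence.IsWeaklyRegular A [x, y] := by
      rw [RingTheory.Sequence.isWeaklyRegular_cons_iff, RingTheory.Sequence.isWeaklyRegular_cons_iff] at hrs ⊢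
      exact ⟨hrs.1, hrs.2.1, RingTheory.Sequence.IsWeaklyRegular.nil _ _⟩
    have hpow : ∀ n : ℕ, 1 ≤ n → RingTheory.Sequence.IsWeaklyRegular A [x ^ n, y ^ n] := fun n hn => by
      have := EGA41Lib.isWeaklyRegular_pow 2 (M := A) ![x, y] (fun _ => n) (fun _ => hn)
        (by simpa [List.ofFn_succ] using h2)
      simpa [List.ofFn_succ] using this
  · intro n m hm
    rcases Nat.eq_zero_or_pos n with rfl | hn
    · simpa using hm
    · exact ((RingTheory.Sequence.isWeaklyRegular_cons_iff _ _ _).1 (hpow n hn)).1.right_eq_zero_of_smul hm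
  · intro n m m' hm
    rcases Nat.eq_zero_or_pos n with rfl | hn
    · exact ⟨m, by simp⟩
    · simp only [RingTheory.Sequence.isWeaklyRegular_cons_iff] at hpow
      have hz := (hpow n hn).2.1.right_eq_zero_of_smul (x := Submodule.Quotient.mk m) (by
        rw [← Submodule.Quotient.mk_smul, Submodule.Quotient.mk_eq_zero, smul_eq_mul, hm]
        exact Submodule.smul_mem_pointwise_smul m' _ ⊤ trivial)
      obtain ⟨p, -, hp⟩ := (Submodule.mem_smul_pointwise_iff_exists _ _ _).1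
        ((Submodule.Quotient.mk_eq_zero _).1 hz)
      exact ⟨p, hp.symm⟩

/-- The generator is monic over a local ring. -/
theorem exists_monic_local {R : Type u} [CommRing R] [IsLocalRing R] (I : Ideal R[X]) {f : R[X]}
    (hf : f.Monic) (hfI : f ∈ I)
    (hloc : ∀ Q : Ideal R[X], Q.IsMaximal → I ≤ Q → (∀ a ∈ maximalIdeal R, C a ∈ Q) →
      ∃ g ∈ I, ∀ r ∈ I, ∃ s ∉ Q, s * r ∈ Ideal.span {g}) :
    ∃ h : R[X], h.Monic ∧ h ∈ I ∧ I ≤ Ideal.span {h} := by
  classical
  let k := ResidueField R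
  let ψ : R[X] →+* k[X] := mapRingHom (residue R)
  have hψsurj : Function.Surjective ψ := map_surjective _ (Ideal.Quotient.mk_surjective)
  have hψker : ∀ p : R[X], ψ p = 0 → ∀ Q : Ideal R[X], (∀ a ∈ maximalIdeal R, C a ∈ Q) → p ∈ Q := by
    intro p hp Q hQ
    rw [p.as_sum_support_C_mul_X_pow]
    refine Ideal.sum_mem _ fun i _ => Ideal.mul_mem_right _ _ (hQ _ ?_)
    have := congrArg (fun q => coeff q i) hp
    simp only [ψ, coe_mapRingHom, coeff_map, coeff_zero] at this
    exact (Ideal.Quotient.eq_zero_iff_mem).1 this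
  haveI : IsPrincipalIdealRing k[X] := inferInstance
  obtain ⟨g₁, hg₁⟩ := (IsPrincipalIdealRing.principal (I.map ψ)).principal
  have hfψ : ψ f ∈ I.map ψ := Ideal.mem_map_of_mem _ hfI
  have hg₁0 : g₁ ≠ 0 := by
    rintro rfl
    rw [hg₁, Submodule.mem_span_singleton] at hfψ
    obtain ⟨c, hc⟩ := hfψ
    exact (hf.map (residue R)).ne_zero (by simpa [ψ] using hc.symm)
  let gb := g₁ * C g₁.leadingCoeff⁻¹
  have hgb : gb.Monic := monic_mul_leadingCoeff_inv hg₁0
  have hgbI : I.map ψ = Ideal.span {gb} := by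
    rw [hg₁, show gb = g₁ * C g₁.leadingCoeff⁻¹ from rfl, Ideal.span_singleton_mul_right_unit
      (isUnit_C.2 (isUnit_iff_ne_zero.2 (inv_ne_zero (leadingCoeff_ne_zero.2 hg₁0))))]
  obtain ⟨g₀, hg₀I, hg₀⟩ := (Ideal.mem_map_iff_of_surjective ψ hψsurj).1
    (hgbI ▸ Ideal.mem_span_singleton_self gb : gb ∈ I.map ψ)
  let e := gb.natDegree
  let S : Submodule R (R[X] ⧸ I) := (degreeLT R e).map (Ideal.Quotient.mkₐ R I).toLinearMap
  haveI : Module.Finite R (R[X] ⧸ I) := by
    have h1 : ⊤ ≤ (degreeLT R f.natDegree).map (Ideal.Quotient.mkₐ R I).toLinearMap := by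
      intro p _
      obtain ⟨p, rfl⟩ := Ideal.Quotient.mk_surjective p
      refine ⟨p %ₘ f, mem_degreeLT.2 ((degree_modByMonic_lt _ hf).trans_le degree_le_natDegree), ?_⟩
      show Ideal.Quotient.mk I (p %ₘ f) = Ideal.Quotient.mk I p
      rw [Ideal.Quotient.eq, modByMonic_eq_sub_mul_div p f]
      simpa using I.neg_mem (Ideal.mul_mem_right _ _ hfI)
    refine ⟨?_⟩
    rw [← top_le_iff.1 h1]
    refine Submodule.FG.map _ ?_
    rw [degreeLT_eq_span_X_pow]
    exact Submodule.fg_span (Finset.finite_toSet _)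
  have hS : (⊤ : Submodule R (R[X] ⧸ I)) ≤ S ⊔ maximalIdeal R • ⊤ := by
    intro p _
    obtain ⟨p, rfl⟩ := Ideal.Quotient.mk_surjective p
    obtain ⟨q, hq⟩ := hψsurj (ψ p /ₘ gb)
    let p' := p - g₀ * q
    have hdeg : ∀ i, e ≤ i → p'.coeff i ∈ maximalIdeal R := by
      intro i hi
      rw [← Ideal.Quotient.eq_zero_iff_mem]
      have h1 : ψ p' = ψ p %ₘ gb := by
        rw [map_sub, map_mul, hg₀, hq, modByMonic_eq_sub_mul_div _ gb]
      have h2 : (ψ p').coeff i = 0 := by
        rw [h1]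
        exact coeff_eq_zero_of_degree_lt ((degree_modByMonic_lt _ hgb).trans_le
          (degree_le_natDegree.trans (by exact_mod_cast hi)))
      have h3 : residue R (p'.coeff i) = 0 := by
        rw [← h2]; exact (coeff_map (residue R) i).symm
      exact h3
    rw [show Ideal.Quotient.mk I p = (Ideal.Quotient.mkₐ R I).toLinearMap p' by
      show _ = Ideal.Quotient.mk I p'
      rw [Ideal.Quotient.eq, show p - p' = g₀ * q by ring]
      exact Ideal.mul_mem_right _ _ hg₀I]
    rw [p'.as_sum_support_C_mul_X_pow, map_sum]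
    refine Submodule.sum_mem _ fun i _ => ?_
    by_cases hi : i < e
    · refine Submodule.mem_sup_left ⟨_, mem_degreeLT.2 ((degree_C_mul_X_pow_le _ _).trans_lt ?_), rfl⟩
      exact_mod_cast hi
    · refine Submodule.mem_sup_right ?_
      rw [C_mul', map_smul]
      exact Submodule.smul_mem_smul (hdeg i (not_lt.1 hi)) trivial
  have hStop : (⊤ : Submodule R (R[X] ⧸ I)) ≤ S :=
    Submodule.le_of_le_smul_of_le_jacobson_bot Module.Finite.fg_top (maximalIdeal_le_jacobson ⊥) hS
  obtain ⟨c, hc, hce⟩ := hStop (x := Ideal.Quotient.mk I (X ^ e)) trivial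
  have hcdeg : c.degree < e := mem_degreeLT.1 hc
  let h := X ^ e - c
  have hmon : h.Monic := monic_X_pow_sub hcdeg
  have hhI : h ∈ I := (Ideal.Quotient.eq (I := I)).1 hce.symm
  have hψh : ψ h = gb := by
    have h1 : ψ h ∈ Ideal.span {gb} := hgbI ▸ Ideal.mem_map_of_mem _ hhI
    obtain ⟨d, hd⟩ := Ideal.mem_span_singleton'.1 h1
    have hm1 : (ψ h).Monic := hmon.map _
    refine eq_of_monic_of_dvd_of_natDegree_le hgb hm1 ⟨d, by rw [← hd, mul_comm]⟩ ?_
    rw [show (ψ h).natDegree = h.natDegree from hmon.natDegree_map (residue R),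
      show h.natDegree = e from ?_]
    rw [natDegree_eq_of_degree_eq_some]
    rw [show h = X ^ e - c from rfl, degree_sub_eq_left_of_degree_lt (by rwa [degree_X_pow]), degree_X_pow]
  refine ⟨h, hmon, hhI, fun r hr => ?_⟩
  let K : Ideal R[X] := (Ideal.span {h}).colon {r}
  have hK : K = ⊤ := by
    by_contra hne
    obtain ⟨Q, hQ, hKQ⟩ := Ideal.exists_le_maximal K hne
    haveI := hQ
    have hmem : ∀ s, s * r ∈ Ideal.span {h} → s ∈ Q := fun s hs =>
      hKQ (Submodule.mem_colon_singleton.2 hs)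
    have hhQ : h ∈ Q := hmem h (Ideal.mul_mem_right _ _ (Ideal.mem_span_singleton_self h))
    have hCm : ∀ a ∈ maximalIdeal R, C a ∈ Q := by
      haveI : Module.Finite R (R[X] ⧸ Ideal.span {h}) := hmon.finite_quotient
      let Q' := Q.map (Ideal.Quotient.mk (Ideal.span {h}))
      haveI : Q'.IsMaximal := Ideal.IsMaximal.map_of_surjective_of_ker_le Ideal.Quotient.mk_surjective
        (by rw [Ideal.mk_ker, Ideal.span_singleton_le_iff_mem]; exact hhQ)
      have h1 : (Q'.comap (algebraMap R (R[X] ⧸ Ideal.span {h}))).IsMaximal :=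
        Ideal.isMaximal_comap_of_isIntegral_of_isMaximal Q'
      intro a ha
      rw [← IsLocalRing.eq_maximalIdeal h1] at ha
      have h2 : C a ∈ Q'.comap (Ideal.Quotient.mk (Ideal.span {h})) := ha
      rwa [Ideal.comap_map_of_surjective' _ Ideal.Quotient.mk_surjective, Ideal.mk_ker,
        sup_eq_left.2 ((Ideal.span_singleton_le_iff_mem _).2 hhQ)] at h2
    have hIQ : I ≤ Q := fun r₀ hr₀ => by
      have h1 : ψ r₀ ∈ Ideal.span {ψ h} := by rw [hψh, ← hgbI]; exact Ideal.mem_map_of_mem _ hr₀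
      obtain ⟨d, hd⟩ := Ideal.mem_span_singleton'.1 h1
      obtain ⟨d, rfl⟩ := hψsurj d
      have h2 : ψ (r₀ - d * h) = 0 := by rw [map_sub, map_mul, hd, sub_self]
      simpa using Q.add_mem (hψker _ h2 Q hCm) (Ideal.mul_mem_left _ d hhQ)
    obtain ⟨g, hg, hgen⟩ := hloc Q hQ hIQ hCm
    obtain ⟨s, hs, hsh⟩ := hgen h hhI
    obtain ⟨c, hc⟩ := Ideal.mem_span_singleton'.1 hsh
    obtain ⟨d, hd⟩ : ∃ d, d * ψ h = ψ g := by
      refine Ideal.mem_span_singleton'.1 ?_
      rw [hψh, ← hgbI]; exact Ideal.mem_map_of_mem _ hg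
    obtain ⟨d, rfl⟩ := hψsurj d
    have hcd : c ∉ Q := fun hcQ => hs (by
      have h1 := congrArg ψ hc
      rw [map_mul, map_mul, ← hd, ← mul_assoc, ← map_mul] at h1
      have h2 : ψ (c * d) = ψ s := mul_right_cancel₀ (by rw [hψh]; exact hgb.ne_zero) h1
      have h3 : ψ (s - c * d) = 0 := by rw [map_sub, h2, sub_self]
      simpa using Q.add_mem (hψker _ h3 Q hCm) (Ideal.mul_mem_right d _ hcQ))
    obtain ⟨s', hs', hsr⟩ := hgen r hr
    obtain ⟨u, hu⟩ := Ideal.mem_span_singleton'.1 hsr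
    exact (hQ.isPrime.mem_or_mem (hmem (c * s') (Ideal.mem_span_singleton'.2 ⟨u * s, by
      linear_combination c * hu - u * hc⟩))).elim hcd hs'
  have h1 : (1 : R[X]) ∈ K := hK ▸ trivial
  simpa using Submodule.mem_colon_singleton.1 h1

variable {A : Type u} [CommRing A]

theorem exists_mul_map_eq (p : Ideal A) [p.IsPrime] (r : (Localization.AtPrime p)[X]) :
    ∃ (r' : A[X]) (s : A), s ∉ p ∧
      r'.map (algebraMap A (Localization.AtPrime p)) = C (algebraMap A (Localization.AtPrime p) s) * r := by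
  induction r using Polynomial.induction_on' with
  | add u v hu hv =>
    obtain ⟨u', s, hs, hu'⟩ := hu
    obtain ⟨v', t, ht, hv'⟩ := hv
    refine ⟨C t * u' + C s * v', s * t, fun h => (Ideal.IsPrime.mem_or_mem inferInstance h).elim hs ht, ?_⟩
    rw [Polynomial.map_add, Polynomial.map_mul, Polynomial.map_mul, map_C, map_C, hu', hv', map_mul, map_mul]
    ring
  | monomial i c =>
    obtain ⟨⟨a, s⟩, hc⟩ := IsLocalization.surj p.primeCompl c
    exact ⟨monomial i a, s, s.2, by rw [map_monomial, C_mul_monomial, ← hc, mul_comm]⟩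

variable [IsLocalRing A] [IsNoetherianRing A]

theorem exists_monic_generator (hd : (2 : ℕ∞) ≤ LocCoh.depth A A) (b : Ideal A[X]) {f : A[X]} (hf : f.Monic)
    (hfb : f ∈ b)
    (hloc : ∀ q : Ideal A[X], q.IsPrime → f ∈ q → (∃ a ∈ maximalIdeal A, C a ∉ q) →
      ∃ g ∈ b, ∀ r ∈ b, ∃ s ∉ q, s * r ∈ Ideal.span {g}) :
    ∃ F : A[X], F.Monic ∧ (∀ r ∈ b, F ∣ r) ∧ ∀ z ∈ maximalIdeal A, ∃ N : ℕ, C (z ^ N) * F ∈ b := by
  classical
  obtain ⟨x, hx, y, hy, hx1, hy2⟩ := exists_regPair hd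
  let U : Set (PrimeSpectrum A) := {n | n.asIdeal ≠ maximalIdeal A}
  let φ : ∀ n : PrimeSpectrum A, A[X] →+* (Localization.AtPrime n.asIdeal)[X] := fun n =>
    mapRingHom (algebraMap A (Localization.AtPrime n.asIdeal))
  have hgen : ∀ n ∈ U, ∃ h, h.Monic ∧ h ∈ b.map (φ n) ∧ b.map (φ n) ≤ Ideal.span {h} := by
    intro n hn
    refine exists_monic_local _ (hf.map _) (Ideal.mem_map_of_mem (φ n) hfb) fun Q hQ hbQ hQm => ?_
    haveI := hQ.isPrime
    obtain ⟨a, ha, han⟩ : ∃ a ∈ maximalIdeal A, a ∉ n.asIdeal := by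
      by_contra hc
      push Not at hc
      exact hn (le_antisymm (le_maximalIdeal n.isPrime.ne_top) hc)
    obtain ⟨g, hg, hr⟩ := hloc (Q.comap (φ n)) inferInstance
      (hbQ (Ideal.mem_map_of_mem (φ n) hfb)) ⟨a, ha, fun h => hQ.ne_top (Ideal.eq_top_of_isUnit_mem _ h (by
        simp only [φ, coe_mapRingHom, map_C]
        exact (IsLocalization.map_units _ (⟨a, han⟩ : n.asIdeal.primeCompl)).map C))⟩
    refine ⟨φ n g, Ideal.mem_map_of_mem _ hg, fun r hr' => ?_⟩
    induction hr' using Submodule.span_induction with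
    | mem x hx =>
      obtain ⟨r, hrb, rfl⟩ := hx
      obtain ⟨s, hs, hsr⟩ := hr r hrb
      obtain ⟨w, hw⟩ := Ideal.mem_span_singleton'.1 hsr
      exact ⟨φ n s, hs, Ideal.mem_span_singleton'.2 ⟨φ n w, by rw [← map_mul, hw, map_mul]⟩⟩
    | zero => exact ⟨1, Q.ne_top_iff_one.1 hQ.ne_top, by simp⟩
    | add x y _ _ ihx ihy =>
      obtain ⟨s, hs, hsx⟩ := ihx
      obtain ⟨t, ht, hty⟩ := ihy
      refine ⟨s * t, fun h => (hQ.isPrime.mem_or_mem h).elim hs ht, ?_⟩
      rw [mul_add, show s * t * x = t * (s * x) by ring, show s * t * y = s * (t * y) by ring]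
      exact Ideal.add_mem _ (Ideal.mul_mem_left _ _ hsx) (Ideal.mul_mem_left _ _ hty)
    | smul c x _ ihx =>
      obtain ⟨s, hs, hsx⟩ := ihx
      exact ⟨s, hs, by rw [smul_eq_mul, mul_left_comm]; exact Ideal.mul_mem_left _ _ hsx⟩
  choose h hmon hmem hle using hgen
  let e : U → ℕ := fun n => (h n.1 n.2).natDegree
  have hzero : ∀ c : A, (∀ n ∈ U, algebraMap A (Localization.AtPrime n.asIdeal) c = 0) → c = 0 := by
    intro c hc
    by_contra hc0
    obtain ⟨k, hk⟩ : x ∈ (Submodule.span A {c}).annihilator.radical := by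
      rw [Ideal.radical_eq_sInf, Submodule.mem_sInf]
      rintro P ⟨hP, hPp⟩
      haveI := hPp
      by_contra hxP
      let n : PrimeSpectrum A := ⟨P, hPp⟩
      have hn : n ∈ U := fun h => hxP (show x ∈ n.asIdeal by rw [h]; exact hx)
      obtain ⟨s, hs⟩ := (IsLocalization.map_eq_zero_iff n.asIdeal.primeCompl _ c).1 (hc n hn)
      exact s.2 (hP (Submodule.mem_annihilator_span_singleton _ _ |>.2 hs))
    exact hc0 (hx1 k c (Submodule.mem_annihilator_span_singleton _ _ |>.1 hk))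
  have hzeroP : ∀ p : A[X], (∀ n ∈ U, φ n p = 0) → p = 0 := fun p hp => Polynomial.ext fun i => by
    rw [coeff_zero]
    refine hzero _ fun n hn => ?_
    simpa [φ] using congrArg (fun q => coeff q i) (hp n hn)
  -- spreading
  have hspread : ∀ n : U, ∃ (a : A) (g : A[X]), a ∉ n.1.asIdeal ∧ g ∈ b ∧ g.natDegree ≤ e n ∧
      g.coeff (e n) ∉ n.1.asIdeal ∧
      ∀ n' : U, a ∉ n'.1.asIdeal → e n' = e n := by
    intro n
    let R := Localization.AtPrime n.1.asIdeal
    obtain ⟨g₁, t, ht, hg₁b, hg₁⟩ : ∃ (g₁ : A[X]) (t : A), t ∉ n.1.asIdeal ∧ g₁ ∈ b ∧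
        φ n g₁ = C (algebraMap A R t) * h n.1 n.2 := by
      suffices key : ∀ p ∈ b.map (φ n.1), ∃ (g₁ : A[X]) (t : A), t ∉ n.1.asIdeal ∧ g₁ ∈ b ∧
          φ n g₁ = C (algebraMap A R t) * p from key _ (hmem n.1 n.2)
      intro p hp
      induction hp using Submodule.span_induction with
      | mem x hx =>
        obtain ⟨r, hrb, rfl⟩ := hx
        exact ⟨r, 1, n.1.asIdeal.ne_top_iff_one.1 n.1.isPrime.ne_top, hrb, by simp⟩
      | zero => exact ⟨0, 1, n.1.asIdeal.ne_top_iff_one.1 n.1.isPrime.ne_top, b.zero_mem, by simp⟩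
      | add x y _ _ ihx ihy =>
        obtain ⟨r, s, hs, hrb, hr⟩ := ihx
        obtain ⟨r', s', hs', hr'b, hr'⟩ := ihy
        refine ⟨C s' * r + C s * r', s * s', fun h => (n.1.isPrime.mem_or_mem h).elim hs hs',
          b.add_mem (b.mul_mem_left _ hrb) (b.mul_mem_left _ hr'b), ?_⟩
        have hC : ∀ a : A, φ n (C a) = C (algebraMap A R a) := fun a => by simp [φ]; rfl
        rw [map_add, map_mul, map_mul, hr, hr', hC, hC, map_mul, map_mul]
        ring
      | smul c x _ ihx =>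
        obtain ⟨r, s, hs, hrb, hr⟩ := ihx
        obtain ⟨c', s', hs', hc'⟩ := exists_mul_map_eq n.1.asIdeal c
        refine ⟨c' * r, s * s', fun h => (n.1.isPrime.mem_or_mem h).elim hs hs', b.mul_mem_left _ hrb, ?_⟩
        rw [map_mul, hr, show φ n c' = c'.map _ from rfl, hc', map_mul, map_mul, smul_eq_mul]
        ring
    have hcoef : ∀ i, algebraMap A R (g₁.coeff i) = algebraMap A R t * (h n.1 n.2).coeff i := fun i => by
      rw [← coeff_C_mul, ← hg₁]; simp [φ]; rfl
    have hkill : ∀ i, e n < i → ∃ s ∉ n.1.asIdeal, s * g₁.coeff i = 0 := fun i hi => by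
      obtain ⟨s, hs⟩ := (IsLocalization.map_eq_zero_iff n.1.asIdeal.primeCompl R _).1
        (show algebraMap A R (g₁.coeff i) = 0 by rw [hcoef, coeff_eq_zero_of_natDegree_lt hi, mul_zero])
      exact ⟨s, s.2, hs⟩
    choose! κ hκ hκ0 using hkill
    let T := (g₁.support.filter (e n < ·)).prod κ
    have hT : T ∉ n.1.asIdeal := fun h => by
      obtain ⟨i, hi, hi'⟩ := n.1.isPrime.prod_mem_iff.1 h
      exact hκ i (Finset.mem_filter.1 hi).2 hi'
    let g := C T * g₁
    have hgdeg : g.natDegree ≤ e n := by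
      refine natDegree_le_iff_coeff_eq_zero.2 fun i hi => ?_
      rw [coeff_C_mul]
      by_cases hi' : i ∈ g₁.support
      · rw [show T = κ i * _ from (Finset.mul_prod_erase _ κ
          (Finset.mem_filter.2 ⟨hi', hi⟩ : i ∈ g₁.support.filter (e n < ·))).symm,
          mul_right_comm, hκ0 i hi, zero_mul]
      · rw [notMem_support_iff.1 hi', mul_zero]
    have hgu : g.coeff (e n) ∉ n.1.asIdeal := by
      rw [coeff_C_mul]
      intro hh
      refine ((n.1.isPrime.mem_or_mem hh).resolve_left hT |> fun h' => ht ?_)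
      have h1 := hcoef (e n)
      rw [show (h n.1 n.2).coeff (e n) = 1 from hmon n.1 n.2, mul_one] at h1
      rw [← IsLocalization.AtPrime.to_map_mem_maximal_iff R n.1.asIdeal] at h' ⊢
      rwa [← h1]
    obtain ⟨gens, hgens⟩ : b.FG := IsNoetherian.noetherian b
    have hdiv : ∀ r ∈ b, ∃ s ∉ n.1.asIdeal, C s * r ∈ Ideal.span {g} := by
      intro r hr
      obtain ⟨c, hc⟩ := Ideal.mem_span_singleton'.1 (hle n.1 n.2 (Ideal.mem_map_of_mem (φ n) hr))
      obtain ⟨c', s', hs', hc'⟩ := exists_mul_map_eq n.1.asIdeal c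
      have hC : ∀ a : A, φ n (C a) = C (algebraMap A R a) := fun a => by simp [φ]; rfl
      have h1 : φ n (C (T * t * s') * r - c' * (C T * g₁)) = 0 := by
        simp only [map_sub, map_mul, hC]
        rw [hg₁, ← hc, show φ n c' = c'.map _ from rfl, hc']
        ring
      have h2 : ∀ i, ∃ s ∉ n.1.asIdeal, s * (C (T * t * s') * r - c' * g).coeff i = 0 := fun i => by
        obtain ⟨s, hs⟩ := (IsLocalization.map_eq_zero_iff n.1.asIdeal.primeCompl R _).1
          (show algebraMap A R ((C (T * t * s') * r - c' * g).coeff i) = 0 by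
            rw [← coeff_map]
            exact (congrArg (fun q => coeff q i) h1).trans (coeff_zero i))
        exact ⟨s, s.2, hs⟩
      choose σ hσ hσ0 using h2
      let S := (C (T * t * s') * r - c' * g).support.prod σ
      have hS0 : C S * (C (T * t * s') * r - c' * g) = 0 := Polynomial.ext fun i => by
        rw [coeff_C_mul, coeff_zero]
        by_cases hi : i ∈ (C (T * t * s') * r - c' * g).support
        · rw [show S = σ i * _ from (Finset.mul_prod_erase _ σ hi).symm, mul_right_comm, hσ0, zero_mul]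
        · rw [notMem_support_iff.1 hi, mul_zero]
      refine ⟨S * (T * t * s'), fun hh => ?_, Ideal.mem_span_singleton'.2 ⟨C S * c', ?_⟩⟩
      · rcases n.1.isPrime.mem_or_mem hh with hh | hh
        · obtain ⟨i, -, hi⟩ := n.1.isPrime.prod_mem_iff.1 hh
          exact hσ i hi
        · rcases n.1.isPrime.mem_or_mem hh with hh | hh
          · exact (n.1.isPrime.mem_or_mem hh).elim hT ht
          · exact hs' hh
      · rw [map_mul]
        linear_combination -hS0
    choose! σ hσ hσg using hdiv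
    let a := g.coeff (e n) * gens.prod σ
    refine ⟨a, g, fun hh => ?_, b.mul_mem_left _ hg₁b, hgdeg, hgu, fun n' hn' => ?_⟩
    · rcases n.1.isPrime.mem_or_mem hh with hh | hh
      · exact hgu hh
      · obtain ⟨r, hr, hr'⟩ := n.1.isPrime.prod_mem_iff.1 hh
        exact hσ r (hgens ▸ Submodule.subset_span hr) hr'
    let R' := Localization.AtPrime n'.1.asIdeal
    have hu : ∀ c, c ∉ n'.1.asIdeal → IsUnit (C (algebraMap A R' c)) := fun c hc =>
      (IsLocalization.map_units R' (⟨c, hc⟩ : n'.1.asIdeal.primeCompl)).map C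
    have hb' : b.map (φ n') ≤ Ideal.span {φ n' g} := by
      rw [← hgens, Ideal.map_span, Ideal.span_le]
      rintro _ ⟨r, hr, rfl⟩
      have hσ' : σ r ∉ n'.1.asIdeal := fun h' => hn' (Ideal.mul_mem_left _ _
        (Ideal.mem_of_dvd _ (Finset.dvd_prod_of_mem σ hr) h'))
      obtain ⟨w, hw⟩ := Ideal.mem_span_singleton'.1 (hσg r (hgens ▸ Submodule.subset_span hr))
      obtain ⟨v, hv⟩ := hu _ hσ'
      refine Ideal.mem_span_singleton'.2 ⟨↑v⁻¹ * φ n' w, ?_⟩
      rw [mul_assoc, ← map_mul, hw, map_mul, show φ n' (C (σ r)) = (v : R'[X]) by rw [hv]; simp [φ]; rfl,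
        Units.inv_mul_cancel_left]
    have hlead : IsUnit (algebraMap A R' (g.coeff (e n))) :=
      IsLocalization.map_units R' (⟨_, fun h' => hn' (Ideal.mul_mem_right _ _ h')⟩ : n'.1.asIdeal.primeCompl)
    have hdeg' : (φ n' g).natDegree = e n := by
      refine natDegree_eq_of_le_of_coeff_ne_zero (natDegree_map_le.trans hgdeg) ?_
      simpa [φ] using hlead.ne_zero
    have hcoefu : IsUnit (φ n' g).leadingCoeff := by
      rw [leadingCoeff, hdeg']; simpa [φ] using hlead
    obtain ⟨v, hv⟩ := hcoefu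
    have hm' : (C (↑v⁻¹ : R') * φ n' g).Monic := monic_C_mul_of_mul_leadingCoeff_eq_one (by rw [← hv, Units.inv_mul])
    have hass : C (↑v⁻¹ : R') * φ n' g = h n'.1 n'.2 := by
      refine (eq_of_monic_of_dvd_of_natDegree_le hm' (hmon _ _) ?_ ?_).symm
      · exact dvd_trans ⟨C (v : R'), by rw [mul_comm (C _) (φ n' g), mul_assoc, ← C_mul, Units.inv_mul, C_1, mul_one]⟩
          (Ideal.mem_span_singleton.1 (hb' (hmem n'.1 n'.2)))
      · obtain ⟨d, hd⟩ := Ideal.mem_span_singleton.1 (hle _ n'.2 (Ideal.mul_mem_left _ (C (↑v⁻¹ : R'))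
          (Ideal.mem_map_of_mem (φ n') (b.mul_mem_left (C T) hg₁b))))
        have hd0 : d ≠ 0 := fun h0 => hm'.ne_zero (by rw [show C (↑v⁻¹ : R') * φ n' g = _ from hd, h0, mul_zero])
        rw [show C (↑v⁻¹ : R') * φ n' g = _ from hd, (hmon n'.1 n'.2).natDegree_mul' hd0]
        omega
    show (h n'.1 n'.2).natDegree = e n
    rw [← hass, natDegree_C_mul_of_isUnit (Units.isUnit v⁻¹), hdeg']
  haveI : PreconnectedSpace U := isPreconnected_iff_preconnectedSpace.1 (LC.isConnected_punctured hd).isPreconnected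
  have hlc : IsLocallyConstant e := IsLocallyConstant.iff_exists_open _ |>.2 fun n => by
    obtain ⟨a, g, ha, -, -, -, ha'⟩ := hspread n
    exact ⟨{n' : U | a ∉ n'.1.asIdeal}, (PrimeSpectrum.basicOpen a).isOpen.preimage continuous_subtype_val, ha,
      fun n' hn' => ha' n' hn'⟩
  obtain ⟨n₀, hn₀⟩ := (LC.isConnected_punctured hd).nonempty
  let d := e ⟨n₀, hn₀⟩
  have hd' : ∀ n : U, e n = d := fun n => hlc.apply_eq_of_preconnectedSpace n ⟨n₀, hn₀⟩
  let Iled : Ideal A := ((b.restrictScalars A ⊓ degreeLE A d).map (lcoeff A d))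
  have hrad : maximalIdeal A ≤ Iled.radical := by
    intro z hz
    rw [Ideal.radical_eq_sInf, Submodule.mem_sInf]
    rintro P ⟨hP, hPp⟩
    by_contra hzP
    let n : U := ⟨⟨P, hPp⟩, fun h => hzP (show z ∈ P by rw [show P = _ from h]; exact hz)⟩
    obtain ⟨a, g, -, hgb, hgdeg, hgu, -⟩ := hspread n
    rw [hd' n] at hgdeg hgu
    exact hgu (hP ⟨g, ⟨hgb, mem_degreeLE.2 (natDegree_le_iff_degree_le.1 hgdeg)⟩, rfl⟩)
  have hlead0 : ∀ g ∈ b, g.natDegree ≤ d → g.coeff d = 0 → g = 0 := fun g hgb hgd hg0 => hzeroP g fun n hn => by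
    obtain ⟨c, hc⟩ := Ideal.mem_span_singleton'.1 (hle n hn (Ideal.mem_map_of_mem (φ n) hgb))
    by_contra hne
    have hc0 : c ≠ 0 := fun h0 => hne (by rw [← hc, h0, zero_mul])
    have h1 : (c * h n hn).natDegree = c.natDegree + d := by
      rw [mul_comm, (hmon n hn).natDegree_mul' hc0, add_comm]
      congr 1
      exact hd' ⟨n, hn⟩
    rw [hc] at h1
    have h2 : (φ n g).natDegree = d := le_antisymm (natDegree_map_le.trans hgd) (by omega)
    have h3 : (φ n g).coeff d = 0 := by simp [φ, hg0]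
    exact hne (leadingCoeff_eq_zero.1 (by rw [leadingCoeff, h2, h3]))
  have hlift : ∀ z ∈ maximalIdeal A, ∃ K : ℕ, ∀ N, K ≤ N → ∃ g ∈ b, g.natDegree ≤ d ∧ g.coeff d = z ^ N := by
    intro z hz
    obtain ⟨K, g, ⟨hgb, hgd⟩, hgK⟩ := hrad hz
    refine ⟨K, fun N hN => ⟨C (z ^ (N - K)) * g, b.mul_mem_left _ hgb,
      (natDegree_C_mul_le _ _).trans (natDegree_le_iff_degree_le.2 (mem_degreeLE.1 hgd)), ?_⟩⟩
    rw [coeff_C_mul, show g.coeff d = z ^ K from hgK, ← pow_add, Nat.sub_add_cancel hN]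
  obtain ⟨Kx, hKx⟩ := hlift x hx
  obtain ⟨Ky, hKy⟩ := hlift y hy
  let N := max Kx Ky
  obtain ⟨g1, hg1, hg1d, hg1c⟩ := hKx N (le_max_left _ _)
  obtain ⟨g2, hg2, hg2d, hg2c⟩ := hKy N (le_max_right _ _)
  have h12 : C (y ^ N) * g1 = C (x ^ N) * g2 := by
    refine sub_eq_zero.1 (hlead0 _ (b.sub_mem (b.mul_mem_left _ hg1) (b.mul_mem_left _ hg2))
      ((natDegree_sub_le _ _).trans (max_le ((natDegree_C_mul_le _ _).trans hg1d)
        ((natDegree_C_mul_le _ _).trans hg2d))) ?_)
    rw [coeff_sub, coeff_C_mul, coeff_C_mul, hg1c, hg2c, mul_comm, sub_self]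
  have hp : ∀ i, ∃ p, g1.coeff i = x ^ N * p := fun i => hy2 N _ (g2.coeff i) (by
    rw [← coeff_C_mul, h12, coeff_C_mul])
  choose p hp using hp
  let F : A[X] := ∑ i ∈ Finset.range (d + 1), C (p i) * X ^ i
  have hFc : ∀ i ≤ d, F.coeff i = p i := fun i hi => by
    simp [F, finsetSum_coeff, coeff_C_mul_X_pow, hi]
  have hFd : F.natDegree ≤ d := natDegree_sum_le_of_forall_le _ _ fun i hi =>
    (natDegree_C_mul_X_pow_le _ _).trans (Nat.lt_succ_iff.1 (Finset.mem_range.1 hi))
  have hFx : C (x ^ N) * F = g1 := Polynomial.ext fun i => by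
    rw [coeff_C_mul]
    by_cases hi : i ≤ d
    · rw [hFc i hi, ← hp]
    · rw [coeff_eq_zero_of_natDegree_lt (by omega), coeff_eq_zero_of_natDegree_lt (by omega), mul_zero]
  have hF1 : F.coeff d = 1 := sub_eq_zero.1 (hx1 N _ (by
    rw [mul_sub, mul_one, ← coeff_C_mul, hFx, hg1c, sub_self]))
  have hFmon : F.Monic := monic_of_natDegree_le_of_coeff_eq_one d hFd hF1
  have hzF : ∀ z ∈ maximalIdeal A, ∃ M : ℕ, C (z ^ M) * F ∈ b := fun z hz => by
    obtain ⟨M, hM⟩ := hlift z hz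
    obtain ⟨g, hg, hgd, hgc⟩ := hM M le_rfl
    refine ⟨M, ?_⟩
    suffices h' : g = C (z ^ M) * F by rw [← h']; exact hg
    have h1 : C (x ^ N) * g = C (z ^ M) * g1 := sub_eq_zero.1 (hlead0 _
      (b.sub_mem (b.mul_mem_left _ hg) (b.mul_mem_left _ hg1))
      ((natDegree_sub_le _ _).trans (max_le ((natDegree_C_mul_le _ _).trans hgd)
        ((natDegree_C_mul_le _ _).trans hg1d))) (by rw [coeff_sub, coeff_C_mul, coeff_C_mul, hgc, hg1c]; ring))
    refine Polynomial.ext fun i => sub_eq_zero.1 (hx1 N _ ?_)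
    rw [mul_sub, ← coeff_C_mul, h1, ← hFx, ← coeff_C_mul, sub_eq_zero]
    congr 1
    ring
  refine ⟨F, hFmon, fun r hr => ?_, hzF⟩
  rw [← modByMonic_eq_zero_iff_dvd hFmon]
  refine hzeroP _ fun n hn => ?_
  obtain ⟨z, hz, hzn⟩ : ∃ z ∈ maximalIdeal A, z ∉ n.asIdeal := by
    by_contra hc
    push Not at hc
    exact hn (le_antisymm (le_maximalIdeal n.isPrime.ne_top) hc)
  obtain ⟨M, hM⟩ := hzF z hz
  have hu : IsUnit (φ n (C (z ^ M))) := by
    simp only [φ, coe_mapRingHom, map_C]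
    exact (IsLocalization.map_units _ (⟨z ^ M, fun h => hzn (n.isPrime.mem_of_pow_mem M h)⟩ : n.asIdeal.primeCompl)).map C
  have hFh : φ n F = h n hn := by
    refine eq_of_monic_of_dvd_of_natDegree_le (hmon n hn) (hFmon.map _) ?_ ?_ |> fun e => e
    · have := hle n hn (Ideal.mem_map_of_mem (φ n) hM)
      rw [map_mul, Ideal.mem_span_singleton, hu.dvd_mul_left] at this
      exact this
    · rw [show (φ n F).natDegree = F.natDegree from hFmon.natDegree_map _, show (h n hn).natDegree = d from hd' ⟨n, hn⟩]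
      exact hFd
  show φ n (r %ₘ F) = 0
  simp only [φ, coe_mapRingHom] at hFh ⊢
  rw [map_modByMonic _ hFmon, hFh, modByMonic_eq_zero_iff_dvd (hmon n hn), ← Ideal.mem_span_singleton]
  exact hle n hn (Ideal.mem_map_of_mem (φ n) hr)

end Groth.Agent.ParaF2
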