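import Groth.Agent.ParaF2.Formal
import Groth.Agent.ParaF2.MonicGen
import Mathlib.RingTheory.PowerSeries.WeierstrassPreparation
import Mathlib.RingTheory.PowerSeries.Ideal

/-!
Power series in one variable over a complete local ring of depth at least two form a parafactorial ring.
-/

universe u

open CategoryTheory AlgebraicGeometry TopologicalSpace IsLocalRing

set_option linter.style.haveILetI false
set_option linter.unusedSectionVars false

namespace Groth.Agent.ParaF2

variable {A : Type u} [CommRing A] [IsLocalRing A] [IsNoetherianRing A] [IsAdicComplete (maximalIdeal A) A]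

theorem map_residue_ne_zero {f : Polynomial A} (hf : f.IsDistinguishedAt (maximalIdeal A)) :
    (f : PowerSeries A).map (residue A) ≠ 0 := by
  rw [← Polynomial.polynomial_map_coe, ne_eq, Polynomial.coe_eq_zero_iff]
  exact (hf.monic.map _).ne_zero

theorem order_residue {f : Polynomial A} (hf : f.IsDistinguishedAt (maximalIdeal A)) :
    ((f : PowerSeries A).map (Ideal.Quotient.mk (maximalIdeal A))).order.toNat = f.natDegree := by
  rw [← Polynomial.polynomial_map_coe, hf.map_eq_X_pow, Polynomial.coe_pow, Polynomial.coe_X,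
    PowerSeries.order_X_pow]
  rfl

theorem exists_rep {f : Polynomial A} (hf : f.IsDistinguishedAt (maximalIdeal A)) (b : PowerSeries A) :
    ∃ (q : PowerSeries A) (r : Polynomial A), b = (f : PowerSeries A) * q + r := by
  obtain ⟨q, r, H⟩ := b.exists_isWeierstrassDivision (map_residue_ne_zero hf)
  exact ⟨q, r, H.eq_mul_add⟩

theorem dvd_of_coe_eq {f : Polynomial A} (hf : f.IsDistinguishedAt (maximalIdeal A)) {r : Polynomial A}
    {q : PowerSeries A} (h : (r : PowerSeries A) = f * q) : f ∣ r := by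
  rw [← Polynomial.modByMonic_eq_zero_iff_dvd hf.monic]
  refine (PowerSeries.IsWeierstrassDivision.eq_zero (map_residue_ne_zero hf)
    (q := ((r /ₘ f : Polynomial A) : PowerSeries A) - q) ⟨?_, ?_⟩).2
  · rw [order_residue hf, ← Polynomial.degree_eq_natDegree hf.monic.ne_zero]
    exact Polynomial.degree_modByMonic_lt _ hf.monic
  · rw [Polynomial.modByMonic_eq_sub_mul_div _ f, Polynomial.coe_sub, Polynomial.coe_mul, h]
    ring

theorem eq_zero_of_mul {f : Polynomial A} (hf : f.IsDistinguishedAt (maximalIdeal A)) {q : PowerSeries A}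
    (h : (f : PowerSeries A) * q = 0) : q = 0 :=
  (PowerSeries.IsWeierstrassDivision.eq_zero (map_residue_ne_zero hf) (q := q) (r := 0)
    ⟨by rw [Polynomial.degree_zero]; exact WithBot.bot_lt_coe _, by simp [h]⟩).1

variable (A) in
theorem isParafactorialLocalRing_powerSeries (hd : (2 : ℕ∞) ≤ LocCoh.depth A A) :
    ParaF.IsParafactorialLocalRing (PowerSeries A) := by
  classical
  obtain ⟨x, hx, y, hy, hx1, hy2⟩ := exists_regPair hd
  let B := PowerSeries A
  let m := maximalIdeal A
  let ι : Polynomial A →+* B := Polynomial.coeToPowerSeries.ringHom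
  have hι : ∀ p : Polynomial A, ι p = (p : B) := fun p => rfl
  let C : A →+* B := PowerSeries.C
  have hC1 : ∀ (n : ℕ) (b : B), C x ^ n * b = 0 → b = 0 := fun n b hb => PowerSeries.ext fun i => by
    rw [map_zero]
    refine hx1 n _ ?_
    rw [← PowerSeries.coeff_C_mul, map_pow]
    exact (congrArg _ hb).trans (map_zero _)
  have hC2 : ∀ (n : ℕ) (b b' : B), C y ^ n * b = C x ^ n * b' → ∃ p, b = C x ^ n * p := fun n b b' hb => by
    have h : ∀ i, ∃ p, PowerSeries.coeff i b = x ^ n * p := fun i => hy2 n _ (PowerSeries.coeff i b') (by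
      have := congrArg (PowerSeries.coeff i) hb
      rw [← map_pow, ← map_pow] at this
      exact (PowerSeries.coeff_C_mul i b (y ^ n)).symm.trans (this.trans (PowerSeries.coeff_C_mul i b' (x ^ n))))
    choose p hp using h
    exact ⟨PowerSeries.mk p, PowerSeries.ext fun i => by
      rw [← map_pow, PowerSeries.coeff_C_mul, PowerSeries.coeff_mk, hp]⟩
  have hCm : ∀ {a : A}, a ∈ m → C a ∈ maximalIdeal B := fun {a} ha => by
    intro hu
    have h := hu.map (PowerSeries.constantCoeff (R := A))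
    rw [show PowerSeries.constantCoeff (C a) = a from PowerSeries.constantCoeff_C a] at h
    exact ha h
  have hdepth : (2 : ℕ∞) ≤ LocCoh.depth B B := by
    refine Alg6.length_le_idealDepth (rs := [C x, C y]) ?_ (fun r hr => by
      simp only [List.mem_cons, List.not_mem_nil, or_false] at hr
      rcases hr with rfl | rfl
      exacts [hCm hx, hCm hy])
    simp only [RingTheory.Sequence.isWeaklyRegular_cons_iff, isSMulRegular_iff_right_eq_zero_of_smul]
    refine ⟨fun b hb => hC1 1 b (by rwa [pow_one]), fun b hb => ?_, RingTheory.Sequence.IsWeaklyRegular.nil _ _⟩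
    obtain ⟨b, rfl⟩ := Submodule.Quotient.mk_surjective _ b
    rw [← Submodule.Quotient.mk_smul, Submodule.Quotient.mk_eq_zero] at hb
    obtain ⟨b', -, hb'⟩ := (Submodule.mem_smul_pointwise_iff_exists _ _ _).1 hb
    obtain ⟨p, hp⟩ := hC2 1 b b' (by rw [pow_one, pow_one]; exact hb'.symm)
    rw [Submodule.Quotient.mk_eq_zero, hp, pow_one]
    exact Submodule.smul_mem_pointwise_smul p _ ⊤ trivial
  refine (ParaFX.isParafactorialLocalRing_iff B).2 ⟨ParaFX.punctured_bijective B hdepth, fun L hL => ?_⟩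
  show H23.TrivBasic.Triv L
  let i := (FEt.puncturedSpec B).ι
  haveI : NoetherianSpace (FEt.puncturedSpec B : Scheme.{u}) := i.isOpenEmbedding.isInducing.noetherianSpace
  obtain ⟨α, β, _, _, s, a, hmin, hrel, hfr, hcov, -⟩ :=
    exists_matrix i (bijective_toGlobal_punctured B hdepth) hL
  suffices hfac : ∃ (γ : α → B) (β' : β → B), ∀ k l, a k l = γ k * β' l by
    obtain ⟨γ, β', h⟩ := hfac
    exact triv_of_factor s (fun k l => Coh.toGlobal i (a k l)) hrel hfr hcov (fun k => Coh.toGlobal i (γ k))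
      (fun l => Coh.toGlobal i (β' l)) fun k l => (congrArg (Coh.toGlobal i) (h k l)).trans (map_mul _ _ _)
  -- an entry not divisible by the maximal ideal of the coefficients
  let P : Ideal B := RingHom.ker (PowerSeries.map (residue A))
  haveI : P.IsPrime := RingHom.ker_isPrime _
  have hP : P ≠ maximalIdeal B := fun h => by
    have hX : (PowerSeries.X : B) ∈ P := h ▸ fun hu => not_isUnit_zero
      (PowerSeries.constantCoeff_X (R := A) ▸ hu.map (PowerSeries.constantCoeff (R := A)))
    rw [RingHom.mem_ker, PowerSeries.map_X] at hX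
    exact PowerSeries.X_ne_zero hX
  obtain ⟨k, l₀, hkl⟩ := notMem_of_cover hcov P hP
  obtain ⟨f, u, hu, hdist, hfu⟩ : ∃ (f : Polynomial A) (u : B),
      IsUnit u ∧ f.IsDistinguishedAt m ∧ a k l₀ = (f : B) * u := by
    obtain ⟨f, u, H⟩ := PowerSeries.exists_isWeierstrassFactorization (g := a k l₀)
      (fun h => hkl (RingHom.mem_ker.2 h))
    exact ⟨f, u, H.isUnit, H.isDistinguishedAt, H.eq_mul⟩
  choose q r hqr using fun l => exists_rep hdist (a k l)
  let b : Ideal (Polynomial A) := Ideal.span (Set.insert f (Set.range r))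
  have hfb : f ∈ b := Ideal.subset_span (Set.mem_insert _ _)
  have hrb : ∀ l, r l ∈ b := fun l => Ideal.subset_span (Set.mem_insert_of_mem _ ⟨l, rfl⟩)
  have hloc : ∀ Q₀ : Ideal (Polynomial A), Q₀.IsPrime → f ∈ Q₀ →
      (∃ c ∈ m, Polynomial.C c ∉ Q₀) → ∃ g ∈ b, ∀ p ∈ b, ∃ t ∉ Q₀, t * p ∈ Ideal.span {g} := by
    intro Q₀ hQ₀ hfQ ⟨c, hc, hcQ⟩
    let J : Ideal B := Ideal.span {(f : B)}
    let τ : Polynomial A →+* B ⧸ J := (Ideal.Quotient.mk J).comp ι
    have hτ : Function.Surjective τ := fun z => by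
      obtain ⟨z, rfl⟩ := Ideal.Quotient.mk_surjective z
      obtain ⟨q', r', h⟩ := exists_rep hdist z
      refine ⟨r', (Ideal.Quotient.eq).2 ?_⟩
      rw [hι, h, sub_add_cancel_right]
      exact J.neg_mem (Ideal.mem_span_singleton'.2 ⟨q', mul_comm _ _⟩)
    have hker : RingHom.ker τ ≤ Q₀ := fun p hp => by
      obtain ⟨q', hq'⟩ := Ideal.mem_span_singleton.1 ((Ideal.Quotient.eq_zero_iff_mem).1 hp)
      exact Ideal.mem_of_dvd _ (dvd_of_coe_eq hdist hq') hfQ
    haveI := Ideal.map_isPrime_of_surjective hτ hker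
    let Q : Ideal B := (Q₀.map τ).comap (Ideal.Quotient.mk J)
    have hQ : ∀ p, ι p ∈ Q ↔ p ∈ Q₀ := fun p => by
      rw [show (ι p ∈ Q) ↔ p ∈ (Q₀.map τ).comap τ from Iff.rfl, Ideal.comap_map_of_surjective' τ hτ,
        sup_eq_left.2 hker]
    obtain ⟨p, j, hpj⟩ := notMem_of_cover hcov Q fun h => (fun h' => hcQ ((hQ _).1 h'))
      (by rw [show ι (Polynomial.C c) = C c from Polynomial.coe_C c, h]; exact hCm hc)
    choose qp rp hqrp using fun l => exists_rep hdist (a p l)
    have hJQ : (f : B) ∈ Q := (hQ f).2 hfQ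
    have hrp : rp j ∉ Q₀ := fun h => hpj (by
      rw [hqrp]; exact Q.add_mem (Ideal.mul_mem_right _ _ hJQ) ((hQ _).2 h))
    have hcross : ∀ l, f ∣ r l * rp j - r j * rp l := fun l => dvd_of_coe_eq hdist
      (q := -(q l * (a p j)) - (r l : B) * qp j + (q j * (a p l)) + (r j : B) * qp l) (by
        have := hmin k l p j
        rw [Polynomial.coe_sub, Polynomial.coe_mul, Polynomial.coe_mul]
        linear_combination this - (a p j) * hqr l - (r l : B) * hqrp j + (a p l) * hqr j + (r j : B) * hqrp l)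
    have hgens : ∀ g ∈ b, (∀ z, z ∈ Set.insert f (Set.range r) → ∃ t ∉ Q₀, t * z ∈ Ideal.span {g}) →
        ∀ z ∈ b, ∃ t ∉ Q₀, t * z ∈ Ideal.span {g} := by
      intro g _ hg z hz
      induction hz using Submodule.span_induction with
      | mem z hz => exact hg z hz
      | zero => exact ⟨1, Q₀.ne_top_iff_one.1 hQ₀.ne_top, by simp⟩
      | add z z' _ _ ih ih' =>
        obtain ⟨t, ht, htz⟩ := ih
        obtain ⟨t', ht', htz'⟩ := ih'
        refine ⟨t * t', fun h => (hQ₀.mem_or_mem h).elim ht ht', ?_⟩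
        rw [mul_add, show t * t' * z = t' * (t * z) by ring, show t * t' * z' = t * (t' * z') by ring]
        exact Ideal.add_mem _ (Ideal.mul_mem_left _ _ htz) (Ideal.mul_mem_left _ _ htz')
      | smul w z _ ih =>
        obtain ⟨t, ht, htz⟩ := ih
        exact ⟨t, ht, by rw [smul_eq_mul, mul_left_comm]; exact Ideal.mul_mem_left _ _ htz⟩
    by_cases hl₀ : a p l₀ ∈ Q
    · -- generated by the remainder of the j-th entry
      let c₀ : B := u * a p j - q j * a p l₀
      have hc₀ : c₀ ∉ Q := fun h => by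
        have : u * a p j ∈ Q := by simpa [c₀] using Q.add_mem h (Ideal.mul_mem_left _ (q j) hl₀)
        exact ((Ideal.IsPrime.mem_or_mem inferInstance this).elim
          (fun hu' => (inferInstance : Q.IsPrime).ne_top (Ideal.eq_top_of_isUnit_mem _ hu' hu)) hpj)
      have hid : (f : B) * c₀ = (r j : B) * a p l₀ := by
        have := hmin k l₀ p j
        simp only [c₀]
        linear_combination this - (a p j) * hfu + (a p l₀) * hqr j
      obtain ⟨qc, rc, hqrc⟩ := exists_rep hdist c₀
      obtain ⟨qc', rc', hqrc'⟩ := exists_rep hdist qc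
      obtain ⟨qw, rw', hqrw⟩ := exists_rep hdist (qp l₀)
      let c1 := f * rc' + rc
      let w1 := f * rw' + rp l₀
      obtain ⟨t1, ht1⟩ : f * f ∣ f * c1 - r j * w1 := by
        have hB : ((f * c1 - r j * w1 : Polynomial A) : B) =
            (f : B) * ((f : B) * ((r j : B) * qw - (f : B) * qc')) := by
          simp only [c1, w1, Polynomial.coe_sub, Polynomial.coe_mul, Polynomial.coe_add]
          linear_combination hid + (r j : B) * (hqrp l₀ + (f : B) * hqrw) - (f : B) * (hqrc + (f : B) * hqrc')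
        obtain ⟨t, ht⟩ := dvd_of_coe_eq hdist hB
        have ht' : (t : B) = f * ((r j : B) * qw - (f : B) * qc') := by
          refine sub_eq_zero.1 (eq_zero_of_mul hdist ?_)
          rw [mul_sub, ← Polynomial.coe_mul, ← ht, hB, sub_self]
        obtain ⟨t', rfl⟩ := dvd_of_coe_eq hdist ht'
        exact ⟨t', by rw [ht, mul_assoc]⟩
      let t := c1 - f * t1
      have ht : t ∉ Q₀ := fun h => hc₀ (by
        have h1 : (c1 : B) ∈ Q := (hQ c1).2 (by simpa [t] using Q₀.add_mem h (Ideal.mul_mem_right t1 _ hfQ))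
        rw [show c₀ = (c1 : B) + (f : B) * ((f : B) * qc') by
          simp only [c1, Polynomial.coe_add, Polynomial.coe_mul]
          linear_combination hqrc + (f : B) * hqrc']
        exact Q.add_mem h1 (Ideal.mul_mem_right _ _ hJQ))
      refine ⟨r j, hrb j, hgens _ (hrb j) ?_⟩
      rintro z (rfl | ⟨l, rfl⟩)
      · exact ⟨t, ht, Ideal.mem_span_singleton'.2 ⟨w1, by simp only [t]; linear_combination -ht1⟩⟩
      · obtain ⟨s', hs'⟩ := hcross l
        exact ⟨t * rp j, fun h => (hQ₀.mem_or_mem h).elim ht hrp, Ideal.mem_span_singleton'.2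
          ⟨t * rp l + w1 * s', by simp only [t]; linear_combination -(c1 - f * t1) * hs' - s' * ht1⟩⟩
    · refine ⟨f, hfb, hgens _ hfb ?_⟩
      have hrl₀ : rp l₀ ∉ Q₀ := fun h => hl₀ (by
        rw [hqrp]; exact Q.add_mem (Ideal.mul_mem_right _ _ hJQ) ((hQ _).2 h))
      obtain ⟨sj, hsj⟩ : f ∣ r j * rp l₀ := dvd_of_coe_eq hdist
        (q := u * a p j - q j * a p l₀ - (r j : B) * qp l₀) (by
          have := hmin k l₀ p j
          rw [Polynomial.coe_mul]
          linear_combination -this + (a p j) * hfu - (a p l₀) * hqr j - (r j : B) * hqrp l₀)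
      rintro z (rfl | ⟨l, rfl⟩)
      · exact ⟨1, Q₀.ne_top_iff_one.1 hQ₀.ne_top, by simp [Ideal.mem_span_singleton_self]⟩
      · obtain ⟨s', hs'⟩ := hcross l
        exact ⟨rp j * rp l₀, fun h => (hQ₀.mem_or_mem h).elim hrp hrl₀, Ideal.mem_span_singleton'.2
          ⟨s' * rp l₀ + sj * rp l, by linear_combination -rp l₀ * hs' - rp l * hsj⟩⟩
  obtain ⟨F, hF, hFdvd, hzF⟩ := exists_monic_generator hd b hdist.monic hfb hloc
  obtain ⟨G, hG⟩ := hFdvd f hfb
  have hFreg : ∀ z : B, (F : B) * z = 0 → z = 0 := fun z hz => eq_zero_of_mul hdist (q := z) (by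
    rw [hG, Polynomial.coe_mul, mul_right_comm, hz, zero_mul])
  have hFa : ∀ l, ∃ bl : B, a k l = (F : B) * bl := fun l => by
    obtain ⟨rl, hrl⟩ := hFdvd _ (hrb l)
    exact ⟨(G : B) * q l + (rl : B), by rw [hqr l, hG, hrl, Polynomial.coe_mul, Polynomial.coe_mul]; ring⟩
  choose bb hbb using hFa
  let Ib : Ideal B := Ideal.span (Set.range bb)
  have hbl₀ : bb l₀ = (G : B) * u := sub_eq_zero.1 (hFreg _ (by
    rw [mul_sub, ← hbb, hfu, hG, Polynomial.coe_mul]; ring))
  have hbI : ∀ p ∈ b, (p : B) ∈ Ideal.span {(F : B)} * Ib := by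
    intro p hp
    induction hp using Submodule.span_induction with
    | mem z hz =>
      have hfI : (f : B) ∈ Ideal.span {(F : B)} * Ib := by
        obtain ⟨v, hv⟩ := hu
        rw [show (f : B) = (F : B) * bb l₀ * ↑v⁻¹ by rw [← hbb, hfu, ← hv, Units.mul_inv_cancel_right]]
        exact Ideal.mul_mem_right _ _ (Ideal.mul_mem_mul (Ideal.mem_span_singleton_self _) (Ideal.subset_span ⟨_, rfl⟩))
      rcases hz with rfl | ⟨l, rfl⟩
      · exact hfI
      · rw [show (r l : B) = (F : B) * bb l - (f : B) * q l by rw [← hbb, hqr]; ring]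
        exact Submodule.sub_mem _ (Ideal.mul_mem_mul (Ideal.mem_span_singleton_self _) (Ideal.subset_span ⟨_, rfl⟩))
          (Ideal.mul_mem_right _ _ hfI)
    | zero => rw [Polynomial.coe_zero]; exact Submodule.zero_mem _
    | add z z' _ _ ih ih' => rw [Polynomial.coe_add]; exact Submodule.add_mem _ ih ih'
    | smul w z _ ih => rw [smul_eq_mul, Polynomial.coe_mul]; exact Ideal.mul_mem_left _ _ ih
  have hzI : ∀ z ∈ m, C z ∈ Ib.radical := fun z hz => by
    obtain ⟨N, hN⟩ := hzF z hz
    obtain ⟨e, he, hee⟩ := Ideal.mem_span_singleton_mul.1 (hbI _ hN)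
    refine ⟨N, ?_⟩
    rw [Polynomial.coe_mul, Polynomial.coe_C] at hee
    rw [show C z ^ N = e from sub_eq_zero.1 (hFreg _ (by rw [mul_sub, hee, map_pow]; ring))]
    exact he
  have hrad : maximalIdeal B ≤ Ib.radical := by
    rw [Ideal.radical_eq_sInf]
    refine le_sInf ?_
    rintro P' ⟨hP', hPp⟩
    haveI := hPp
    have hm : ∀ z ∈ m, C z ∈ P' := fun z hz => hPp.radical_le_iff.2 hP' (hzI z hz)
    have hGm : G.map (residue A) ∣ Polynomial.X ^ f.natDegree := by
      refine ⟨F.map (residue A), ?_⟩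
      rw [← Polynomial.map_mul, mul_comm G F, ← hG]
      exact hdist.map_eq_X_pow.symm
    obtain ⟨d, hd', hGd⟩ := (dvd_prime_pow Polynomial.prime_X _).1 hGm
    have hGmon : G.Monic := hF.of_mul_monic_left (hG ▸ hdist.monic)
    have hGd' : G.map (residue A) = Polynomial.X ^ d :=
      Polynomial.eq_of_monic_of_associated (hGmon.map _) (Polynomial.monic_X_pow d) hGd
    have hcoe : ((G - Polynomial.X ^ d : Polynomial A) : B) ∈ P' := by
      suffices hc : ∀ i, (G - Polynomial.X ^ d).coeff i ∈ m by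
        rw [← hι, Polynomial.as_sum_support_C_mul_X_pow (G - Polynomial.X ^ d), map_sum]
        refine Submodule.sum_mem _ fun i _ => ?_
        rw [map_mul, hι (Polynomial.C _), Polynomial.coe_C]
        exact Ideal.mul_mem_right _ _ (hm _ (hc i))
      intro i
      rw [← Ideal.Quotient.eq_zero_iff_mem]
      have := congrArg (fun p => Polynomial.coeff p i) hGd'
      simp only [Polynomial.coeff_map, Polynomial.coeff_X_pow] at this
      rw [Polynomial.coeff_sub, Polynomial.coeff_X_pow, map_sub]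
      rw [show Ideal.Quotient.mk m (G.coeff i) = residue A (G.coeff i) from rfl, this]
      split_ifs
      · rw [map_one]; exact sub_self _
      · rw [map_zero]; exact sub_self _
    have hX : (PowerSeries.X : B) ∈ P' := by
      refine hPp.mem_of_pow_mem d ?_
      have h1 : (G : B) ∈ P' := by
        have h2 : bb l₀ ∈ P' := hP' (Ideal.subset_span ⟨l₀, rfl⟩)
        rw [hbl₀] at h2
        exact (hPp.mem_or_mem h2).resolve_right fun h3 => hPp.ne_top (Ideal.eq_top_of_isUnit_mem _ h3 hu)
      have h3 := P'.sub_mem h1 hcoe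
      rwa [Polynomial.coe_sub, Polynomial.coe_pow, Polynomial.coe_X, sub_sub_cancel] at h3
    intro z hz
    obtain ⟨w, hw⟩ := PowerSeries.X_dvd_iff.2
      (show PowerSeries.constantCoeff (z - C (PowerSeries.constantCoeff z)) = 0 by
        rw [map_sub, show PowerSeries.constantCoeff (C (PowerSeries.constantCoeff z)) = PowerSeries.constantCoeff z from
          PowerSeries.constantCoeff_C _, sub_self])
    have hz0 : PowerSeries.constantCoeff z ∈ m := fun h =>
      hz (PowerSeries.isUnit_iff_constantCoeff.2 h)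
    rw [show z = PowerSeries.X * w + C (PowerSeries.constantCoeff z) by rw [← hw]; ring]
    exact P'.add_mem (Ideal.mul_mem_right _ _ hX) (hm _ hz0)
  have hrows : ∀ p, ∃ γ : B, ∀ l, a p l = γ * bb l := fun p => by
    have hv : ∀ l q', a p l * bb q' = a p q' * bb l := fun l q' => sub_eq_zero.1 (hFreg _ (by
      have := hmin p l k q'
      rw [hbb, hbb] at this
      linear_combination this))
    have hloc' : ∀ z ∈ m, ∃ (N : ℕ) (w : B), (∀ l, C z ^ N * a p l = w * bb l) ∧ C z ^ N ∈ Ib := fun z hz => by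
      obtain ⟨N, hN⟩ := hzI z hz
      obtain ⟨cq, hcq⟩ := Ideal.mem_span_range_iff_exists_fun.1 hN
      refine ⟨N, ∑ q', cq q' * a p q', fun l => ?_, hN⟩
      rw [← hcq, Finset.sum_mul, Finset.sum_mul]
      exact Finset.sum_congr rfl fun q' _ => by linear_combination cq q' * hv l q'
    obtain ⟨N₁, w₁, hw₁, hN₁⟩ := hloc' x hx
    obtain ⟨N₂, w₂, hw₂, -⟩ := hloc' y hy
    let N := max N₁ N₂
    have h1 : ∀ l, C x ^ N * a p l = (C x ^ (N - N₁) * w₁) * bb l := fun l => by
      rw [mul_assoc, ← hw₁, ← mul_assoc, ← pow_add]; congr 2; omega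
    have h2 : ∀ l, C y ^ N * a p l = (C y ^ (N - N₂) * w₂) * bb l := fun l => by
      rw [mul_assoc, ← hw₂, ← mul_assoc, ← pow_add]; congr 2; omega
    let W := C y ^ N * (C x ^ (N - N₁) * w₁) - C x ^ N * (C y ^ (N - N₂) * w₂)
    have hW : W = 0 := by
      refine hC1 N₁ W ?_
      obtain ⟨cq, hcq⟩ := Ideal.mem_span_range_iff_exists_fun.1 hN₁
      rw [← hcq, Finset.sum_mul]
      refine Finset.sum_eq_zero fun q' _ => ?_
      linear_combination cq q' * (C x ^ N * h2 q' - C y ^ N * h1 q')
    obtain ⟨γ, hγ⟩ := hC2 N _ _ (sub_eq_zero.1 hW)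
    exact ⟨γ, fun l => sub_eq_zero.1 (hC1 N _ (by rw [mul_sub, h1, hγ]; ring))⟩
  choose γ hγ using hrows
  exact ⟨γ, bb, hγ⟩

end Groth.Agent.ParaF2
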