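import Groth.Agent.ParaF2.LocalDescent
import Groth.Agent.ParaF2.DepthPS
import Groth.Agent.ParaF2.PowerSeriesPara
import Groth.Agent.RegFS6.SepResidue
import Groth.Agent.RegFS6.FlatLiftMod
import Groth.Agent.Cohen4.Iso
import Groth.Agent.Cohen4.RegHom
import Groth.Agent.CplFib6.PS
import Groth.Agent.CohenLib.PowerSeries
import Mathlib.RingTheory.MvPowerSeries.Equiv

/-!
Parafactoriality of complete formally smooth algebras with separable residue extension.
-/

universe u

open IsLocalRing TensorProduct

set_option linter.style.haveILetI false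
set_option maxHeartbeats 2000000

namespace Groth.Agent.ParaF2

/-- The kernel of a coefficientwise map of power series. -/
theorem ker_mvPowerSeries_map {σ : Type} {C K : Type u} [CommRing C] [CommRing K] (φ : C →+* K)
    (hfg : (RingHom.ker φ).FG) :
    RingHom.ker (MvPowerSeries.map (σ := σ) φ) =
      (RingHom.ker φ).map (MvPowerSeries.C (σ := σ) (R := C)) := by
  classical
  refine le_antisymm (fun f hf => ?_) (Ideal.map_le_iff_le_comap.2 fun c hc => ?_)
  · obtain ⟨s, hs⟩ := hfg
    have hd : ∀ d, ∃ l : C → C, ∑ c ∈ s, l c * c = MvPowerSeries.coeff d f := fun d => by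
      obtain ⟨l, -, hl⟩ := Submodule.mem_span_finset.1 (show MvPowerSeries.coeff d f ∈
          Submodule.span C (s : Set C) from hs.ge (by
        rw [RingHom.mem_ker, ← MvPowerSeries.coeff_map, RingHom.mem_ker.1 hf, map_zero]))
      exact ⟨l, by simpa [smul_eq_mul] using hl⟩
    choose l hl using hd
    have he : f = ∑ c ∈ s, MvPowerSeries.C c * (show MvPowerSeries σ C from fun d => l d c) := by
      refine MvPowerSeries.ext fun d => ?_
      rw [map_sum, ← hl d]
      refine Finset.sum_congr rfl fun c _ => ?_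
      rw [MvPowerSeries.coeff_C_mul, MvPowerSeries.coeff_apply, mul_comm]
    rw [he]
    exact Ideal.sum_mem _ fun c hc => Ideal.mul_mem_right _ _
      (Ideal.mem_map_of_mem _ (hs.le (Submodule.subset_span hc)))
  · rw [Ideal.mem_comap, RingHom.mem_ker, MvPowerSeries.map_C, RingHom.mem_ker.1 hc, map_zero]

/-- A complete formally smooth algebra with separable residue extension is a power series ring over a
Cohen algebra. -/
theorem exists_equiv_mvPowerSeries (A B : Type u) [CommRing A] [CommRing B] [IsLocalRing A]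
    [IsLocalRing B] [IsNoetherianRing A] [IsNoetherianRing B] [Algebra A B] [IsLocalHom (algebraMap A B)]
    [IsAdicComplete (maximalIdeal B) B]
    [Algebra.IsGeometricallyReduced (ResidueField A) (ResidueField B)]
    (hfs : CAlgX.IsAdicFormallySmooth A B (maximalIdeal B)) :
    ∃ (n : ℕ) (C : Type u) (_ : CommRing C) (_ : IsLocalRing C) (_ : Algebra A C),
      IsNoetherianRing C ∧ IsAdicComplete (maximalIdeal C) C ∧ Module.Flat A C ∧
      (maximalIdeal A).map (algebraMap A C) = maximalIdeal C ∧
      ringKrullDim (B ⧸ (maximalIdeal A).map (algebraMap A B)) = n ∧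
      Nonempty (MvPowerSeries (Fin n) C ≃ₐ[A] B) := by
  haveI := RegFS6.flat_of_fs hfs
  let k := ResidueField A
  let mB : Ideal B := (maximalIdeal A).map (algebraMap A B)
  haveI : Nontrivial (B ⧸ mB) := Ideal.Quotient.nontrivial_iff.mpr
    (ne_top_of_le_ne_top (maximalIdeal.isMaximal B).ne_top (map_maximalIdeal_le _))
  let B₀ := B ⧸ mB
  haveI : IsLocalRing B₀ := IsLocalRing.of_surjective' (Ideal.Quotient.mk mB) Ideal.Quotient.mk_surjective
  haveI : IsLocalHom (Ideal.Quotient.mk mB) := IsLocalHom.of_surjective _ Ideal.Quotient.mk_surjective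
  haveI := CplFib6.isAdicComplete_quot (R := B) mB
  letI algk : Algebra k B₀ := (Ideal.Quotient.lift (maximalIdeal A)
    ((Ideal.Quotient.mk mB).comp (algebraMap A B)) fun a ha =>
      Ideal.Quotient.eq_zero_iff_mem.mpr (Ideal.mem_map_of_mem _ ha)).toAlgebra
  haveI : IsScalarTower A k B₀ := IsScalarTower.of_algebraMap_eq fun _ => rfl
  -- the closed fibre is formally smooth
  have hfs0 : CAlgX.IsAdicFormallySmooth k B₀ (maximalIdeal B₀) := by
    intro E _ _ J hJ ψ hψ
    obtain ⟨n, hn⟩ := hψ
    letI : Algebra A E := ((algebraMap k E).comp (residue A)).toAlgebra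
    haveI : IsScalarTower A k E := IsScalarTower.of_algebraMap_eq fun _ => rfl
    obtain ⟨w, hw⟩ := hfs E J hJ ((ψ.restrictScalars A).comp (Ideal.Quotient.mkₐ A mB)) ⟨n, fun b hb =>
      hn _ ((Ideal.pow_right_mono (IsLocalRing.map_maximalIdeal_of_surjective _
        Ideal.Quotient.mk_surjective).le n) (Ideal.map_pow (Ideal.Quotient.mk mB) _ n ▸
          Ideal.mem_map_of_mem _ hb))⟩
    have h0 : ∀ b ∈ mB, w b = 0 := fun b hb => by
      have hle : mB ≤ RingHom.ker w.toRingHom := Ideal.map_le_iff_le_comap.2 fun a ha => by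
        rw [Ideal.mem_comap, RingHom.mem_ker]
        show w (algebraMap A B a) = 0
        rw [AlgHom.commutes]
        show algebraMap k E (residue A a) = 0
        rw [(residue_eq_zero_iff a).2 ha, map_zero]
      exact hle hb
    refine ⟨{ Ideal.Quotient.lift mB w.toRingHom h0 with commutes' := fun x => ?_ }, AlgHom.ext fun y => ?_⟩
    · obtain ⟨a, rfl⟩ := residue_surjective x
      exact w.commutes a
    · obtain ⟨b, rfl⟩ := Ideal.Quotient.mk_surjective y
      exact AlgHom.congr_fun hw b
  let κ := ResidueField B₀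
  haveI : Algebra.IsGeometricallyReduced k κ := by
    let f : ResidueField B →+* κ := ResidueField.map (Ideal.Quotient.mk mB)
    have hf : Function.Bijective f := ⟨f.injective, fun y => by
      obtain ⟨z, rfl⟩ := residue_surjective y
      obtain ⟨b, rfl⟩ := Ideal.Quotient.mk_surjective z
      exact ⟨residue B b, rfl⟩⟩
    let g : ResidueField B ≃ₐ[k] κ := AlgEquiv.ofRingEquiv (f := RingEquiv.ofBijective f hf) fun x => by
      obtain ⟨a, rfl⟩ := residue_surjective x
      rfl
    exact Algebra.IsGeometricallyReduced.of_injective g.symm.toAlgHom g.symm.injective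
  obtain ⟨n, e, he⟩ := RegFS6.exists_cpl_equiv_powerSeries_over hfs0
  let e₀ : B₀ ≃+* MvPowerSeries (Fin n) κ :=
    (RingEquiv.ofBijective (algebraMap B₀ (EGA4.Cpl B₀)) (algebraMap_cpl_bijective B₀)).trans e
  have he₀ : ∀ x : k, e₀ (algebraMap k B₀ x) = MvPowerSeries.C (algebraMap k κ x) := fun x => he x
  -- the Cohen algebra and the standard model
  obtain ⟨C, _, _, _, _, ⟨-, hCn, hCc, hCfl, hCm, -⟩, ⟨eC⟩⟩ := Cohen4.exists_cohenAlgebra (A := A) κ
  haveI := hCn
  haveI := hCc
  haveI := hCfl
  let R := MvPowerSeries (Fin n) C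
  haveI : IsNoetherianRing R := isNoetherianRing_mvPS C n
  haveI : IsAdicComplete (maximalIdeal R) R := CohenLib.isAdicComplete_mvPowerSeries
  haveI : Module.Flat C R := CplFib6.flat_mvPowerSeries C n
  haveI : Module.Flat A R := Module.Flat.trans A C R
  haveI : IsLocalHom (algebraMap A R) := by
    haveI := CplFib6.isLocalHom_algebraMap C n
    rw [IsScalarTower.algebraMap_eq A C R]
    exact RingHom.isLocalHom_comp _ _
  let φ : C →+* κ := eC.toRingEquiv.toRingHom.comp (residue C)
  have hφs : Function.Surjective φ := eC.surjective.comp residue_surjective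
  have hφk : ∀ a : A, φ (algebraMap A C a) = algebraMap k κ (residue A a) := fun a => eC.commutes (residue A a)
  have hφker : RingHom.ker φ = maximalIdeal C :=
    IsLocalRing.eq_maximalIdeal (RingHom.ker_isMaximal_of_surjective φ hφs)
  let π₀ : R →+* B₀ := e₀.symm.toRingHom.comp (MvPowerSeries.map φ)
  have hπ₀ : ∀ a : A, π₀ (algebraMap A R a) = algebraMap A B₀ a := fun a => by
    refine e₀.injective ?_
    rw [show e₀ (π₀ (algebraMap A R a)) = MvPowerSeries.map φ (algebraMap A R a) from e₀.apply_symm_apply _,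
      IsScalarTower.algebraMap_apply A C R, IsScalarTower.algebraMap_apply A k B₀, he₀]
    show MvPowerSeries.map φ (MvPowerSeries.C (algebraMap A C a)) = _
    rw [MvPowerSeries.map_C, hφk]
    rfl
  let π : R →ₐ[A] B₀ := { π₀ with commutes' := hπ₀ }
  have hπs : Function.Surjective π := e₀.symm.surjective.comp fun g =>
    ⟨(show R from fun d => Function.surjInv hφs (MvPowerSeries.coeff d g)), MvPowerSeries.ext fun d =>
      (MvPowerSeries.coeff_map φ d _).trans (Function.surjInv_eq hφs _)⟩
  have hker : RingHom.ker π = (maximalIdeal A).map (algebraMap A R) := by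
    have h1 : RingHom.ker π = RingHom.ker (MvPowerSeries.map (σ := Fin n) φ) := Ideal.ext fun r => by
      rw [RingHom.mem_ker, RingHom.mem_ker]
      exact map_eq_zero_iff e₀.symm e₀.symm.injective
    rw [h1, ker_mvPowerSeries_map φ (IsNoetherian.noetherian _), hφker, ← hCm, Ideal.map_map]
    refine congrArg (fun f => Ideal.map f (maximalIdeal A)) (RingHom.ext fun a => ?_)
    rw [IsScalarTower.algebraMap_apply A C R]
    rfl
  haveI : IsLocalRing (A ⧸ maximalIdeal A) :=
    IsLocalRing.of_surjective' (Ideal.Quotient.mk (maximalIdeal A)) Ideal.Quotient.mk_surjective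
  letI : Algebra (A ⧸ maximalIdeal A) B₀ := algk
  haveI : IsScalarTower A (A ⧸ maximalIdeal A) B₀ := IsScalarTower.of_algebraMap_eq fun _ => rfl
  haveI : IsLocalHom (algebraMap (A ⧸ maximalIdeal A) B₀) := ⟨fun z hz => by
    letI := Ideal.Quotient.field (maximalIdeal A)
    refine IsUnit.mk0 z fun h0 => hz.ne_zero ?_
    rw [h0, map_zero]⟩
  obtain ⟨v, -⟩ := RegFS6.exists_equiv_of_flat_lifts (maximalIdeal A) le_rfl (B := R) (B' := B) π hπs hker
    (Ideal.Quotient.mkₐ A mB) (Ideal.Quotient.mkₐ_surjective A mB) (Ideal.Quotient.mkₐ_ker A mB) hfs0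
  exact ⟨n, C, inferInstance, inferInstance, inferInstance, hCn, hCc, hCfl, hCm,
    (ringKrullDim_eq_of_ringEquiv (R := B₀) e₀).trans (PSLib.ringKrullDim_eq κ n), ⟨v⟩⟩
where
  algebraMap_cpl_bijective (S : Type u) [CommRing S] [IsLocalRing S] [IsNoetherianRing S]
      [IsAdicComplete (maximalIdeal S) S] :
      Function.Bijective (algebraMap S (EGA4.Cpl S)) :=
    AdicCompletion.of_bijective (maximalIdeal S) S
  isNoetherianRing_mvPS (C : Type u) [CommRing C] [IsNoetherianRing C] (n : ℕ) :
      IsNoetherianRing (MvPowerSeries (Fin n) C) := inferInstance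


/-- A complete formally smooth algebra with separable residue extension is parafactorial when it has
depth at least three and larger dimension than the base. -/
theorem isParafactorialLocalRing_complete (A B : Type u) [CommRing A] [CommRing B] [IsLocalRing A]
    [IsLocalRing B] [IsNoetherianRing A] [IsNoetherianRing B] [Algebra A B] [IsLocalHom (algebraMap A B)]
    [IsAdicComplete (maximalIdeal B) B]
    [Algebra.IsGeometricallyReduced (ResidueField A) (ResidueField B)]
    (hfs : CAlgX.IsAdicFormallySmooth A B (maximalIdeal B))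
    (hdim : ringKrullDim A < ringKrullDim B) (hdepth : (3 : ℕ∞) ≤ LocCoh.depth B B) :
    ParaF.IsParafactorialLocalRing B := by
  obtain ⟨n, C, _, _, _, hCn, hCc, -, -, hn, ⟨v⟩⟩ := exists_equiv_mvPowerSeries A B hfs
  haveI := hCn
  haveI := hCc
  haveI := RegFS6.flat_of_fs hfs
  haveI : Nontrivial (B ⧸ (maximalIdeal A).map (algebraMap A B)) := Ideal.Quotient.nontrivial_iff.mpr
    (ne_top_of_le_ne_top (maximalIdeal.isMaximal B).ne_top (map_maximalIdeal_le _))
  haveI : IsLocalRing (B ⧸ (maximalIdeal A).map (algebraMap A B)) :=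
    IsLocalRing.of_surjective' (Ideal.Quotient.mk _) Ideal.Quotient.mk_surjective
  obtain ⟨m, rfl⟩ : ∃ m, n = m + 1 := by
    refine Nat.exists_eq_succ_of_ne_zero fun hn' => ?_
    subst hn'
    have h := Cohen4.dim_eq_of_flat (A := A) (B := B)
    rw [hn] at h
    simp only [Nat.cast_zero, add_zero] at h
    exact absurd hdim (h ▸ lt_irrefl _)
  let D := MvPowerSeries (Fin m) C
  haveI : IsNoetherianRing D := inferInstance
  haveI : IsAdicComplete (maximalIdeal D) D := CohenLib.isAdicComplete_mvPowerSeries
  haveI : IsNoetherianRing (PowerSeries D) := isNoetherianRing_of_ringEquiv (MvPowerSeries (Fin (m + 1)) C)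
    (MvPowerSeries.finSuccEquiv C m).toRingEquiv
  let w : B ≃+* PowerSeries D := v.symm.toRingEquiv.trans (MvPowerSeries.finSuccEquiv C m).toRingEquiv
  letI : Algebra B (PowerSeries D) := w.toRingHom.toAlgebra
  haveI : Module.Flat B (PowerSeries D) :=
    Module.Flat.of_linearEquiv (LinearEquiv.ofBijective (Algebra.linearMap B (PowerSeries D)) w.bijective).symm
  haveI : IsLocalHom (algebraMap B (PowerSeries D)) := IsLocalHom.of_surjective _ w.surjective
  have hd3 := le_depth_of_flat B (PowerSeries D) (n := 3) hdepth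
  have hd2 : (2 : ℕ∞) ≤ LocCoh.depth D D := le_depth_of_powerSeries D (n := 2) hd3
  refine isParafactorialLocalRing_of_flat B (PowerSeries D) (fun P hP hle => ?_)
    (isParafactorialLocalRing_powerSeries (A := D) hd2)
  rw [IsLocalRing.map_maximalIdeal_of_surjective _ w.surjective] at hle
  exact ((maximalIdeal.isMaximal _).eq_of_le hP.ne_top hle).symm

end Groth.Agent.ParaF2
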