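import Groth.Agent.ParaF2.SmoothComplete
import Groth.Agent.S4535
import Groth.Agent.S2366
import Groth.Agent.S2461
import Groth.Agent.Adic7.Basic
import Groth.Agent.FlatLoc6.DimEq

/-!
Reduction of the parafactoriality of formally smooth algebras to the complete separable case.
-/

universe u

open IsLocalRing TensorProduct

set_option linter.style.haveILetI false
set_option maxHeartbeats 2000000

namespace Groth.Agent.ParaF2

theorem isAdicComplete_of_equivalent {R M : Type*} [CommRing R] [AddCommGroup M] [Module R M] {I J : Ideal R}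
    (hJI : J ≤ I) {N : ℕ} (hIJ : I ^ N ≤ J) (h : IsAdicComplete J M) : IsAdicComplete I M := by
  have hIJ' : ∀ n, I ^ ((N + 1) * n) ≤ J ^ n := fun n => by
    rw [pow_mul]
    exact Ideal.pow_right_mono ((Ideal.pow_le_pow_right (Nat.le_succ N)).trans hIJ) n
  refine @IsAdicComplete.mk R _ I M _ _ ⟨fun x hx => h.toIsHausdorff.haus' x fun n => ?_⟩ ⟨fun f hf => ?_⟩
  · exact (hx ((N + 1) * n)).mono (Submodule.smul_mono_left (hIJ' n))
  · obtain ⟨L, hL⟩ := h.toIsPrecomplete.prec' (fun n => f ((N + 1) * n)) fun {m n} hmn =>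
      (hf (Nat.mul_le_mul_left _ hmn)).mono (Submodule.smul_mono_left (hIJ' m))
    exact ⟨L, fun n => (hf (Nat.le_mul_of_pos_left n (Nat.succ_pos N))).trans
      ((hL n).mono (Submodule.smul_mono_left (Ideal.pow_right_mono hJI n)))⟩

/-- The tensor product of a field with a purely inseparable extension has only one prime. -/
theorem isUnit_or_isNilpotent_tensor {k k' K : Type u} [Field k] [Field k'] [Field K] [Algebra k k']
    [Algebra k K] [IsPurelyInseparable k k'] (x : k' ⊗[k] K) : IsUnit x ∨ IsNilpotent x := by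
  obtain ⟨n, hn, b, hb⟩ := IsPurelyInseparable.exists_pow_mem_range_tensorProduct (k := k) (K := k') (R := K)
    (Algebra.TensorProduct.comm k k' K x)
  rcases eq_or_ne b 0 with rfl | hb0
  · refine Or.inr ⟨n, (Algebra.TensorProduct.comm k k' K).injective ?_⟩
    rw [map_pow, ← hb, map_zero, map_zero]
  · left
    have h : IsUnit ((Algebra.TensorProduct.comm k k' K x) ^ n) := hb ▸ (IsUnit.mk0 b hb0).map _
    rw [← isUnit_map_iff (Algebra.TensorProduct.comm k k' K) x]
    exact (isUnit_pow_iff hn.ne').1 h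

/-- Formal smoothness of a local algebra for the adic topologies and over the discrete base. -/
theorem fs_of_isFormallySmoothAdic {A B : Type u} [CommRing A] [CommRing B] [Algebra A B] {𝔞 : Ideal A} {𝔟 : Ideal B}
    (h𝔞 : 𝔞.map (algebraMap A B) ≤ 𝔟) (h : EGA41.IsFormallySmoothAdic A 𝔞 B 𝔟) :
    CAlgX.IsAdicFormallySmooth A B 𝔟 := by
  intro E _ _ J hJ ψ hψ
  obtain ⟨n, hn⟩ := hψ
  refine h E J ⟨2, by rw [hJ, Ideal.zero_eq_bot]⟩ ⟨n * 2, ?_⟩ ψ ⟨n, hn⟩
  rw [eq_bot_iff, pow_mul, Ideal.map_pow]
  refine (Ideal.pow_right_mono ?_ 2).trans hJ.le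
  rw [Ideal.map_le_iff_le_comap]
  intro a ha
  rw [Ideal.mem_comap, ← Ideal.Quotient.eq_zero_iff_mem]
  refine (ψ.commutes a).symm.trans (hn _ ?_)
  exact Ideal.pow_right_mono h𝔞 n (Ideal.map_pow (algebraMap A B) 𝔞 n ▸ Ideal.mem_map_of_mem _ ha)

/-- Geometric reducedness of field extensions is invariant under isomorphisms of the base. -/
theorem isGeometricallyReduced_of_equiv {k₁ k₂ L T : Type u} [Field k₁] [Field k₂] [Field L] [CommRing T]
    [Algebra k₁ L] [Algebra k₂ T] (ek : k₁ ≃+* k₂) (eS : L ≃+* T)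
    (h : ∀ x, eS (algebraMap k₁ L x) = algebraMap k₂ T (ek x)) (hT : Algebra.IsGeometricallyReduced k₂ T) :
    Algebra.IsGeometricallyReduced k₁ L := by
  letI : Algebra k₁ k₂ := ek.toRingHom.toAlgebra
  letI : Algebra k₂ L := (eS.symm.toRingHom.comp (algebraMap k₂ T)).toAlgebra
  haveI : IsScalarTower k₁ k₂ L := IsScalarTower.of_algebraMap_eq fun x =>
    (eS.symm_apply_apply _).symm.trans (congrArg eS.symm (h x))
  let f : L ≃ₐ[k₂] T := AlgEquiv.ofRingEquiv (f := eS) fun x => eS.apply_symm_apply _
  haveI : Algebra.IsGeometricallyReduced k₂ L :=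
    Algebra.IsGeometricallyReduced.of_injective f.toAlgHom f.injective
  haveI := EGA41Lib.FieldFS.formallySmooth_of_isGeometricallyReduced k₂ L
  haveI : Algebra.FormallySmooth k₁ k₂ :=
    Algebra.FormallySmooth.of_equiv (AlgEquiv.ofBijective (Algebra.ofId k₁ k₂) ek.bijective)
  haveI := Algebra.FormallySmooth.comp k₁ k₂ L
  exact EGA41Lib.FieldFS.isGeometricallyReduced_of_formallySmooth k₁ L

/-- A finite flat cover after which the residue extension is separable. -/
theorem exists_insep_cover (A B : Type u) [CommRing A] [CommRing B] [IsLocalRing A]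
    [IsLocalRing B] [IsNoetherianRing A] [IsNoetherianRing B] [Algebra A B] [IsLocalHom (algebraMap A B)]
    [IsAdicComplete (maximalIdeal B) B]
    (hfs : EGA41.IsFormallySmoothAdic A (maximalIdeal A) B (maximalIdeal B))
    (k' : Type u) [Field k'] [Algebra (ResidueField A) k'] [Module.Finite (ResidueField A) k']
    [IsPurelyInseparable (ResidueField A) k']
    (hsep : Algebra.IsGeometricallyReduced k'
      ((k' ⊗[ResidueField A] ResidueField B) ⧸ nilradical (k' ⊗[ResidueField A] ResidueField B))) :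
    ∃ (A' B' : Type u) (_ : CommRing A') (_ : IsLocalRing A') (_ : CommRing B') (_ : IsLocalRing B')
      (_ : Algebra A A') (_ : Algebra A' B') (_ : Algebra B B') (_ : IsLocalHom (algebraMap A A'))
      (_ : IsLocalHom (algebraMap A' B')) (_ : IsLocalHom (algebraMap B B')),
      IsNoetherianRing A' ∧ Module.Flat A A' ∧ (maximalIdeal A).map (algebraMap A A') = maximalIdeal A' ∧
      IsNoetherianRing B' ∧ IsAdicComplete (maximalIdeal B') B' ∧ Module.Flat B B' ∧
      (∀ P : Ideal B', P.IsPrime → (maximalIdeal B).map (algebraMap B B') ≤ P → P = maximalIdeal B') ∧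
      CAlgX.IsAdicFormallySmooth A' B' (maximalIdeal B') ∧
      Algebra.IsGeometricallyReduced (ResidueField A') (ResidueField B') ∧
      (algebraMap B B').comp (algebraMap A B) = (algebraMap A' B').comp (algebraMap A A') := by
  haveI : Module.Flat A B := RegFS6.flat_of_fs
    (fs_of_isFormallySmoothAdic (IsLocalRing.map_maximalIdeal_le _) hfs)
  obtain ⟨A', _, _, hA'loc, hA'hom, hA'flat, hA'fin, e, he⟩ := S2366.result (A := A) k'
  haveI := hA'loc
  haveI := hA'hom
  haveI := hA'flat
  haveI := hA'fin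
  haveI : IsNoetherianRing A' := IsNoetherianRing.of_finite A A'
  let k := ResidueField A
  let K := ResidueField B
  let mA' : Ideal A' := (maximalIdeal A).map (algebraMap A A')
  have hmA' : mA' = maximalIdeal A' :=
    IsLocalRing.eq_maximalIdeal (Ideal.Quotient.maximal_of_isField _ (e.isField (Field.toIsField k')))
  let B' := A' ⊗[A] B
  let j : B →ₐ[A] B' := Algebra.TensorProduct.includeRight
  letI algB : Algebra B B' := Algebra.TensorProduct.rightAlgebra
  let eB : B ⊗[A] A' ≃ₐ[B] B' := AlgEquiv.ofRingEquiv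
    (f := (Algebra.TensorProduct.comm A B A').toRingEquiv) fun b => by
      show Algebra.TensorProduct.comm A B A' (b ⊗ₜ[A] (1 : A')) = _
      rw [Algebra.TensorProduct.comm_tmul]
      rfl
  haveI : Module.Finite B B' := Module.Finite.equiv eB.toLinearEquiv
  haveI : Module.Flat B B' := Module.Flat.of_linearEquiv eB.symm.toLinearEquiv
  haveI : IsNoetherianRing B' := IsNoetherianRing.of_finite B B'
  haveI : Algebra.IsIntegral B B' := Algebra.IsIntegral.of_finite B B'
  haveI : Module.FaithfullyFlat A A' := Module.FaithfullyFlat.of_flat_of_isLocalHom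
  haveI : Nontrivial B' := inferInstance
  -- every maximal ideal lies over the closed points
  let J : Ideal B' := (maximalIdeal A).map (algebraMap A B') ⊔ (maximalIdeal B).map (algebraMap B B')
  have hJQ : ∀ Q : Ideal B', Q.IsMaximal → J ≤ Q := fun Q hQ => by
    have h1 : Q.comap (algebraMap B B') = maximalIdeal B :=
      IsLocalRing.eq_maximalIdeal (Ideal.isMaximal_comap_of_isIntegral_of_isMaximal Q)
    refine sup_le ?_ (Ideal.map_le_iff_le_comap.2 h1.ge)
    rw [Ideal.map_le_iff_le_comap]
    intro a ha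
    rw [Ideal.mem_comap, ← j.commutes a]
    exact h1.ge (map_nonunit (algebraMap A B) a ha)
  haveI : Nontrivial (B' ⧸ J) := by
    obtain ⟨Q, hQ⟩ := Ideal.exists_maximal B'
    exact Ideal.Quotient.nontrivial_iff.2 (ne_top_of_le_ne_top hQ.ne_top (hJQ Q hQ))
  -- the residue ring is a quotient of `k' ⊗ K`
  letI : Algebra k (B' ⧸ J) := (Ideal.Quotient.lift (maximalIdeal A)
    ((Ideal.Quotient.mk J).comp (algebraMap A B')) fun a ha => Ideal.Quotient.eq_zero_iff_mem.2
      (Ideal.mem_sup_left (Ideal.mem_map_of_mem _ ha))).toAlgebra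
  let g₁ : A' ⧸ mA' →+* B' ⧸ J := Ideal.Quotient.lift _ ((Ideal.Quotient.mk J).comp (algebraMap A' B'))
    fun a ha => by
      have hle : mA' ≤ RingHom.ker ((Ideal.Quotient.mk J).comp (algebraMap A' B')) :=
        Ideal.map_le_iff_le_comap.2 fun x hx => Ideal.Quotient.eq_zero_iff_mem.2 (Ideal.mem_sup_left (by
          rw [← IsScalarTower.algebraMap_apply A A' B']
          exact Ideal.mem_map_of_mem _ hx))
      exact hle ha
  have hg₁ : ∀ c : k, g₁.comp e.symm.toRingHom (algebraMap k k' c) = algebraMap k (B' ⧸ J) c := by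
    intro c
    obtain ⟨a, rfl⟩ := residue_surjective c
    show g₁ (e.symm (algebraMap k k' (residue A a))) = _
    rw [← he a, RingEquiv.symm_apply_apply]
    show Ideal.Quotient.mk J (algebraMap A' B' (algebraMap A A' a)) = _
    rw [← IsScalarTower.algebraMap_apply A A' B']
    rfl
  let f₁ : k' →ₐ[k] B' ⧸ J := { g₁.comp e.symm.toRingHom with commutes' := hg₁ }
  let g₂ : K →+* B' ⧸ J := Ideal.Quotient.lift (maximalIdeal B) ((Ideal.Quotient.mk J).comp (algebraMap B B'))
    fun b hb => Ideal.Quotient.eq_zero_iff_mem.2 (Ideal.mem_sup_right (Ideal.mem_map_of_mem _ hb))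
  have hg₂ : ∀ c : k, g₂ (algebraMap k K c) = algebraMap k (B' ⧸ J) c := by
    intro c
    obtain ⟨a, rfl⟩ := residue_surjective c
    show Ideal.Quotient.mk J (j (algebraMap A B a)) = _
    rw [j.commutes a]
    rfl
  let f₂ : K →ₐ[k] B' ⧸ J := { g₂ with commutes' := hg₂ }
  let ψ : k' ⊗[k] K →ₐ[k] B' ⧸ J := Algebra.TensorProduct.lift f₁ f₂ fun _ _ => Commute.all _ _
  have hψ : Function.Surjective ψ := by
    rw [← AlgHom.range_eq_top, eq_top_iff]
    rintro z -
    obtain ⟨z, rfl⟩ := Ideal.Quotient.mk_surjective z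
    induction z using TensorProduct.induction_on with
    | zero => rw [map_zero]; exact zero_mem _
    | add x y hx hy => rw [map_add]; exact add_mem hx hy
    | tmul a b =>
      refine ⟨e (Ideal.Quotient.mk _ a) ⊗ₜ residue B b, ?_⟩
      show Algebra.TensorProduct.lift f₁ f₂ _ (e (Ideal.Quotient.mk _ a) ⊗ₜ residue B b) = _
      rw [Algebra.TensorProduct.lift_tmul]
      show g₁ (e.symm (e (Ideal.Quotient.mk _ a))) * g₂ (residue B b) = _
      rw [RingEquiv.symm_apply_apply]
      show Ideal.Quotient.mk J (algebraMap A' B' a) * Ideal.Quotient.mk J (algebraMap B B' b) = _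
      rw [← map_mul, Algebra.TensorProduct.algebraMap_apply, Algebra.algebraMap_self, RingHom.id_apply,
        RingHom.algebraMap_toAlgebra]
      refine congrArg _ ?_
      show (a ⊗ₜ[A] (1 : B)) * ((1 : A') ⊗ₜ[A] b) = _
      rw [Algebra.TensorProduct.tmul_mul_tmul, mul_one, one_mul]
  have hu : ∀ z : B' ⧸ J, IsUnit z ∨ IsNilpotent z := fun z => by
    obtain ⟨x, rfl⟩ := hψ z
    exact (isUnit_or_isNilpotent_tensor x).imp (·.map ψ) (·.map ψ)
  haveI : IsLocalRing B' := by
    obtain ⟨Q, hQ⟩ := Ideal.exists_maximal B'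
    refine IsLocalRing.of_unique_max_ideal ⟨Q, hQ, fun P hP => hP.eq_of_le hQ.ne_top fun z hz => ?_⟩
    rcases hu (Ideal.Quotient.mk J z) with h | ⟨n, hn⟩
    · refine absurd ?_ hP.ne_top
      obtain ⟨w, hw⟩ := h.exists_left_inv
      obtain ⟨w, rfl⟩ := Ideal.Quotient.mk_surjective w
      rw [← map_mul, ← map_one (Ideal.Quotient.mk J), Ideal.Quotient.eq] at hw
      exact (Ideal.eq_top_iff_one _).2 (by simpa using P.sub_mem (P.mul_mem_left w hz) (hJQ P hP hw))
    · rw [← map_pow, Ideal.Quotient.eq_zero_iff_mem] at hn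
      exact hQ.isPrime.mem_of_pow_mem n (hJQ Q hQ hn)
  let m' := maximalIdeal B'
  have hJm : J ≤ m' := hJQ _ (maximalIdeal.isMaximal _)
  have hmJ : m' ≤ J.radical := fun z hz => by
    rcases hu (Ideal.Quotient.mk J z) with h | ⟨n, hn⟩
    · obtain ⟨w, hw⟩ := h.exists_left_inv
      obtain ⟨w, rfl⟩ := Ideal.Quotient.mk_surjective w
      rw [← map_mul, ← map_one (Ideal.Quotient.mk J), Ideal.Quotient.eq] at hw
      exact absurd ((Ideal.eq_top_iff_one _).2 (by simpa using m'.sub_mem (m'.mul_mem_left w hz) (hJm hw)))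
        (maximalIdeal.isMaximal _).ne_top
    · exact ⟨n, by rwa [← map_pow, Ideal.Quotient.eq_zero_iff_mem] at hn⟩
  have hJB : J = (maximalIdeal B).map (algebraMap B B') := by
    refine sup_eq_right.2 (Ideal.map_le_iff_le_comap.2 fun a ha => ?_)
    rw [Ideal.mem_comap, ← j.commutes a]
    exact Ideal.mem_map_of_mem _ (map_nonunit (algebraMap A B) a ha)
  haveI : IsLocalHom (algebraMap B B') := ((local_hom_TFAE _).out 0 2).mpr (hJB.ge.trans hJm)
  haveI : IsLocalHom (algebraMap A' B') := by
    refine ((local_hom_TFAE _).out 0 2).mpr ?_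
    rw [← hmA', Ideal.map_map, ← IsScalarTower.algebraMap_eq A A' B']
    exact le_sup_left.trans hJm
  -- completeness
  haveI : IsAdicComplete (maximalIdeal B') B' := by
    have h1 : IsAdicComplete (maximalIdeal B) B' := Adic7.isAdicComplete_of_finite _ _
    have h2 := (IsAdicComplete.map_algebraMap_iff (S := B') (maximalIdeal B) B').mpr h1
    rw [← hJB] at h2
    obtain ⟨N, hN⟩ := Ideal.exists_pow_le_of_le_radical_of_fg hmJ (IsNoetherian.noetherian _)
    exact isAdicComplete_of_equivalent hJm hN h2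
  -- formal smoothness
  have hfs' : CAlgX.IsAdicFormallySmooth A' B' (maximalIdeal B') := by
    have h1 := S4535.result (A' := A') (maximalIdeal A) (maximalIdeal B) (maximalIdeal A')
      ⟨1, by rw [pow_one]; exact hmA'.le⟩ hfs
    refine fs_of_isFormallySmoothAdic (IsLocalRing.map_maximalIdeal_le _) fun E _ _ I hI hk u hu => ?_
    obtain ⟨n, hn⟩ := hu
    refine h1 E I hI hk u ⟨n, fun x hx => hn x (Ideal.pow_right_mono (sup_le (IsLocalRing.map_maximalIdeal_le _) ?_) n hx)⟩
    rw [Ideal.map_le_iff_le_comap]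
    intro b hb
    exact hJm (Ideal.mem_sup_right (Ideal.mem_map_of_mem (algebraMap B B') hb))
  -- the residue extension is separable
  have hgr : Algebra.IsGeometricallyReduced (ResidueField A') (ResidueField B') := by
    let Ψ : k' ⊗[k] K →+* ResidueField B' :=
      (Ideal.Quotient.lift J (residue B') fun z hz => (residue_eq_zero_iff z).2 (hJm hz)).comp ψ.toRingHom
    have hΨs : Function.Surjective Ψ := fun y => by
      obtain ⟨z, rfl⟩ := residue_surjective y
      obtain ⟨x, hx⟩ := hψ (Ideal.Quotient.mk J z)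
      exact ⟨x, (congrArg _ hx).trans rfl⟩
    have hΨk : RingHom.ker Ψ = nilradical (k' ⊗[k] K) := by
      refine le_antisymm (fun x hx => ?_) fun x ⟨n, hn⟩ => ?_
      · refine (isUnit_or_isNilpotent_tensor x).resolve_left fun h => ?_
        exact (h.map Ψ).ne_zero hx
      · rw [RingHom.mem_ker]
        exact IsNilpotent.eq_zero ⟨n, by rw [← map_pow, hn, map_zero]⟩
    let T := (k' ⊗[k] K) ⧸ nilradical (k' ⊗[k] K)
    let eT : T ≃+* ResidueField B' :=
      (Ideal.quotEquivOfEq hΨk.symm).trans (RingHom.quotientKerEquivOfSurjective hΨs)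
    let ek : ResidueField A' ≃+* k' := (Ideal.quotEquivOfEq hmA'.symm).trans e
    refine isGeometricallyReduced_of_equiv ek eT.symm (fun x => ?_) hsep
    obtain ⟨a, rfl⟩ := residue_surjective x
    refine eT.symm_apply_eq.2 ?_
    show residue B' (algebraMap A' B' a) = Ψ (algebraMap k' (k' ⊗[k] K) (e (Ideal.Quotient.mk _ a)))
    symm
    have h1 : ψ (e (Ideal.Quotient.mk _ a) ⊗ₜ (1 : K)) = Ideal.Quotient.mk J (algebraMap A' B' a) := by
      show Algebra.TensorProduct.lift f₁ f₂ (fun _ _ => Commute.all _ _) _ = _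
      rw [Algebra.TensorProduct.lift_tmul, map_one, mul_one]
      show g₁ (e.symm (e (Ideal.Quotient.mk _ a))) = _
      rw [RingEquiv.symm_apply_apply]
      rfl
    exact (congrArg (Ideal.Quotient.lift J (residue B') fun z hz => (residue_eq_zero_iff z).2 (hJm hz)) h1).trans rfl
  refine ⟨A', B', inferInstance, inferInstance, inferInstance, inferInstance, inferInstance, inferInstance,
    algB, inferInstance, inferInstance, inferInstance, inferInstance, inferInstance, hmA', inferInstance,
    inferInstance, inferInstance, fun P hP hle => ?_, hfs', hgr, RingHom.ext fun a => ?_⟩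
  · refine le_antisymm (IsLocalRing.le_maximalIdeal hP.ne_top) (hmJ.trans ?_)
    rw [hJB]
    exact hP.radical_le_iff.2 hle
  · show j (algebraMap A B a) = algebraMap A' B' (algebraMap A A' a)
    rw [j.commutes a, ← IsScalarTower.algebraMap_apply A A' B']

/-- The complete case with a residue field of finite radicial multiplicity. -/
theorem isParafactorialLocalRing_of_complete (A B : Type u) [CommRing A] [CommRing B] [IsLocalRing A]
    [IsLocalRing B] [IsNoetherianRing A] [IsNoetherianRing B] [Algebra A B] [IsLocalHom (algebraMap A B)]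
    [IsAdicComplete (maximalIdeal B) B]
    (hfs : EGA41.IsFormallySmoothAdic A (maximalIdeal A) B (maximalIdeal B))
    (hdim : ringKrullDim A < ringKrullDim B) (hdepth : (3 : ℕ∞) ≤ LocCoh.depth B B)
    (k' : Type u) [Field k'] [Algebra (ResidueField A) k'] [Module.Finite (ResidueField A) k']
    [IsPurelyInseparable (ResidueField A) k']
    (hsep : Algebra.IsGeometricallyReduced k'
      ((k' ⊗[ResidueField A] ResidueField B) ⧸ nilradical (k' ⊗[ResidueField A] ResidueField B))) :
    ParaF.IsParafactorialLocalRing B := by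
  obtain ⟨A', B', _, _, _, _, _, _, _, _, _, _, hA'n, hA'f, hA'm, hB'n, hB'c, hB'f, hrad, hfs', hgr, -⟩ :=
    exists_insep_cover A B hfs k' hsep
  haveI := hA'n
  haveI := hA'f
  haveI := hB'n
  haveI := hB'c
  haveI := hB'f
  haveI := hgr
  have hd : ringKrullDim A' < ringKrullDim B' := by
    let I : Ideal A' := (maximalIdeal A).map (algebraMap A A')
    have hI : I.IsMaximal := (show I = maximalIdeal A' from hA'm) ▸ maximalIdeal.isMaximal A'
    haveI : Nontrivial (A' ⧸ I) := Ideal.Quotient.nontrivial_iff.2 hI.ne_top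
    haveI : IsLocalRing (A' ⧸ I) := IsLocalRing.of_surjective' (Ideal.Quotient.mk I) Ideal.Quotient.mk_surjective
    have h1 := Cohen4.dim_eq_of_flat (A := A) (B := A')
    rw [ringKrullDim_eq_zero_of_isField ((Ideal.Quotient.maximal_ideal_iff_isField_quotient I).1 hI),
      add_zero] at h1
    have h2 : ringKrullDim B ≤ ringKrullDim B' := by
      let I : Ideal B' := (maximalIdeal B).map (algebraMap B B')
      haveI : Nontrivial (B' ⧸ I) := Ideal.Quotient.nontrivial_iff.2
        (ne_top_of_le_ne_top (maximalIdeal.isMaximal B').ne_top (IsLocalRing.map_maximalIdeal_le _))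
      haveI : IsLocalRing (B' ⧸ I) := IsLocalRing.of_surjective' (Ideal.Quotient.mk I) Ideal.Quotient.mk_surjective
      rw [Cohen4.dim_eq_of_flat (A := B) (B := B')]
      exact le_add_of_nonneg_right ringKrullDim_nonneg_of_nontrivial
    exact h1 ▸ hdim.trans_le h2
  have hdep : (3 : ℕ∞) ≤ LocCoh.depth B' B' := le_depth_of_flat B B' (n := 3) hdepth
  exact isParafactorialLocalRing_of_flat B B' hrad (isParafactorialLocalRing_complete A' B' hfs' hd hdep)

end Groth.Agent.ParaF2
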