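import Groth.Agent.ParaF2.Frames

/-!
Frames extend to the neighbourhood of a point whose local punctured spectrum has trivial Picard group.
-/

universe u

open CategoryTheory CategoryTheory.Limits AlgebraicGeometry TopologicalSpace Opposite

set_option linter.style.haveILetI false

namespace Groth.Agent.ParaF2

open Groth.Agent.AModX Groth.Agent.InvX Groth.Agent.ParaFX Groth.Agent.H23.TrivBasic

section Localized

variable {R B : Type u} [CommRing R] [CommRing B] [Algebra R B]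

/-- A frame on a localized scheme comes from a section up to a unit. -/
theorem exists_locus_localization (S : Submonoid R) [IsLocalization S B] {W W' : Scheme.{u}}
    [CompactSpace W] [W.IsSeparated] {pA : W ⟶ Spec (CommRingCat.of R)}
    {pB : W' ⟶ Spec (CommRingCat.of B)} {φ : W' ⟶ W}
    (h : IsPullback φ pB pA (Spec.map (CommRingCat.ofHom (algebraMap R B))))
    {L : W.Modules} (hL : PicF.IsInvertible L) (htriv : Triv ((Scheme.Modules.pullback φ).obj L)) :
    ∃ m : Γ(L, ⊤), ∀ x : W', φ x ∈ locus m := by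
  classical
  haveI : Module.Flat R B := IsLocalization.flat B S
  obtain ⟨e, he⟩ := htriv.exists_frame
  obtain ⟨T, hT⟩ := BaseDescent.exists_combination h hL e
  obtain ⟨c, hc⟩ := IsLocalization.exist_integer_multiples S T fun p => p.1
  choose! a ha using hc
  let m : Γ(L, ⊤) := ∑ p ∈ T, (show Γ(W, ⊤) from Coh.toGlobal pA (a p)) • p.2
  have hcu : IsUnit (show Γ(W', φ ⁻¹ᵁ ⊤) from Coh.toGlobal pB (algebraMap R B c)) :=
    (IsLocalization.map_units B c).map (Coh.toGlobal pB)
  have hm : pullElt φ m = (show Γ(W', φ ⁻¹ᵁ ⊤) from Coh.toGlobal pB (algebraMap R B c)) •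
      (show Γ((Scheme.Modules.pullback φ).obj L, φ ⁻¹ᵁ ⊤) from e) := by
    rw [hT, Finset.smul_sum]
    show ((Scheme.Modules.pullbackPushforwardAdjunction φ).unit.app L).app ⊤ m = _
    rw [map_sum]
    refine Finset.sum_congr rfl fun p hp => ?_
    refine (pullElt_smul φ (show Γ(W, ⊤) from Coh.toGlobal pA (a p)) p.2).trans ?_
    rw [← mul_smul]
    refine congrArg (fun r : Γ(W', φ ⁻¹ᵁ ⊤) => r • pullElt φ p.2) ?_
    show φ.appTop (Coh.toGlobal pA (a p)) = Coh.toGlobal pB (algebraMap R B c) * Coh.toGlobal pB p.1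
    rw [← QCoh.toGlobal_comm pA pB φ h.w, ← map_mul, ha p hp, Algebra.smul_def]
  refine ⟨m, mem_locus_of_pullElt hL φ m ?_⟩
  show IsFrame (M := (Scheme.Modules.pullback φ).obj L) (U := ⊤) (pullElt φ m)
  rw [hm]
  exact he.isUnit_smul hcu

end Localized

/-- A point of the closure of a locally closed subset of a Noetherian spectrum is a specialization of a
point of the subset. -/
theorem exists_specializes {X : Type*} [TopologicalSpace X] [NoetherianSpace X] [QuasiSober X]
    {O C : Set X} (hO : IsOpen O) (hC : IsClosed C) {v : X} (hv : v ∈ closure (O ∩ C)) :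
    ∃ z ∈ O ∩ C, z ⤳ v := by
  obtain ⟨S, hSf, hSc, hSi, hCS⟩ := NoetherianSpace.exists_finite_set_isClosed_irreducible hC
  haveI : Finite S := hSf.to_subtype
  have hC' : C = ⋃ t : S, t.1 := hCS.trans (Set.sUnion_eq_iUnion)
  rw [hC', Set.inter_iUnion, closure_iUnion_of_finite] at hv
  obtain ⟨t, ht⟩ := Set.mem_iUnion.1 hv
  obtain ⟨g, hg⟩ := QuasiSober.sober (hSi t t.2) (hSc t t.2)
  have hne : (t.1 ∩ O).Nonempty := by
    rw [Set.inter_comm]
    exact closure_nonempty_iff.1 ⟨v, ht⟩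
  refine ⟨g, ⟨(hg.mem_open_set_iff hO).2 hne, ?_⟩, hg.specializes ?_⟩
  · rw [hC']
    exact Set.mem_iUnion.2 ⟨t, hg.mem⟩
  · exact (hSc t t.2).closure_subset_iff.2 Set.inter_subset_right ht

variable {R : Type u} [CommRing R] [IsNoetherianRing R]

/-- The frame at the new point. -/
theorem exists_frame_of_local {W : Scheme.{u}} (i : W ⟶ Spec (CommRingCat.of R)) [IsOpenImmersion i]
    (L : W.Modules) (hL : PicF.IsInvertible L) (v : PrimeSpectrum R) (hv : v ∉ i.opensRange)
    (hgen : ∀ q : PrimeSpectrum R, q ⤳ v → q ≠ v → q ∈ i.opensRange) {B : Type u} [CommRing B]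
    [IsLocalRing B] [Algebra R B] [IsLocalization.AtPrime B v.asIdeal]
    (hpic : ParaF.PicTrivial (FEt.puncturedSpec B : Scheme.{u})) :
    ∃ (N : (Spec (CommRingCat.of R)).Opens) (_ : v ∈ N) (e : Γ(L, i ⁻¹ᵁ N)), IsFrame e := by
  classical
  haveI : NoetherianSpace W := i.isOpenEmbedding.isInducing.noetherianSpace
  haveI : CompactSpace W := inferInstance
  haveI : IsSeparated (terminal.from W) := by
    rw [← terminal.comp_from i]; infer_instance
  haveI : W.IsSeparated := ⟨this⟩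
  let σ : Spec (CommRingCat.of B) ⟶ Spec (CommRingCat.of R) := Spec.map (CommRingCat.ofHom (algebraMap R B))
  have hσc : σ (IsLocalRing.closedPoint B) = v := by
    refine PrimeSpectrum.ext ?_
    exact IsLocalization.AtPrime.under_maximalIdeal B v.asIdeal
  have hσinj : Function.Injective σ := PrimeSpectrum.localization_comap_injective B v.asIdeal.primeCompl
  have hσv : ∀ w, σ w ⤳ v := fun w =>
    hσc ▸ (IsLocalRing.specializes_closedPoint w).map σ.continuous
  let P := pullback i σ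
  let φ : P ⟶ W := pullback.fst i σ
  let pB : P ⟶ Spec (CommRingCat.of B) := pullback.snd i σ
  have hr : Set.range pB = Set.range (FEt.puncturedSpec B).ι := by
    rw [Scheme.Pullback.range_snd, Scheme.Opens.range_ι]
    ext w
    refine ⟨fun hw hc => ?_, fun hw => ?_⟩
    · subst hc
      exact hv (hσc ▸ hw)
    · exact hgen _ (hσv w) fun h => hw (hσinj (h.trans hσc.symm))
  let θ : P ≅ (FEt.puncturedSpec B : Scheme.{u}) := IsOpenImmersion.isoOfRangeEq pB _ hr
  have htriv : Triv ((Scheme.Modules.pullback φ).obj L) := by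
    refine triv_of_isIso θ.inv ?_
    exact hpic _ (PicLoc.isInvertible_pullback _ (PicLoc.isInvertible_pullback _ hL))
  obtain ⟨m, hm⟩ := exists_locus_localization v.asIdeal.primeCompl (IsPullback.of_hasPullback i σ) hL htriv
  let O : Set (PrimeSpectrum R) := SetLike.coe (i ''ᵁ locus m)
  have hvcl : v ∉ closure (SetLike.coe i.opensRange ∩ Oᶜ) := by
    intro h
    obtain ⟨z, ⟨hzr, hzO⟩, hzv⟩ := exists_specializes i.opensRange.2 (i ''ᵁ locus m).isOpen.isClosed_compl h
    have hle : z.asIdeal ≤ v.asIdeal := (PrimeSpectrum.le_iff_specializes z v).2 hzv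
    have hzσ : z ∈ Set.range σ := by
      rw [show Set.range σ = Set.range (PrimeSpectrum.comap (algebraMap R B)) from rfl,
        PrimeSpectrum.localization_comap_range B v.asIdeal.primeCompl]
      exact Set.disjoint_left.2 fun a ha haz => ha (hle haz)
    obtain ⟨w, rfl⟩ := hzσ
    obtain ⟨x, hx⟩ := hzr
    obtain ⟨p, hp1, hp2⟩ := Scheme.Pullback.exists_preimage_pullback x w hx
    exact hzO ⟨x, hp1 ▸ hm p, hx⟩
  let N : (Spec (CommRingCat.of R)).Opens :=
    ⟨(closure (SetLike.coe i.opensRange ∩ Oᶜ))ᶜ, isClosed_closure.isOpen_compl⟩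
  refine ⟨N, hvcl, res L le_top m, isFrame_res_of_le_locus fun x hx => ?_⟩
  by_contra hxm
  refine hx (subset_closure ⟨⟨x, rfl⟩, ?_⟩)
  rintro ⟨y, hy, hyx⟩
  exact hxm (i.isOpenEmbedding.injective hyx ▸ hy)

omit [IsNoetherianRing R] in
/-- A frame of a direct image is a frame of the module. -/
theorem isFrame_of_push {W : Scheme.{u}} (i : W ⟶ Spec (CommRingCat.of R)) [IsOpenImmersion i]
    (hi : ∀ O, Function.Bijective (i.app O)) {L : W.Modules} {N : (Spec (CommRingCat.of R)).Opens}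
    {e : Γ(L, i ⁻¹ᵁ N)} (he : IsFrame (M := (Scheme.Modules.pushforward i).obj L) (U := N) e) :
    IsFrame e := fun V hV => by
  have hO : i ''ᵁ V ≤ N := by
    rintro _ ⟨x, hx, rfl⟩
    exact hV hx
  obtain ⟨V', rfl, hO'⟩ : ∃ V', i ⁻¹ᵁ V' = V ∧ V' ≤ N := ⟨i ''ᵁ V, i.preimage_image_eq V, hO⟩
  exact (Function.Bijective.of_comp_iff _ (hi V')).1 (he V' hO')

/-- Frames near all points, from the local Picard groups outside the open. -/
theorem framesNear_of_local {W : Scheme.{u}} (i : W ⟶ Spec (CommRingCat.of R)) [IsOpenImmersion i]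
    (hi : ∀ O, Function.Bijective (i.app O)) (L : W.Modules) (hL : PicF.IsInvertible L)
    (hpic : ∀ v : PrimeSpectrum R, v ∉ i.opensRange → ∃ (B : Type u) (_ : CommRing B) (_ : IsLocalRing B)
      (_ : Algebra R B), IsLocalization.AtPrime B v.asIdeal ∧
        ParaF.PicTrivial (FEt.puncturedSpec B : Scheme.{u})) : FramesNear i L := by
  let G : (Spec (CommRingCat.of R)).Opens :=
    ⟨{q | ∃ (N : (Spec (CommRingCat.of R)).Opens) (_ : q ∈ N) (e : Γ(L, i ⁻¹ᵁ N)), IsFrame e},
      isOpen_iff_forall_mem_open.2 fun q ⟨N, hq, e, he⟩ => ⟨N, fun y hy => ⟨N, hy, e, he⟩, N.isOpen, hq⟩⟩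
  have hrG : i.opensRange ≤ G := by
    rintro _ ⟨x, rfl⟩
    obtain ⟨O, hxO, e, he⟩ := InvX.exists_frame hL x
    exact ⟨i ''ᵁ O, ⟨x, hxO, rfl⟩, _, he.res (i.preimage_image_eq O).le⟩
  by_contra hne
  obtain ⟨v, hvC, hmin⟩ : ∃ v ∈ (SetLike.coe G : Set (PrimeSpectrum R))ᶜ,
      ∀ q : PrimeSpectrum R, q ⤳ v → q ≠ v → q ∈ G := by
    have hC : IsClosed (SetLike.coe G : Set (PrimeSpectrum R))ᶜ := G.isOpen.isClosed_compl
    obtain ⟨v₀, hv₀⟩ : ((SetLike.coe G : Set (PrimeSpectrum R))ᶜ).Nonempty := by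
      by_contra h
      exact hne fun v => by_contra fun hv => h ⟨v, hv⟩
    obtain ⟨I, hI⟩ := (PrimeSpectrum.isClosed_iff_zeroLocus_ideal _).1 hC
    rw [hI] at hv₀ ⊢
    obtain ⟨p, hp, -⟩ := Ideal.exists_minimalPrimes_le (J := v₀.asIdeal) hv₀
    refine ⟨⟨p, hp.1.1⟩, hp.1.2, fun q hq hqp => by_contra fun hqG => hqp ?_⟩
    have hqI : I ≤ q.asIdeal := by
      have : q ∈ PrimeSpectrum.zeroLocus (I : Set R) := hI ▸ hqG
      exact this
    have hle : q.asIdeal ≤ p := (PrimeSpectrum.le_iff_specializes q ⟨p, hp.1.1⟩).2 hq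
    exact PrimeSpectrum.ext (le_antisymm hle (hp.2 ⟨q.2, hqI⟩ hle))
  let M := (Scheme.Modules.pushforward i).obj L
  have hLG : PicF.IsInvertible (M.restrict G.ι) := fun x => by
    obtain ⟨N, hxN, e, he⟩ := x.2
    refine ⟨G.ι ⁻¹ᵁ N, hxN, InvUfdLib.nonempty_iso_restrict_of_frame
      (InvUfdLib.isFrame_restrict G.ι ((isFrame_push i hi L he).res (G.ι.image_preimage_le N)))⟩
  obtain ⟨B, _, _, _, hB, hB'⟩ := hpic v fun h => hvC (hrG h)
  obtain ⟨N, hvN, e, he⟩ := exists_frame_of_local G.ι (M.restrict G.ι) hLG v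
    (by rw [Scheme.Opens.opensRange_ι]; exact hvC) (by rw [Scheme.Opens.opensRange_ι]; exact hmin) hB'
  have hle : i ⁻¹ᵁ N ≤ i ⁻¹ᵁ G.ι ''ᵁ G.ι ⁻¹ᵁ N := fun x hx => ⟨⟨i x, hrG ⟨x, rfl⟩⟩, hx, rfl⟩
  exact hvC ⟨N, hvN, _, (isFrame_of_push i hi (InvUfdLib.isFrame_of_restrict G.ι he)).res hle⟩

end Groth.Agent.ParaF2
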