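import Groth.Agent.EGA41Lib.RegSeqPow
import Groth.Agent.LC.PuncturedConn
import Mathlib.RingTheory.AdicCompletion.Basic
import Mathlib.RingTheory.Filtration
import Mathlib.LinearAlgebra.FreeModule.Basic

/-!
Three elements regular on a module together with all their powers, and passage from the graded pieces of
an adic filtration to the ring.
-/

set_option autoImplicit false
set_option linter.style.haveILetI false

universe u v w

open IsLocalRing
open scoped Pointwise

namespace Groth.Agent.ParaF2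

variable {A : Type u} [CommRing A]

/-- The powers of `x, y, z` form regular sequences on `M`. -/
structure RegTriple (x y z : A) (M : Type v) [AddCommGroup M] [Module A M] : Prop where
  h1 : ∀ (n : ℕ) (m : M), x ^ n • m = 0 → m = 0
  h2 : ∀ (n : ℕ) (m m' : M), y ^ n • m = x ^ n • m' → ∃ p, m = x ^ n • p
  h3 : ∀ (n : ℕ) (m m' m'' : M), z ^ n • m = x ^ n • m' + y ^ n • m'' → ∃ p q, m = x ^ n • p + y ^ n • q

variable {x y z : A} {M : Type v} [AddCommGroup M] [Module A M]

theorem RegTriple.of_equiv {N : Type w} [AddCommGroup N] [Module A N] (e : M ≃ₗ[A] N)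
    (h : RegTriple x y z M) : RegTriple x y z N where
  h1 n m hm := e.symm.map_eq_zero_iff.1 (h.h1 n _ (by rw [← map_smul, hm, map_zero]))
  h2 n m m' hm := by
    obtain ⟨p, hp⟩ := h.h2 n (e.symm m) (e.symm m') (by rw [← map_smul, hm, map_smul])
    exact ⟨e p, by rw [← map_smul, ← hp, LinearEquiv.apply_symm_apply]⟩
  h3 n m m' m'' hm := by
    obtain ⟨p, q, hp⟩ := h.h3 n (e.symm m) (e.symm m') (e.symm m'') (by
      rw [← map_smul, hm, map_add, map_smul, map_smul])
    exact ⟨e p, e q, by rw [← map_smul, ← map_smul, ← map_add, ← hp, LinearEquiv.apply_symm_apply]⟩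

theorem RegTriple.pi {ι : Type w} (h : RegTriple x y z M) : RegTriple x y z (ι → M) where
  h1 n m hm := funext fun i => h.h1 n _ (congrFun hm i)
  h2 n m m' hm := by
    choose p hp using fun i => h.h2 n (m i) (m' i) (congrFun hm i)
    exact ⟨p, funext hp⟩
  h3 n m m' m'' hm := by
    choose p q hp using fun i => h.h3 n (m i) (m' i) (m'' i) (congrFun hm i)
    exact ⟨p, q, funext hp⟩

theorem RegTriple.prod {N : Type w} [AddCommGroup N] [Module A N] (h : RegTriple x y z M)
    (h' : RegTriple x y z N) : RegTriple x y z (M × N) where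
  h1 n m hm := Prod.ext (h.h1 n _ (congrArg Prod.fst hm)) (h'.h1 n _ (congrArg Prod.snd hm))
  h2 n m m' hm := by
    obtain ⟨p, hp⟩ := h.h2 n _ _ (congrArg Prod.fst hm)
    obtain ⟨q, hq⟩ := h'.h2 n _ _ (congrArg Prod.snd hm)
    exact ⟨(p, q), Prod.ext hp hq⟩
  h3 n m m' m'' hm := by
    obtain ⟨p, q, hp⟩ := h.h3 n _ _ _ (congrArg Prod.fst hm)
    obtain ⟨p', q', hp'⟩ := h'.h3 n _ _ _ (congrArg Prod.snd hm)
    exact ⟨(p, p'), (q, q'), Prod.ext hp hp'⟩

theorem RegTriple.finsupp {ι : Type w} (h : RegTriple x y z M) : RegTriple x y z (ι →₀ M) where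
  h1 n m hm := Finsupp.ext fun i => h.h1 n _ (by simpa using DFunLike.congr_fun hm i)
  h2 n m m' hm := by
    classical
    choose p hp using fun i => h.h2 n (m i) (m' i) (by simpa using DFunLike.congr_fun hm i)
    refine ⟨Finsupp.onFinset m.support (fun i => if m i = 0 then 0 else p i) (fun i hi => ?_), ?_⟩
    · simp only [Finsupp.mem_support_iff]; intro h0; simp [h0] at hi
    · ext i
      by_cases h0 : m i = 0
      · simp [h0]
      · simpa [h0] using hp i
  h3 n m m' m'' hm := by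
    classical
    choose p q hp using fun i => h.h3 n (m i) (m' i) (m'' i) (by simpa using DFunLike.congr_fun hm i)
    refine ⟨Finsupp.onFinset m.support (fun i => if m i = 0 then 0 else p i) (fun i hi => ?_),
      Finsupp.onFinset m.support (fun i => if m i = 0 then 0 else q i) (fun i hi => ?_), ?_⟩
    · simp only [Finsupp.mem_support_iff]; intro h0; simp [h0] at hi
    · simp only [Finsupp.mem_support_iff]; intro h0; simp [h0] at hi
    · ext i
      by_cases h0 : m i = 0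
      · simp [h0]
      · simpa [h0] using hp i

/-- Free modules over a quotient ring. -/
theorem RegTriple.free {J : Ideal A} {G : Type u} [AddCommGroup G] [Module A G] [Module (A ⧸ J) G]
    [IsScalarTower A (A ⧸ J) G] [Module.Free (A ⧸ J) G] (h : RegTriple x y z (A ⧸ J)) :
    RegTriple x y z G :=
  h.finsupp.of_equiv ((Module.Free.chooseBasis (A ⧸ J) G).repr.symm.restrictScalars A)

/-- One step of a regular sequence from the graded pieces. -/
theorem reg_step (J P : Ideal A) (z : A) (hcap : ∀ k, P ⊓ J ^ k ≤ P * J ^ k ⊔ J ^ (k + 1))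
    (hreg : ∀ k, ∀ b ∈ J ^ k, z * b ∈ P * J ^ k ⊔ J ^ (k + 1) → b ∈ P * J ^ k ⊔ J ^ (k + 1)) :
    (∀ m b, z * b ∈ P ⊔ J ^ m → b ∈ P ⊔ J ^ m) ∧
      ∀ k, (P ⊔ Ideal.span {z}) ⊓ J ^ k ≤ (P ⊔ Ideal.span {z}) * J ^ k ⊔ J ^ (k + 1) := by
  have H : ∀ m b, z * b ∈ P ⊔ J ^ m → b ∈ P ⊔ J ^ m := by
    intro m
    induction m with
    | zero => intro b _; simp
    | succ m ih =>
      intro b hb
      obtain ⟨p, hp, b', hb', rfl⟩ := Submodule.mem_sup.1
        (ih b (sup_le_sup_left (Ideal.pow_le_pow_right (Nat.le_succ m)) P hb))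
      have h1 : z * b' ∈ P ⊔ J ^ (m + 1) := by
        have := Submodule.sub_mem _ hb (Ideal.mem_sup_left (Ideal.mul_mem_left P z hp))
        rwa [show z * (p + b') - z * p = z * b' by ring] at this
      obtain ⟨p1, hp1, j, hj, hpj⟩ := Submodule.mem_sup.1 h1
      have hp1' : p1 ∈ P * J ^ m ⊔ J ^ (m + 1) := hcap m ⟨hp1, by
        rw [eq_sub_of_add_eq hpj]
        exact Submodule.sub_mem _ (Ideal.mul_mem_left _ z hb') (Ideal.pow_le_pow_right (Nat.le_succ m) hj)⟩
      have h2 : b' ∈ P * J ^ m ⊔ J ^ (m + 1) := hreg m b' hb' (by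
        rw [← hpj]; exact Submodule.add_mem _ hp1' (Ideal.mem_sup_right hj))
      have hle : P * J ^ m ⊔ J ^ (m + 1) ≤ P ⊔ J ^ (m + 1) := sup_le_sup_right Ideal.mul_le_left _
      exact Submodule.add_mem _ (Ideal.mem_sup_left hp) (hle h2)
  refine ⟨H, fun k e he => ?_⟩
  obtain ⟨hePz, hek⟩ := he
  obtain ⟨p, hp, w, hw, rfl⟩ := Submodule.mem_sup.1 hePz
  obtain ⟨b, rfl⟩ := Ideal.mem_span_singleton'.1 hw
  obtain ⟨p', hp', b', hb', rfl⟩ := Submodule.mem_sup.1 (H k b (by
    rw [show z * b = (p + b * z) - p by ring]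
    exact Submodule.sub_mem _ (Ideal.mem_sup_right hek) (Ideal.mem_sup_left hp)))
  rw [show p + (p' + b') * z = (p + p' * z) + z * b' by ring]
  refine Submodule.add_mem _ ?_ (Ideal.mem_sup_left (Ideal.mul_mem_mul
    (Ideal.mem_sup_right (Ideal.mem_span_singleton_self z)) hb'))
  have hle : P * J ^ k ⊔ J ^ (k + 1) ≤ (P ⊔ Ideal.span {z}) * J ^ k ⊔ J ^ (k + 1) :=
    sup_le_sup_right (Ideal.mul_mono_left le_sup_left) _
  refine hle (hcap k ⟨Submodule.add_mem _ hp (Ideal.mul_mem_right _ _ hp'), ?_⟩)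
  rw [show p + p' * z = (p + (p' + b') * z) - b' * z by ring]
  exact Submodule.sub_mem _ hek (Ideal.mul_mem_right _ _ hb')

/-- The graded pieces of the filtration. -/
abbrev Gr (J : Ideal A) (n : ℕ) : Type u := ↥(J ^ n) ⧸ (J • (⊤ : Submodule A ↥(J ^ n)))

theorem mkGr_eq_zero {J : Ideal A} {n : ℕ} (w : ↥(J ^ n)) :
    (Submodule.Quotient.mk w : Gr J n) = 0 ↔ (w : A) ∈ J ^ (n + 1) := by
  rw [Submodule.Quotient.mk_eq_zero, Submodule.mem_smul_top_iff, smul_eq_mul, ← pow_succ']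

variable [IsNoetherianRing A] [IsLocalRing A]

theorem mem_of_forall_mem_sup {J : Ideal A} (hJ : J ≠ ⊤) (P : Ideal A) {b : A}
    (h : ∀ m, b ∈ P ⊔ J ^ m) : b ∈ P := by
  rw [← Ideal.Quotient.eq_zero_iff_mem]
  by_cases hP : P = ⊤
  · rw [Ideal.Quotient.eq_zero_iff_mem, hP]; trivial
  haveI : IsHausdorff J (A ⧸ P) := IsHausdorff.of_le_jacobson J (M := A ⧸ P) ((le_maximalIdeal hJ).trans
    (maximalIdeal_le_jacobson _))
  refine IsHausdorff.haus' (I := J) _ fun m => SModEq.zero.2 ?_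
  obtain ⟨p, hp, j, hj, rfl⟩ := Submodule.mem_sup.1 (h m)
  rw [map_add, Ideal.Quotient.eq_zero_iff_mem.2 hp, zero_add, show Ideal.Quotient.mk P j =
    j • (1 : A ⧸ P) by rw [Algebra.smul_def, mul_one]; rfl]
  exact Submodule.smul_mem_smul hj trivial

/-- Regularity passes from the graded pieces to the ring. -/
theorem regTriple_of_gr {J : Ideal A} (hJ : J ≠ ⊤) (h : ∀ k, RegTriple x y z (Gr J k)) :
    RegTriple x y z A := by
  have key : ∀ n, (∀ m b, x ^ n * b ∈ (⊥ : Ideal A) ⊔ J ^ m → b ∈ (⊥ : Ideal A) ⊔ J ^ m) ∧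
      (∀ m b, y ^ n * b ∈ Ideal.span {x ^ n} ⊔ J ^ m → b ∈ Ideal.span {x ^ n} ⊔ J ^ m) ∧
      (∀ m b, z ^ n * b ∈ (Ideal.span {x ^ n} ⊔ Ideal.span {y ^ n}) ⊔ J ^ m →
        b ∈ (Ideal.span {x ^ n} ⊔ Ideal.span {y ^ n}) ⊔ J ^ m) := by
    intro n
    obtain ⟨H1, C1⟩ := reg_step J ⊥ (x ^ n) (fun k => by simp) (by
      intro k b hb hxb
      rw [Submodule.bot_mul, bot_sup_eq] at hxb ⊢
      have := (h k).h1 n (Submodule.Quotient.mk ⟨b, hb⟩) (by
        rw [← Submodule.Quotient.mk_smul, mkGr_eq_zero]; exact hxb)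
      exact (mkGr_eq_zero _).1 this)
    simp only [bot_sup_eq] at C1
    obtain ⟨H2, C2⟩ := reg_step J (Ideal.span {x ^ n}) (y ^ n) C1 (by
      intro k b hb hyb
      obtain ⟨e, he, j, hj, hej⟩ := Submodule.mem_sup.1 hyb
      obtain ⟨e', he', rfl⟩ := Ideal.mem_span_singleton_mul.1 he
      obtain ⟨p, hp⟩ := (h k).h2 n (Submodule.Quotient.mk ⟨b, hb⟩) (Submodule.Quotient.mk ⟨e', he'⟩) (by
        rw [← Submodule.Quotient.mk_smul, ← Submodule.Quotient.mk_smul, ← sub_eq_zero,
          ← Submodule.Quotient.mk_sub, mkGr_eq_zero]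
        show y ^ n * b - x ^ n * e' ∈ _
        rwa [← hej, add_sub_cancel_left])
      obtain ⟨⟨p', hp'⟩, rfl⟩ := Submodule.Quotient.mk_surjective _ p
      rw [← Submodule.Quotient.mk_smul, ← sub_eq_zero, ← Submodule.Quotient.mk_sub, mkGr_eq_zero] at hp
      rw [show b = x ^ n * p' + (b - x ^ n * p') by ring]
      exact Submodule.add_mem _ (Ideal.mem_sup_left (Ideal.mul_mem_mul (Ideal.mem_span_singleton_self _) hp'))
        (Ideal.mem_sup_right hp))
    obtain ⟨H3, -⟩ := reg_step J (Ideal.span {x ^ n} ⊔ Ideal.span {y ^ n}) (z ^ n) C2 (by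
      intro k b hb hzb
      rw [Submodule.sup_mul] at hzb ⊢
      obtain ⟨e, he, j, hj, hej⟩ := Submodule.mem_sup.1 hzb
      obtain ⟨e1, he1, e2, he2, rfl⟩ := Submodule.mem_sup.1 he
      obtain ⟨e1', he1', rfl⟩ := Ideal.mem_span_singleton_mul.1 he1
      obtain ⟨e2', he2', rfl⟩ := Ideal.mem_span_singleton_mul.1 he2
      obtain ⟨p, q, hp⟩ := (h k).h3 n (Submodule.Quotient.mk ⟨b, hb⟩) (Submodule.Quotient.mk ⟨e1', he1'⟩)
        (Submodule.Quotient.mk ⟨e2', he2'⟩) (by
        rw [← Submodule.Quotient.mk_smul, ← Submodule.Quotient.mk_smul, ← Submodule.Quotient.mk_smul,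
          ← Submodule.Quotient.mk_add, ← sub_eq_zero, ← Submodule.Quotient.mk_sub, mkGr_eq_zero]
        show z ^ n * b - (x ^ n * e1' + y ^ n * e2') ∈ _
        rwa [← hej, add_sub_cancel_left])
      obtain ⟨⟨p', hp'⟩, rfl⟩ := Submodule.Quotient.mk_surjective _ p
      obtain ⟨⟨q', hq'⟩, rfl⟩ := Submodule.Quotient.mk_surjective _ q
      rw [← Submodule.Quotient.mk_smul, ← Submodule.Quotient.mk_smul, ← Submodule.Quotient.mk_add,
        ← sub_eq_zero, ← Submodule.Quotient.mk_sub, mkGr_eq_zero] at hp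
      rw [show b = (x ^ n * p' + y ^ n * q') + (b - (x ^ n * p' + y ^ n * q')) by ring]
      exact Submodule.add_mem _ (Ideal.mem_sup_left (Submodule.add_mem _
        (Ideal.mem_sup_left (Ideal.mul_mem_mul (Ideal.mem_span_singleton_self _) hp'))
        (Ideal.mem_sup_right (Ideal.mul_mem_mul (Ideal.mem_span_singleton_self _) hq'))))
        (Ideal.mem_sup_right hp))
    exact ⟨H1, H2, H3⟩
  refine ⟨fun n m hm => ?_, fun n m m' hm => ?_, fun n m m' m'' hm => ?_⟩
  · refine (Submodule.mem_bot A).1 (mem_of_forall_mem_sup hJ ⊥ fun k => (key n).1 k m ?_)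
    rw [show x ^ n * m = 0 from hm]; exact Submodule.zero_mem _
  · obtain ⟨p, hp⟩ := Ideal.mem_span_singleton'.1 (mem_of_forall_mem_sup hJ _ fun k =>
      (key n).2.1 k m (Ideal.mem_sup_left (Ideal.mem_span_singleton'.2 ⟨m', by
        rw [mul_comm]; exact hm.symm⟩)))
    exact ⟨p, by rw [smul_eq_mul, mul_comm, hp]⟩
  · obtain ⟨e1, he1, e2, he2, he⟩ := Submodule.mem_sup.1 (mem_of_forall_mem_sup hJ _ fun k =>
      (key n).2.2 k m (Ideal.mem_sup_left (show z ^ n * m ∈ _ by
        rw [show z ^ n * m = x ^ n * m' + y ^ n * m'' from hm]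
        exact Submodule.add_mem _ (Ideal.mem_sup_left (Ideal.mul_mem_right _ _ (Ideal.mem_span_singleton_self _)))
          (Ideal.mem_sup_right (Ideal.mul_mem_right _ _ (Ideal.mem_span_singleton_self _))))))
    obtain ⟨p, rfl⟩ := Ideal.mem_span_singleton'.1 he1
    obtain ⟨q, rfl⟩ := Ideal.mem_span_singleton'.1 he2
    exact ⟨p, q, by rw [← he, smul_eq_mul, smul_eq_mul]; ring⟩

theorem exists_regTriple {M : Type u} [AddCommGroup M] [Module A M] [Module.Finite A M] [Nontrivial M]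
    (h : (3 : ℕ∞) ≤ LocCoh.depth A M) :
    ∃ x ∈ maximalIdeal A, ∃ y ∈ maximalIdeal A, ∃ z ∈ maximalIdeal A, RegTriple x y z M := by
  obtain ⟨rs, hrs, hmem, hlen⟩ := Alg6.exists_length_ge_of_le_idealDepth (n := 3)
    (LC.smul_top_ne_top_of_le_maximal (R := A) (M := M) (J := maximalIdeal A) le_rfl) h
  obtain ⟨x, rs, rfl⟩ := List.exists_cons_of_ne_nil (show rs ≠ [] by rintro rfl; simp at hlen)
  obtain ⟨y, rs, rfl⟩ := List.exists_cons_of_ne_nil (show rs ≠ [] by rintro rfl; simp at hlen)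
  obtain ⟨z, rs, rfl⟩ := List.exists_cons_of_ne_nil (show rs ≠ [] by rintro rfl; simp at hlen)
  refine ⟨x, hmem x (by simp), y, hmem y (by simp), z, hmem z (by simp), ?_⟩
  have h3 : RingTheory.Sequence.IsWeaklyRegular M [x, y, z] := by
    rw [RingTheory.Sequence.isWeaklyRegular_cons_iff, RingTheory.Sequence.isWeaklyRegular_cons_iff,
      RingTheory.Sequence.isWeaklyRegular_cons_iff] at hrs ⊢
    exact ⟨hrs.1, hrs.2.1, hrs.2.2.1, RingTheory.Sequence.IsWeaklyRegular.nil _ _⟩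
  have hpow : ∀ n : ℕ, 1 ≤ n → RingTheory.Sequence.IsWeaklyRegular M [x ^ n, y ^ n, z ^ n] := fun n hn => by
    have := EGA41Lib.isWeaklyRegular_pow 3 (M := M) ![x, y, z] (fun _ => n) (fun _ => hn)
      (by simpa [List.ofFn_succ] using h3)
    simpa [List.ofFn_succ] using this
  refine ⟨fun n m hm => ?_, fun n m m' hm => ?_, fun n m m' m'' hm => ?_⟩
  all_goals rcases Nat.eq_zero_or_pos n with rfl | hn
  · simpa using hm
  · have := (RingTheory.Sequence.isWeaklyRegular_cons_iff _ _ _).1 (hpow n hn)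
    exact this.1.right_eq_zero_of_smul hm
  · exact ⟨m, by simp⟩
  · simp only [RingTheory.Sequence.isWeaklyRegular_cons_iff] at hpow
    have hz := (hpow n hn).2.1.right_eq_zero_of_smul (x := Submodule.Quotient.mk m) (by
      rw [← Submodule.Quotient.mk_smul, Submodule.Quotient.mk_eq_zero, hm]
      exact Submodule.smul_mem_pointwise_smul m' _ ⊤ trivial)
    obtain ⟨p, -, hp⟩ := (Submodule.mem_smul_pointwise_iff_exists _ _ _).1
      ((Submodule.Quotient.mk_eq_zero _).1 hz)
    exact ⟨p, hp.symm⟩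
  · exact ⟨m, 0, by simp⟩
  · simp only [RingTheory.Sequence.isWeaklyRegular_cons_iff] at hpow
    have hz := (hpow n hn).2.2.1.right_eq_zero_of_smul
      (x := Submodule.Quotient.mk (Submodule.Quotient.mk m)) (by
      rw [← Submodule.Quotient.mk_smul, ← Submodule.Quotient.mk_smul, hm, Submodule.Quotient.mk_eq_zero,
        Submodule.Quotient.mk_add, (Submodule.Quotient.mk_eq_zero _).2
          (Submodule.smul_mem_pointwise_smul m' _ ⊤ trivial), zero_add, Submodule.Quotient.mk_smul]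
      exact Submodule.smul_mem_pointwise_smul _ _ ⊤ trivial)
    obtain ⟨q', -, hq⟩ := (Submodule.mem_smul_pointwise_iff_exists _ _ _).1
      ((Submodule.Quotient.mk_eq_zero _).1 hz)
    obtain ⟨q, rfl⟩ := Submodule.Quotient.mk_surjective _ q'
    rw [← Submodule.Quotient.mk_smul, ← sub_eq_zero, ← Submodule.Quotient.mk_sub,
      Submodule.Quotient.mk_eq_zero] at hq
    obtain ⟨p, -, hp⟩ := (Submodule.mem_smul_pointwise_iff_exists _ _ _).1 hq
    exact ⟨-p, q, by rw [smul_neg, hp]; abel⟩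

theorem RegTriple.le_depth (h : RegTriple x y z A) (hx : x ∈ maximalIdeal A) (hy : y ∈ maximalIdeal A)
    (hz : z ∈ maximalIdeal A) : (3 : ℕ∞) ≤ LocCoh.depth A A := by
  refine Alg6.length_le_idealDepth (rs := [x, y, z]) ?_ (fun r hr => by
    simp only [List.mem_cons, List.not_mem_nil, or_false] at hr
    rcases hr with rfl | rfl | rfl <;> assumption)
  simp only [RingTheory.Sequence.isWeaklyRegular_cons_iff, isSMulRegular_iff_right_eq_zero_of_smul]
  refine ⟨fun m hm => h.h1 1 m (by rwa [pow_one]), fun m hm => ?_, fun m hm => ?_,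
    RingTheory.Sequence.IsWeaklyRegular.nil _ _⟩
  · obtain ⟨m, rfl⟩ := Submodule.Quotient.mk_surjective _ m
    rw [← Submodule.Quotient.mk_smul, Submodule.Quotient.mk_eq_zero] at hm
    obtain ⟨m', -, hm'⟩ := (Submodule.mem_smul_pointwise_iff_exists _ _ _).1 hm
    obtain ⟨p, hp⟩ := h.h2 1 m m' (by rw [pow_one, pow_one]; exact hm'.symm)
    rw [Submodule.Quotient.mk_eq_zero, hp, pow_one]
    exact Submodule.smul_mem_pointwise_smul p _ ⊤ trivial
  · obtain ⟨m, rfl⟩ := Submodule.Quotient.mk_surjective _ m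
    obtain ⟨m, rfl⟩ := Submodule.Quotient.mk_surjective _ m
    rw [← Submodule.Quotient.mk_smul, ← Submodule.Quotient.mk_smul, Submodule.Quotient.mk_eq_zero] at hm
    obtain ⟨q', -, hq⟩ := (Submodule.mem_smul_pointwise_iff_exists _ _ _).1 hm
    obtain ⟨q, rfl⟩ := Submodule.Quotient.mk_surjective _ q'
    rw [← Submodule.Quotient.mk_smul, ← sub_eq_zero, ← Submodule.Quotient.mk_sub,
      Submodule.Quotient.mk_eq_zero] at hq
    obtain ⟨m', -, hm'⟩ := (Submodule.mem_smul_pointwise_iff_exists _ _ _).1 hq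
    obtain ⟨p, p', hp⟩ := h.h3 1 m (-m') q (by rw [pow_one, pow_one, pow_one, smul_neg, hm']; abel)
    rw [Submodule.Quotient.mk_eq_zero, hp, pow_one, pow_one, Submodule.Quotient.mk_add,
      (Submodule.Quotient.mk_eq_zero _).2 (Submodule.smul_mem_pointwise_smul p _ ⊤ trivial), zero_add,
      Submodule.Quotient.mk_smul]
    exact Submodule.smul_mem_pointwise_smul _ _ ⊤ trivial

end Groth.Agent.ParaF2
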